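import Mathlib.RingTheory.LocalProperties.ProjectiveDimension
import Mathlib.Algebra.Category.ModuleCat.ProjectiveDimension
import Mathlib.Algebra.Homology.ShortComplex.ModuleCat
import Mathlib.RingTheory.Flat.FaithfullyFlat.Basic
import Mathlib.RingTheory.Flat.EquationalCriterion
import Mathlib.RingTheory.Spectrum.Prime.FreeLocus
import Mathlib.RingTheory.LocalRing.Module

set_option autoImplicit false
universe u
open CategoryTheory

namespace Groth.Agent.EGA4H10

theorem hasPD_zero_iff {R : Type u} [CommRing R] (M : Type u) [AddCommGroup M] [Module R M] :
    HasProjectiveDimensionLE (ModuleCat.of R M) 0 ↔ Module.Projective R M := by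
  rw [HasProjectiveDimensionLE, zero_add, ← projective_iff_hasProjectiveDimensionLT_one,
    ← IsProjective.iff_projective]

theorem hasPD_succ_iff {R : Type u} [CommRing R] {K P M : Type u} [AddCommGroup K] [Module R K]
    [AddCommGroup P] [Module R P] [AddCommGroup M] [Module R M] [Module.Projective R P]
    (g : K →ₗ[R] P) (f : P →ₗ[R] M) (hg : Function.Injective g) (hex : Function.Exact g f)
    (hf : Function.Surjective f) (n : ℕ) :
    HasProjectiveDimensionLE (ModuleCat.of R M) (n + 1) ↔
      HasProjectiveDimensionLE (ModuleCat.of R K) n := by
  have S_exact := LinearMap.shortExact_shortComplexKer hf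
  have proj : Projective f.shortComplexKer.X₂ := by
    change Projective (ModuleCat.of R P)
    rw [← IsProjective.iff_projective]; infer_instance
  have e : K ≃ₗ[R] LinearMap.ker f :=
    (LinearEquiv.ofInjective g hg).trans (LinearEquiv.ofEq _ _ (LinearMap.exact_iff.mp hex).symm)
  simp only [← projectiveDimension_le_iff]
  rw [ModuleCat.projectiveDimension_eq_of_linearEquiv (M := ModuleCat.of R K)
    (N := ModuleCat.of R (LinearMap.ker f)) e]
  simp only [projectiveDimension_le_iff]
  exact S_exact.hasProjectiveDimensionLT_X₃_iff n proj

theorem le_of_forall_nat_imp {a b : WithBot ℕ∞} (hbot : b = ⊥ → a = ⊥) (h : ∀ n : ℕ, b ≤ n → a ≤ n) :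
    a ≤ b := by
  induction b with
  | bot => rw [hbot rfl]
  | coe N =>
    induction N with
    | top => simp
    | coe n => simpa using h n le_rfl

open TensorProduct in
theorem hasPD_baseChange {A : Type u} (B : Type u) [CommRing A] [CommRing B] [Algebra A B] [Module.Flat A B]
    (M : Type u) [AddCommGroup M] [Module A M] (n : ℕ) (h : HasProjectiveDimensionLE (ModuleCat.of A M) n) :
    HasProjectiveDimensionLE (ModuleCat.of B (B ⊗[A] M)) n := by
  induction n generalizing M with
  | zero =>
    rw [hasPD_zero_iff] at h ⊢
    infer_instance
  | succ n ih =>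
    obtain ⟨P, _, _, _, f, hf⟩ : ∃ (P : Type u) (_ : AddCommGroup P) (_ : Module A P) (_ : Module.Projective A P)
        (f : P →ₗ[A] M), Function.Surjective f :=
      ⟨M →₀ A, inferInstance, inferInstance, inferInstance, Finsupp.linearCombination A id,
        Finsupp.linearCombination_id_surjective A M⟩
    have hinj : Function.Injective (LinearMap.ker f).subtype := Submodule.subtype_injective _
    have hex : Function.Exact (LinearMap.ker f).subtype f := LinearMap.exact_subtype_ker_map f
    have := (hasPD_succ_iff (LinearMap.ker f).subtype f hinj hex hf n).mp h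
    refine (hasPD_succ_iff ((LinearMap.ker f).subtype.baseChange B) (f.baseChange B)
      (Module.Flat.lTensor_preserves_injective_linearMap _ (Submodule.subtype_injective _))
      (Module.Flat.lTensor_exact B (LinearMap.exact_subtype_ker_map f))
      (LinearMap.lTensor_surjective B hf) n).mpr (ih _ this)

open TensorProduct in
theorem hasPD_of_baseChange {A : Type u} (B : Type u) [CommRing A] [IsNoetherianRing A] [CommRing B] [Algebra A B]
    [Module.FaithfullyFlat A B] (M : Type u) [AddCommGroup M] [Module A M] [Module.Finite A M] (n : ℕ)
    (h : HasProjectiveDimensionLE (ModuleCat.of B (B ⊗[A] M)) n) :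
    HasProjectiveDimensionLE (ModuleCat.of A M) n := by
  induction n generalizing M with
  | zero =>
    rw [hasPD_zero_iff] at h ⊢
    have : Module.Flat A M := Module.Flat.of_flat_tensorProduct A M B
    have := Module.finitePresentation_of_finite A M
    exact Module.Flat.projective_of_finitePresentation
  | succ n ih =>
    obtain ⟨P, _, _, _, _, f, hf⟩ := Module.exists_finite_presentation A M
    refine (hasPD_succ_iff (LinearMap.ker f).subtype f (Submodule.subtype_injective _)
      (LinearMap.exact_subtype_ker_map f) hf n).mpr (ih _ ?_)
    exact (hasPD_succ_iff ((LinearMap.ker f).subtype.baseChange B) (f.baseChange B)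
      (Module.Flat.lTensor_preserves_injective_linearMap _ (Submodule.subtype_injective _))
      (Module.Flat.lTensor_exact B (LinearMap.exact_subtype_ker_map f))
      (LinearMap.lTensor_surjective B hf) n).mp h

open TensorProduct in
theorem pd_baseChange_le (A B : Type u) [CommRing A] [CommRing B] [Algebra A B] [Module.Flat A B]
    (M : Type u) [AddCommGroup M] [Module A M] :
    projectiveDimension (ModuleCat.of B (B ⊗[A] M)) ≤ projectiveDimension (ModuleCat.of A M) := by
  refine le_of_forall_nat_imp ?_ fun n => ?_
  · simp only [projectiveDimension_eq_bot_iff, ModuleCat.isZero_iff_subsingleton]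
    intro h; infer_instance
  · simp only [projectiveDimension_le_iff]
    exact hasPD_baseChange B M n

open TensorProduct in
theorem pd_baseChange_eq (A B : Type u) [CommRing A] [IsNoetherianRing A] [CommRing B] [Algebra A B] [Module.FaithfullyFlat A B]
    (M : Type u) [AddCommGroup M] [Module A M] [Module.Finite A M] :
    projectiveDimension (ModuleCat.of B (B ⊗[A] M)) = projectiveDimension (ModuleCat.of A M) := by
  refine le_antisymm (pd_baseChange_le A B M) (le_of_forall_nat_imp ?_ fun n => ?_)
  · simp only [projectiveDimension_eq_bot_iff, ModuleCat.isZero_iff_subsingleton]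
    intro h
    by_contra hM
    have : Nontrivial M := not_subsingleton_iff_nontrivial.mp hM
    exact not_nontrivial_iff_subsingleton.mpr h inferInstance
  · simp only [projectiveDimension_le_iff]
    exact hasPD_of_baseChange B M n

theorem isOpen_pd_le (A : Type u) [CommRing A] [IsNoetherianRing A] (M : Type u) [AddCommGroup M] [Module A M] [Module.Finite A M] (n : ℕ) :
    IsOpen {p : PrimeSpectrum A |
      projectiveDimension (ModuleCat.of (Localization.AtPrime p.asIdeal) (LocalizedModule p.asIdeal.primeCompl M)) ≤ n} := by
  simp only [projectiveDimension_le_iff]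
  induction n generalizing M with
  | zero =>
    have := Module.finitePresentation_of_finite A M
    convert Module.isOpen_freeLocus (R := A) (M := M) using 1
    ext p
    simp only [Set.mem_ofPred_eq, hasPD_zero_iff, Module.mem_freeLocus]
    exact ⟨fun _ => Module.free_of_flat_of_isLocalRing, fun _ => inferInstance⟩
  | succ n ih =>
    obtain ⟨P, _, _, _, _, f, hf⟩ := Module.exists_finite_presentation A M
    convert ih (LinearMap.ker f) using 1
    ext p
    exact hasPD_succ_iff (LocalizedModule.map p.asIdeal.primeCompl (LinearMap.ker f).subtype)
      (LocalizedModule.map p.asIdeal.primeCompl f)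
      (LocalizedModule.map_injective _ _ (Submodule.subtype_injective _))
      (LocalizedModule.map_exact _ _ _ (LinearMap.exact_subtype_ker_map f))
      (LocalizedModule.map_surjective _ _ hf) n

end Groth.Agent.EGA4H10
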