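import Mathlib.RingTheory.Ideal.MinimalPrime.Basic
import Mathlib.RingTheory.Ideal.Height
import Mathlib.RingTheory.Ideal.Quotient.Operations

/-!
# A minimal prime over an ideal has height zero in the quotient
-/

set_option autoImplicit false
universe u

namespace Groth.Agent.EGA4H10

theorem height_map_quotient_of_minimal {B : Type u} [CommRing B] {I : Ideal B} {Q : Ideal B} (h : Q ∈ I.minimalPrimes) :
    (Q.map (Ideal.Quotient.mk I)).height = 0 := by
  have := h.1.1
  have : (Q.map (Ideal.Quotient.mk I)).IsPrime := Ideal.isPrime_map_quotientMk_of_isPrime h.1.2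
  refine Ideal.height_eq_zero_iff.mpr ⟨⟨this, bot_le⟩, fun R hR hle => ?_⟩
  have hcomap : Q ≤ R.comap (Ideal.Quotient.mk I) := by
    refine h.2 ⟨Ideal.IsPrime.comap (hK := hR.1) _, ?_⟩ ((Ideal.comap_mono hle).trans (le_of_eq ?_))
    · intro y hy
      rw [Ideal.mem_comap, Ideal.Quotient.eq_zero_iff_mem.mpr hy]; exact zero_mem _
    · rw [Ideal.comap_map_quotientMk, sup_eq_right.mpr h.1.2]
  exact Ideal.map_le_iff_le_comap.mpr hcomap

end Groth.Agent.EGA4H10
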