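import Mathlib

set_option autoImplicit false
universe u
open IsLocalRing Polynomial

namespace Groth.Agent.EGA4H10

/-! Regularity away from an element; regularity through a regular closed subscheme; openness criterion. -/

theorem exists_gens {R : Type u} [CommRing R] [IsNoetherianRing R] (P : Ideal R) [P.IsPrime] :
    ∃ G : Finset R, (G : Set R) ⊆ P ∧ G.card ≤ (maximalIdeal (Localization.AtPrime P)).spanFinrank ∧
      ∀ x ∈ P, ∃ u : R, u ∉ P ∧ u * x ∈ Ideal.span (G : Set R) := by
  classical
  set L := Localization.AtPrime P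
  have fg := (maximalIdeal L).fg_of_isNoetherianRing
  have fin := Submodule.FG.finite_generators fg
  have hz : ∀ z ∈ (maximalIdeal L).generators, ∃ a : R, a ∈ P ∧ ∃ s : P.primeCompl, IsLocalization.mk' L a s = z := by
    intro z hz
    obtain ⟨a, s, rfl⟩ := IsLocalization.exists_mk'_eq P.primeCompl z
    exact ⟨a, (IsLocalization.AtPrime.mk'_mem_maximal_iff L P a s).mp
      ((maximalIdeal L).span_generators ▸ Submodule.subset_span hz), s, rfl⟩
  choose! a haP s has using hz
  refine ⟨fin.toFinset.image a, ?_, ?_, fun x hx => ?_⟩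
  · intro y hy
    obtain ⟨z, hz, rfl⟩ := Finset.mem_image.mp hy
    exact haP z (fin.mem_toFinset.mp hz)
  · refine Finset.card_image_le.trans ?_
    rw [← Submodule.FG.generators_ncard fg, Set.ncard_eq_toFinset_card _ fin]
  · have hle : maximalIdeal L ≤ (Ideal.span ((fin.toFinset.image a : Finset R) : Set R)).map (algebraMap R L) := by
      conv_lhs => rw [← (maximalIdeal L).span_generators]
      refine Submodule.span_le.mpr fun z hz => ?_
      rw [SetLike.mem_coe, ← has z hz, IsLocalization.mk'_eq_mul_mk'_one]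
      exact Ideal.mul_mem_right _ _ (Ideal.mem_map_of_mem _ (Ideal.subset_span
        (Finset.mem_coe.mpr (Finset.mem_image_of_mem a (fin.mem_toFinset.mpr hz)))))
    have hxm : algebraMap R L x ∈ maximalIdeal L := (IsLocalization.AtPrime.to_map_mem_maximal_iff L P x).mpr hx
    obtain ⟨u, hu, hux⟩ := (IsLocalization.algebraMap_mem_map_algebraMap_iff P.primeCompl L _ x).mp (hle hxm)
    exact ⟨u, hu, hux⟩

theorem height_eq_spanFinrank {R : Type u} [CommRing R] (P : Ideal R) [P.IsPrime]
    [IsRegularLocalRing (Localization.AtPrime P)] :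
    ((maximalIdeal (Localization.AtPrime P)).spanFinrank : WithBot ℕ∞) = (P.height : WithBot ℕ∞) := by
  rw [IsRegularLocalRing.spanFinrank_maximalIdeal, IsLocalization.AtPrime.ringKrullDim_eq_height P]

theorem regular_of_gens {S : Type u} [CommRing S] [IsNoetherianRing S] (Q : Ideal S) [Q.IsPrime]
    (G : Finset (Localization.AtPrime Q)) (hG : maximalIdeal (Localization.AtPrime Q) = Ideal.span (G : Set (Localization.AtPrime Q)))
    (hcard : (G.card : ℕ∞) ≤ Q.height) :
    IsRegularLocalRing (Localization.AtPrime Q) := by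
  apply IsRegularLocalRing.of_spanFinrank_maximalIdeal_le
  rw [IsLocalization.AtPrime.ringKrullDim_eq_height Q, hG]
  refine le_trans ?_ (WithBot.coe_le_coe.mpr hcard)
  have := Submodule.spanFinrank_span_le_ncard_of_finite (R := Localization.AtPrime Q) G.finite_toSet
  rw [Set.ncard_coe_finset] at this
  simpa [Ideal.span] using this

theorem regular_of_map_maximal {R S : Type u} [CommRing R] [IsNoetherianRing R] [CommRing S] [IsNoetherianRing S]
    [Algebra R S] (Q : Ideal S) [Q.IsPrime] (p : Ideal R) [p.IsPrime]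
    [IsRegularLocalRing (Localization.AtPrime p)] (hht : p.height ≤ Q.height)
    (hmap : p.map (algebraMap R (Localization.AtPrime Q)) = maximalIdeal (Localization.AtPrime Q))
    (hp : p = Q.comap (algebraMap R S)) :
    IsRegularLocalRing (Localization.AtPrime Q) := by
  classical
  obtain ⟨G, hG, hcard, hgen⟩ := exists_gens p
  refine regular_of_gens Q (G.image (algebraMap R (Localization.AtPrime Q))) ?_ ?_
  · rw [Finset.coe_image, ← Ideal.map_span, ← hmap]
    refine le_antisymm (Ideal.map_le_iff_le_comap.mpr fun x hx => ?_) (Ideal.map_mono (Ideal.span_le.mpr hG))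
    obtain ⟨u, hu, hux⟩ := hgen x hx
    have hunit : IsUnit (algebraMap R (Localization.AtPrime Q) u) := by
      rw [IsScalarTower.algebraMap_apply R S (Localization.AtPrime Q)]
      exact IsLocalization.map_units (Localization.AtPrime Q)
        (⟨algebraMap R S u, fun h => hu (hp ▸ h)⟩ : Q.primeCompl)
    rw [Ideal.mem_comap]
    have := Ideal.mem_map_of_mem (algebraMap R (Localization.AtPrime Q)) hux
    rw [map_mul] at this
    exact (Ideal.unit_mul_mem_iff_mem _ hunit).mp this
  · refine le_trans ?_ hht
    have h1 := height_eq_spanFinrank p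
    have h2 : (((maximalIdeal (Localization.AtPrime p)).spanFinrank : ℕ∞)) = p.height := by
      exact_mod_cast h1
    rw [← h2]
    exact_mod_cast Finset.card_image_le.trans hcard

/-- flatness at a prime from flatness after inverting an element outside it -/
theorem flat_atPrime_of_away {R S : Type u} [CommRing R] [CommRing S] [Algebra R S]
    (h : S) [Module.Flat R (Localization.Away h)] (Q : Ideal S) [Q.IsPrime] (hQ : h ∉ Q) :
    Module.Flat R (Localization.AtPrime Q) := by
  have hle : Submonoid.powers h ≤ Q.primeCompl :=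
    Submonoid.powers_le.mpr hQ
  let := IsLocalization.localizationAlgebraOfSubmonoidLe (Localization.Away h) (Localization.AtPrime Q) _ _ hle
  have := IsLocalization.localization_isScalarTower_of_submonoid_le (Localization.Away h) (Localization.AtPrime Q) _ _ hle
  have := IsLocalization.isLocalization_of_submonoid_le (Localization.Away h) (Localization.AtPrime Q) _ _ hle
  have : Module.Flat (Localization.Away h) (Localization.AtPrime Q) :=
    IsLocalization.flat _ (Q.primeCompl.map (algebraMap S (Localization.Away h)))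
  have : IsScalarTower R (Localization.Away h) (Localization.AtPrime Q) := IsScalarTower.to₁₃₄ R S _ _
  exact Module.Flat.trans R (Localization.Away h) (Localization.AtPrime Q)

theorem height_comap_le {R S : Type u} [CommRing R] [IsNoetherianRing R] [CommRing S] [IsNoetherianRing S]
    [Algebra R S] (Q : Ideal S) [Q.IsPrime] [Module.Flat R (Localization.AtPrime Q)] :
    (Q.comap (algebraMap R S)).height ≤ Q.height := by
  have : (maximalIdeal (Localization.AtPrime Q)).LiesOver (Q.comap (algebraMap R S)) := ⟨by
    rw [Ideal.under_def, IsScalarTower.algebraMap_eq R S (Localization.AtPrime Q), ← Ideal.comap_comap]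
    congr 1
    exact (IsLocalization.AtPrime.under_maximalIdeal (Localization.AtPrime Q) Q).symm⟩
  have h1 := Ideal.height_eq_height_add_of_liesOver_of_hasGoingDown (Q.comap (algebraMap R S)) (maximalIdeal (Localization.AtPrime Q))
  have h2 : (maximalIdeal (Localization.AtPrime Q)).height = Q.height := by
    rw [← IsLocalization.height_under Q.primeCompl, IsLocalization.AtPrime.under_maximalIdeal _ Q]
  rw [← h2, h1]
  exact le_self_add

theorem regular_of_etaleAt {R S : Type u} [CommRing R] [IsNoetherianRing R] [CommRing S] [Algebra R S]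
    [Algebra.FiniteType R S] (Q : Ideal S) [Q.IsPrime] [Algebra.IsEtaleAt R Q]
    [IsRegularLocalRing (Localization.AtPrime (Q.comap (algebraMap R S)))] :
    IsRegularLocalRing (Localization.AtPrime Q) := by
  have : IsNoetherianRing S := Algebra.FiniteType.isNoetherianRing R S
  have : Algebra.FinitePresentation R S := Algebra.FinitePresentation.of_finiteType.mp ‹_›
  obtain ⟨h, hQ, het⟩ := Algebra.exists_etale_of_isEtaleAt (R := R) Q
  have := flat_atPrime_of_away (R := R) h Q hQ
  have : Q.LiesOver (Q.comap (algebraMap R S)) := ⟨rfl⟩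
  let := Localization.AtPrime.algebraOfLiesOver (Q.comap (algebraMap R S)) Q
  exact regular_of_map_maximal Q (Q.comap (algebraMap R S)) (height_comap_le Q)
    ((Algebra.isUnramifiedAt_iff_map_eq R (Q.comap (algebraMap R S)) Q).mp inferInstance).2 rfl

/-- regular away from `g` -/
def RegAway (R : Type u) [CommRing R] (g : R) : Prop :=
  ∀ (P : Ideal R) [P.IsPrime], g ∉ P → IsRegularLocalRing (Localization.AtPrime P)

theorem regular_atPrime_of_isLocalization {R : Type u} [CommRing R] (M : Submonoid R) (S : Type u) [CommRing S]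
    [Algebra R S] [IsLocalization M S] [IsRegularRing S] (P : Ideal R) [P.IsPrime] (hd : Disjoint (M : Set R) P) :
    IsRegularLocalRing (Localization.AtPrime P) := by
  have : (P.map (algebraMap R S)).IsPrime := IsLocalization.isPrime_of_isPrime_disjoint M _ _ ‹_› hd
  have : IsLocalization.AtPrime (Localization.AtPrime (P.map (algebraMap R S))) P := by
    convert IsLocalization.isLocalization_isLocalization_atPrime_isLocalization M
      (Localization.AtPrime (P.map (algebraMap R S))) (P.map (algebraMap R S))
    exact (IsLocalization.under_map_of_isPrime_disjoint M _ ‹_› hd).symm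
  exact IsRegularLocalRing.of_ringEquiv (IsLocalization.algEquiv P.primeCompl
    (Localization.AtPrime (P.map (algebraMap R S))) (Localization.AtPrime P)).toRingEquiv

theorem isRegularRing_away {R : Type u} [CommRing R] [IsNoetherianRing R] (g : R) (h : RegAway R g) :
    IsRegularRing (Localization.Away g) := by
  have : IsNoetherianRing (Localization.Away g) := IsLocalization.isNoetherianRing (Submonoid.powers g) _ inferInstance
  refine isRegularRing_iff.mpr fun P _ => ?_
  have := h (P.comap (algebraMap R (Localization.Away g))) fun hg =>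
    Ideal.IsPrime.ne_top ‹P.IsPrime› (P.eq_top_of_isUnit_mem hg (IsLocalization.Away.algebraMap_isUnit g))
  exact IsRegularLocalRing.of_ringEquiv
    (IsLocalization.localizationLocalizationAtPrimeIsoLocalization (Submonoid.powers g) P).toRingEquiv

theorem regAway_mvPolynomial {R : Type u} [CommRing R] [IsNoetherianRing R] (g : R) (h : RegAway R g)
    (σ : Type u) [Finite σ] : RegAway (MvPolynomial σ R) (MvPolynomial.C g) := by
  intro P _ hg
  have := isRegularRing_away g h
  let := MvPolynomial.algebraMvPolynomial (σ := σ) (R := R) (S := Localization.Away g)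
  refine regular_atPrime_of_isLocalization ((Submonoid.powers g).map (MvPolynomial.C (σ := σ)))
    (MvPolynomial σ (Localization.Away g)) P ?_
  refine Set.disjoint_left.mpr ?_
  rintro _ ⟨_, ⟨n, rfl⟩, rfl⟩ hx
  rw [SetLike.mem_coe, map_pow] at hx
  exact hg (Ideal.IsPrime.mem_of_pow_mem ‹P.IsPrime› n hx)

theorem RegAway.of_equiv {R R' : Type u} [CommRing R] [CommRing R'] (e : R ≃+* R') {g : R} (h : RegAway R g) :
    RegAway R' (e g) := by
  intro P _ hg
  have := h (P.comap e) fun hm => hg hm
  exact IsRegularLocalRing.of_ringEquiv <| IsLocalization.ringEquivOfRingEquiv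
    (Localization.AtPrime (P.comap e)) (Localization.AtPrime P) e (e.map_primeCompl_comap_eq P)

theorem regular_of_quotient {S : Type u} [CommRing S] [IsNoetherianRing S] (p : Ideal S) [p.IsPrime]
    [IsRegularLocalRing (Localization.AtPrime p)] :
    ∃ f : S, f ∉ p ∧ ∀ (q : Ideal S) [q.IsPrime], p ≤ q → f ∉ q →
      ∀ (qb : Ideal (S ⧸ p)) [qb.IsPrime], qb.comap (Ideal.Quotient.mk p) = q →
        IsRegularLocalRing (Localization.AtPrime qb) → IsRegularLocalRing (Localization.AtPrime q) := by
  classical
  obtain ⟨G, hG, hcard, hgen⟩ := exists_gens p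
  obtain ⟨P, hP⟩ := IsNoetherian.noetherian p
  choose! u hu hux using hgen
  have hPp : ∀ x ∈ P, x ∈ p := fun x hx => hP ▸ Submodule.subset_span hx
  refine ⟨∏ x ∈ P, u x, fun hm => ?_, fun q _ hpq hfq qb _ hqb hreg => ?_⟩
  · obtain ⟨x, hx, hxp⟩ := (Ideal.IsPrime.prod_mem_iff (hp := ‹p.IsPrime›)).mp hm
    exact hu x (hPp x hx) hxp
  set f := ∏ x ∈ P, u x
  have hf : ∀ x ∈ p, f * x ∈ Ideal.span (G : Set S) := by
    have hle : Submodule.span S (P : Set S) ≤ Submodule.comap (f • LinearMap.id : S →ₗ[S] S) (Ideal.span (G : Set S)) := by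
      rw [Submodule.span_le]
      intro x hx
      show f • x ∈ Ideal.span (G : Set S)
      rw [smul_eq_mul, show f = (∏ y ∈ P.erase x, u y) * u x from (Finset.prod_erase_mul _ _ hx).symm, mul_assoc]
      exact Ideal.mul_mem_left _ _ (hux x (hPp x hx))
    intro x hx
    exact hle (hP.symm ▸ hx)
  obtain ⟨H, hH, hHcard, hHgen⟩ := exists_gens qb
  let σ : S ⧸ p → S := Function.surjInv Ideal.Quotient.mk_surjective
  have hσ : ∀ y, Ideal.Quotient.mk p (σ y) = y := Function.surjInv_eq _
  let Gs : Finset S := G ∪ H.image σ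
  have hGsq : (Gs : Set S) ⊆ q := by
    intro y hy
    rcases Finset.mem_union.mp hy with hy | hy
    · exact hpq (hG hy)
    · obtain ⟨z, hz, rfl⟩ := Finset.mem_image.mp hy
      rw [← hqb, SetLike.mem_coe, Ideal.mem_comap, hσ]
      exact hH hz
  refine regular_of_gens q (Gs.image (algebraMap S (Localization.AtPrime q))) ?_ ?_
  · rw [Finset.coe_image, ← Ideal.map_span, ← Localization.AtPrime.map_eq_maximalIdeal]
    refine le_antisymm (Ideal.map_le_iff_le_comap.mpr fun x hx => ?_) (Ideal.map_mono (Ideal.span_le.mpr hGsq))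
    obtain ⟨v, hv, hvx⟩ := hHgen (Ideal.Quotient.mk p x) (by rw [← Ideal.mem_comap, hqb]; exact hx)
    obtain ⟨v, rfl⟩ := Ideal.Quotient.mk_surjective v
    have hvq : v ∉ q := fun hm => hv (by rw [← Ideal.mem_comap, hqb]; exact hm)
    have himage : Ideal.span (H : Set (S ⧸ p)) = (Ideal.span ((H.image σ : Finset S) : Set S)).map (Ideal.Quotient.mk p) := by
      rw [Ideal.map_span, Finset.coe_image, ← Set.image_comp]
      congr 1
      simp [Function.comp_def, hσ]
    rw [← map_mul, himage, Ideal.mem_map_iff_of_surjective _ Ideal.Quotient.mk_surjective] at hvx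
    obtain ⟨w, hw, hwx⟩ := hvx
    rw [Ideal.Quotient.eq] at hwx
    rw [Ideal.mem_comap]
    refine (IsLocalization.algebraMap_mem_map_algebraMap_iff q.primeCompl _ _ x).mpr
      ⟨f * v, fun hm => (Ideal.IsPrime.mem_or_mem ‹q.IsPrime› hm).elim hfq hvq, ?_⟩
    have hsub1 : Ideal.span (G : Set S) ≤ Ideal.span (Gs : Set S) := Ideal.span_mono (by simp [Gs])
    have hsub2 : Ideal.span ((H.image σ : Finset S) : Set S) ≤ Ideal.span (Gs : Set S) := Ideal.span_mono (by simp [Gs])
    rw [show f * v * x = f * w - f * (w - v * x) by ring]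
    exact sub_mem (Ideal.mul_mem_left _ _ (hsub2 hw)) (hsub1 (hf _ hwx))
  · refine le_trans (b := ((G.card + H.card : ℕ) : ℕ∞)) ?_ ?_
    · exact_mod_cast Finset.card_image_le.trans ((Finset.card_union_le _ _).trans (by gcongr; exact Finset.card_image_le))
    · have h1 : (((maximalIdeal (Localization.AtPrime p)).spanFinrank : ℕ∞)) = p.height := by
        exact_mod_cast height_eq_spanFinrank p
      have h2 : (((maximalIdeal (Localization.AtPrime qb)).spanFinrank : ℕ∞)) = qb.height := by
        exact_mod_cast height_eq_spanFinrank qb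
      obtain ⟨lb, hlb, hlen⟩ := qb.exists_ltSeries_length_eq_height
      let l' : LTSeries (PrimeSpectrum S) := lb.map (PrimeSpectrum.comap (Ideal.Quotient.mk p))
        (RingHom.strictMono_comap_of_surjective Ideal.Quotient.mk_surjective)
      obtain ⟨lp, hlp, hlenp⟩ := l'.head.asIdeal.exists_ltSeries_length_eq_height
      have hhead : p.height ≤ l'.head.asIdeal.height := Ideal.height_mono fun x hx => by
        simp only [l', LTSeries.head_map, PrimeSpectrum.comap_asIdeal, Ideal.mem_comap]
        rw [Ideal.Quotient.eq_zero_iff_mem.mpr hx]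
        exact zero_mem _
      calc ((G.card + H.card : ℕ) : ℕ∞) ≤ p.height + qb.height := by
            rw [Nat.cast_add, ← h1, ← h2]
            gcongr
        _ ≤ lp.length + lb.length := by rw [hlen, hlenp]; gcongr
        _ = ((lp.smash l' hlp).length : ℕ∞) := by rw [← Nat.cast_add]; rfl
        _ ≤ q.height := by
          rw [(⟨q, ‹_›⟩ : PrimeSpectrum S).height_eq_orderHeight]
          refine Order.length_le_height ?_
          rw [RelSeries.last_smash, LTSeries.last_map, hlb]
          exact le_of_eq (PrimeSpectrum.ext hqb)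

theorem isOpen_of_locally (S : Type u) [CommRing S] [IsNoetherianRing S] (U : Set (PrimeSpectrum S))
    (hgen : ∀ p q : PrimeSpectrum S, p ≤ q → q ∈ U → p ∈ U)
    (h : ∀ p ∈ U, ∃ f : S, f ∉ p.asIdeal ∧ ∀ q : PrimeSpectrum S, p ≤ q → f ∉ q.asIdeal → q ∈ U) :
    IsOpen U := by
  classical
  obtain ⟨J, hJ⟩ := (PrimeSpectrum.isClosed_iff_zeroLocus_ideal _).mp (isClosed_closure (s := Uᶜ))
  have hCJ : ∀ q : PrimeSpectrum S, q ∉ U → J ≤ q.asIdeal := fun q hq =>
    (PrimeSpectrum.mem_zeroLocus q J).mp (hJ ▸ subset_closure hq)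
  have hmin : ∀ p : PrimeSpectrum S, p.asIdeal ∈ J.minimalPrimes → p ∉ U := by
    intro p hp hpU
    obtain ⟨f, hf, hfU⟩ := h p hpU
    let M := ((Ideal.finite_minimalPrimes_of_isNoetherianRing S J).toFinset).erase p.asIdeal
    have hnot : ¬ M.inf id ≤ p.asIdeal := fun hle => by
      obtain ⟨P, hP, hPp⟩ := (p.2.inf_le').mp hle
      obtain ⟨hne, hPm⟩ := Finset.mem_erase.mp hP
      rw [Set.Finite.mem_toFinset] at hPm
      exact hne (le_antisymm hPp (hp.2 hPm.1 hPp))
    obtain ⟨g, hg, hgp⟩ := SetLike.not_le_iff_exists.mp hnot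
    have hsub : Uᶜ ⊆ PrimeSpectrum.zeroLocus {f * g} := by
      intro q hq
      rw [PrimeSpectrum.mem_zeroLocus, Set.singleton_subset_iff]
      obtain ⟨P, hP, hPq⟩ := Ideal.exists_minimalPrimes_le (J := q.asIdeal) (hCJ q hq)
      by_cases hPp : P = p.asIdeal
      · subst hPp
        exact q.asIdeal.mul_mem_right _ (by by_contra hfq; exact hq (hfU q hPq hfq))
      · exact q.asIdeal.mul_mem_left _ (hPq (Finset.inf_le (f := id)
          (Finset.mem_erase.mpr ⟨hPp, (Set.Finite.mem_toFinset _).mpr hP⟩) hg))
    have hmem : p ∈ closure Uᶜ := hJ ▸ (PrimeSpectrum.mem_zeroLocus p J).mpr hp.1.2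
    have := (closure_minimal hsub (PrimeSpectrum.isClosed_zeroLocus _)) hmem
    rw [PrimeSpectrum.mem_zeroLocus, Set.singleton_subset_iff] at this
    exact (p.2.mem_or_mem this).elim hf hgp
  have hclosed : IsClosed Uᶜ := by
    rw [← closure_subset_iff_isClosed]
    intro q hq
    obtain ⟨P, hP, hPq⟩ := Ideal.exists_minimalPrimes_le (J := q.asIdeal) ((PrimeSpectrum.mem_zeroLocus q J).mp (hJ ▸ hq))
    intro hqU
    exact hmin ⟨P, hP.1.1⟩ hP (hgen ⟨P, hP.1.1⟩ q hPq hqU)
  exact isClosed_compl_iff.mp hclosed

end Groth.Agent.EGA4H10
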