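import Groth.Agent.EGA4H10.NormalFlat
import Groth.Agent.EGA4H10.RegAway
import Groth.Agent.CAlg1.Regular
import Mathlib

/-!
# The normal locus is open when the regular locus is
-/

set_option autoImplicit false
universe u
open IsLocalRing RingTheory.Sequence
open Groth.Agent.EGA4Alg4

namespace Groth.Agent.EGA4H10

theorem ringKrullDim_le_depth_of_regular (R : Type u) [CommRing R] [IsRegularLocalRing R] :
    ringKrullDim R ≤ ((LocCoh.depth R R : ℕ∞) : WithBot ℕ∞) := by
  classical
  obtain ⟨s, hs, hsp⟩ := Submodule.FG.exists_span_finset_card_eq_spanFinrank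
    (maximalIdeal R).fg_of_isNoetherianRing
  have hlist : Ideal.ofList s.toList = maximalIdeal R := by
    rw [← hsp, Ideal.ofList]
    congr 1
    ext r
    simp
  have hlen : s.toList.length = (maximalIdeal R).spanFinrank := by simp [hs]
  have h := length_le_depth (CAlg1.isWeaklyRegular_params R _ hlist hlen)
    (fun r hr => hlist ▸ Ideal.subset_span hr)
  rw [← IsRegularLocalRing.spanFinrank_maximalIdeal, ← hlen]
  exact WithBot.coe_le_coe.mpr h

variable {A : Type u} [CommRing A] [IsNoetherianRing A]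

/-- the conditions of Serre's normality criterion at one prime -/
def SerreCond (P : Ideal A) [P.IsPrime] : Prop :=
  (P.height ≤ 1 → IsRegularLocalRing (Localization.AtPrime P)) ∧
    min 2 P.height ≤ LocCoh.depth (Localization.AtPrime P) (Localization.AtPrime P)

theorem hasSkAt_two_iff (p : Ideal A) [p.IsPrime] :
    EGA4.HasSkAt 2 A A p ↔ ∀ P : PrimeSpectrum A, P.asIdeal ≤ p →
      min 2 P.asIdeal.height ≤
        LocCoh.depth (Localization.AtPrime P.asIdeal) (Localization.AtPrime P.asIdeal) := by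
  rw [hasSkAt_iff]
  refine forall_congr' fun P => imp_congr_right fun _ => ?_
  rw [CAlg1.supportDim_locSelf, CAlg1.depth_locSelf, ← WithBot.coe_natCast, ← WithBot.coe_min,
    WithBot.coe_le_coe]
  exact Iff.rfl

theorem mem_norLocus_iff (p : PrimeSpectrum A) :
    p ∈ EGA4.norLocus A ↔ ∀ P : PrimeSpectrum A, P ≤ p → SerreCond P.asIdeal := by
  let L := Localization.AtPrime p.asIdeal
  have : IsNoetherianRing L := IsLocalization.isNoetherianRing p.asIdeal.primeCompl _ inferInstance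
  have : Module.Finite L (LocalizedModule p.asIdeal.primeCompl A) :=
    Module.Finite.equiv (CAlg1.locSelfEquiv p.asIdeal).symm
  constructor
  · intro h P hP
    obtain ⟨_, _⟩ := (h : IsDomain L ∧ IsIntegrallyClosed L)
    obtain ⟨hR, hS⟩ := CAlg1.serre_normal.mp (normal_of_domain L)
    have hR' : EGA4.HasRkAt 1 A p.asIdeal := hR
    have hS' : EGA4.HasSkAt 2 A A p.asIdeal := hasSk_congr (CAlg1.locSelfEquiv p.asIdeal).symm 2 hS
    rw [hasRkAt_iff] at hR'
    rw [hasSkAt_two_iff] at hS'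
    exact ⟨hR' P hP, hS' P hP⟩
  · intro h
    have hR : EGA4.HasRkAt 1 A p.asIdeal := (hasRkAt_iff 1 _).mpr fun q hq => (h q hq).1
    have hS : EGA4.HasSkAt 2 A A p.asIdeal := (hasSkAt_two_iff _).mpr fun q hq => (h q hq).2
    exact domain_of_normal_local L
      (CAlg1.serre_normal.mpr ⟨hR, hasSk_congr (CAlg1.locSelfEquiv p.asIdeal) 2 hS⟩)

omit [IsNoetherianRing A] in
theorem serreCond_of_regular (P : Ideal A) [P.IsPrime] [IsRegularLocalRing (Localization.AtPrime P)] :
    SerreCond P := by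
  refine ⟨fun _ => inferInstance, (min_le_right _ _).trans ?_⟩
  have h := ringKrullDim_le_depth_of_regular (Localization.AtPrime P)
  rw [IsLocalization.AtPrime.ringKrullDim_eq_height P] at h
  exact_mod_cast h

/-- if `J A_P = g A_P` with `g` a regular element of the maximal ideal and `P` is not associated to
`A/J`, then `2 ≤ depth A_P` -/
theorem two_le_depth_of_notMem_assoc (J P : Ideal A) [P.IsPrime] (g : A) (hgP : g ∈ P)
    (hJ : J.map (algebraMap A (Localization.AtPrime P)) =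
      Ideal.span {algebraMap A (Localization.AtPrime P) g})
    (hreg : IsSMulRegular (Localization.AtPrime P) (algebraMap A (Localization.AtPrime P) g))
    (hass : P ∉ associatedPrimes A (A ⧸ J)) :
    2 ≤ LocCoh.depth (Localization.AtPrime P) (Localization.AtPrime P) := by
  classical
  let L := Localization.AtPrime P
  have : IsNoetherianRing L := IsLocalization.isNoetherianRing P.primeCompl _ inferInstance
  let x := algebraMap A L g
  have hx : x ∈ maximalIdeal L :=
    (IsLocalization.AtPrime.to_map_mem_maximal_iff L P g).mpr hgP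
  rw [← depth_quotSMulTop_add_one hx hreg, ← one_add_one_eq_two]
  refine add_le_add ?_ le_rfl
  rw [Order.one_le_iff_pos, pos_iff_ne_zero, Ne, depth_eq_zero_iff]
  intro h
  obtain ⟨-, z, hz⟩ := isAssociatedPrime_iff.mp h
  obtain ⟨y, rfl⟩ := Submodule.Quotient.mk_surjective _ z
  obtain ⟨a, s, rfl⟩ := IsLocalization.exists_mk'_eq P.primeCompl y
  have key : ∀ l : L, (Submodule.Quotient.mk l : QuotSMulTop x L) = 0 ↔
      l ∈ J.map (algebraMap A L) := fun l => by
    rw [Submodule.Quotient.mk_eq_zero, hJ, Submodule.mem_smul_pointwise_iff_exists,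
      Ideal.mem_span_singleton']
    exact ⟨fun ⟨b, _, hb⟩ => ⟨b, by rw [mul_comm]; exact hb⟩,
      fun ⟨b, hb⟩ => ⟨b, Submodule.mem_top, by rw [smul_eq_mul, mul_comm]; exact hb⟩⟩
  have hmem : ∀ c : A, c ∈ P → ∃ t : A, t ∉ P ∧ t * (c * a) ∈ J := by
    intro c hc
    have hc' : algebraMap A L c ∈ maximalIdeal L :=
      (IsLocalization.AtPrime.to_map_mem_maximal_iff L P c).mpr hc
    rw [hz, Submodule.mem_colon_singleton, Submodule.mem_bot, ← Submodule.Quotient.mk_smul, key,
      smul_eq_mul, IsLocalization.mul_mk'_eq_mk'_of_mul, IsLocalization.mk'_mem_map_algebraMap_iff P.primeCompl] at hc'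
    exact hc'
  choose t ht1 ht2 using hmem
  obtain ⟨G, hG⟩ := P.fg_of_isNoetherianRing
  have hGP : ∀ c ∈ G, c ∈ P := fun c hc => hG ▸ Ideal.subset_span hc
  let T := ∏ c ∈ G.attach, t c.1 (hGP c.1 c.2)
  have hT : T ∉ P := by
    intro hmem
    obtain ⟨c, -, hc⟩ := (‹P.IsPrime›.prod_mem_iff).mp hmem
    exact ht1 _ _ hc
  have hTP : ∀ c ∈ P, c * (T * a) ∈ J := by
    have : Ideal.span (G : Set A) ≤ J.colon {T * a} := by
      rw [Ideal.span_le]
      intro c hc
      rw [SetLike.mem_coe, Submodule.mem_colon_singleton, smul_eq_mul]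
      obtain ⟨k, hk⟩ : t c (hGP c hc) ∣ T :=
        Finset.dvd_prod_of_mem (fun c : G => t c.1 (hGP c.1 c.2)) (Finset.mem_attach G ⟨c, hc⟩)
      rw [hk, show c * (t c (hGP c hc) * k * a) = k * (t c (hGP c hc) * (c * a)) by ring]
      exact J.mul_mem_left k (ht2 _ _)
    intro c hc
    have h2 := this (hG.symm ▸ hc : c ∈ Ideal.span (G : Set A))
    rwa [Submodule.mem_colon_singleton, smul_eq_mul] at h2
  refine hass (isAssociatedPrime_iff.mpr ⟨inferInstance, Ideal.Quotient.mk J (T * a), ?_⟩)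
  ext c
  rw [Submodule.mem_colon_singleton, Submodule.mem_bot,
    show c • Ideal.Quotient.mk J (T * a) = Ideal.Quotient.mk J (c * (T * a)) from rfl,
    Ideal.Quotient.eq_zero_iff_mem]
  refine ⟨hTP c, fun hc => ?_⟩
  by_contra hcP
  have h1 : (1 : L) ∈ maximalIdeal L := by
    rw [hz, Submodule.mem_colon_singleton, one_smul, Submodule.mem_bot, key,
      IsLocalization.mk'_mem_map_algebraMap_iff P.primeCompl]
    exact ⟨c * T, fun h' => (‹P.IsPrime›.mem_or_mem h').elim hcP hT, by rwa [mul_assoc]⟩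
  exact (maximalIdeal.isMaximal L).ne_top ((Ideal.eq_top_iff_one _).mpr h1)

theorem isOpen_norLocus_of_regLocus (h : IsOpen (EGA4.regLocus A)) : IsOpen (EGA4.norLocus A) := by
  classical
  refine isOpen_of_locally A _ (fun p q hpq hq => (mem_norLocus_iff p).mpr fun P hP =>
    (mem_norLocus_iff q).mp hq P (hP.trans hpq)) fun p hp => ?_
  have hp' := hp
  obtain ⟨hdom, hic⟩ := (hp' : IsDomain (Localization.AtPrime p.asIdeal) ∧
    IsIntegrallyClosed (Localization.AtPrime p.asIdeal))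
  let P0 : Ideal A := RingHom.ker (algebraMap A (Localization.AtPrime p.asIdeal))
  have : P0.IsPrime := RingHom.ker_isPrime _
  have hP0p : P0 ≤ p.asIdeal := fun x hx => by
    rw [RingHom.mem_ker] at hx
    exact (IsLocalization.AtPrime.to_map_mem_maximal_iff (Localization.AtPrime p.asIdeal) p.asIdeal x).mp
      (by rw [hx]; exact zero_mem _)
  have hkill : ∀ x ∈ P0, ∃ s : A, s ∉ p.asIdeal ∧ s * x = 0 := by
    intro x hx
    obtain ⟨s, hs⟩ := (IsLocalization.map_eq_zero_iff p.asIdeal.primeCompl _ x).mp hx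
    exact ⟨s.1, s.2, hs⟩
  choose s hs1 hs2 using hkill
  obtain ⟨G, hG⟩ := P0.fg_of_isNoetherianRing
  have hGP : ∀ c ∈ G, c ∈ P0 := fun c hc => hG ▸ Ideal.subset_span hc
  let f1 := ∏ c ∈ G.attach, s c.1 (hGP c.1 c.2)
  have hf1 : f1 ∉ p.asIdeal := by
    intro hmem
    obtain ⟨c, -, hc⟩ := (p.2.prod_mem_iff).mp hmem
    exact hs1 _ _ hc
  have hf1P : ∀ x ∈ P0, f1 * x = 0 := by
    intro x hx
    rw [← hG] at hx
    induction hx using Submodule.span_induction with
    | mem c hc =>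
      obtain ⟨k, hk⟩ : s c (hGP c hc) ∣ f1 :=
        Finset.dvd_prod_of_mem (fun c : G => s c.1 (hGP c.1 c.2)) (Finset.mem_attach G ⟨c, hc⟩)
      rw [hk, mul_right_comm, hs2, zero_mul]
    | zero => simp
    | add x y _ _ hx hy => rw [mul_add, hx, hy, add_zero]
    | smul a x _ hx => rw [smul_eq_mul, mul_left_comm, hx, mul_zero]
  -- the generic point is regular
  have hkerP : ∀ (P : Ideal A) [P.IsPrime], f1 ∉ P →
      P0 ≤ P ∧ RingHom.ker (algebraMap A (Localization.AtPrime P)) = P0 := by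
    intro P hPp hfP
    have hle : P0 ≤ P := fun x hx => (hPp.mem_or_mem (hf1P x hx ▸ P.zero_mem)).resolve_left hfP
    refine ⟨hle, le_antisymm (fun x hx => ?_) fun x hx => ?_⟩
    · obtain ⟨t, ht⟩ := (IsLocalization.map_eq_zero_iff P.primeCompl _ x).mp hx
      exact (‹P0.IsPrime›.mem_or_mem (ht.symm ▸ P0.zero_mem : (t : A) * x ∈ P0)).resolve_left
        fun h' => t.2 (hle h')
    · exact (IsLocalization.map_eq_zero_iff P.primeCompl _ x).mpr ⟨⟨f1, hfP⟩, hf1P x hx⟩
  have hf1P0 : f1 ∉ P0 := fun h' => hf1 (hP0p h')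
  have hreg0 : (⟨P0, inferInstance⟩ : PrimeSpectrum A) ∈ EGA4.regLocus A := by
    refine ((mem_norLocus_iff p).mp hp ⟨P0, inferInstance⟩ hP0p).1 ?_
    have hmin : P0 ∈ minimalPrimes A := by
      refine ⟨⟨inferInstance, bot_le⟩, fun Q hQ hQP => ?_⟩
      exact (@hkerP Q hQ.1 fun h' => hf1P0 (hQP h')).1
    rw [Ideal.height_eq_zero_iff.mpr hmin]
    exact zero_le
  obtain ⟨_, ⟨g, rfl⟩, hg0, hgU⟩ :=
    PrimeSpectrum.isTopologicalBasis_basic_opens.exists_subset_of_mem_open hreg0 h
  let J := P0 ⊔ Ideal.span {g}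
  let F := (associatedPrimes.finite A (A ⧸ J)).toFinset.filter fun Q => ¬ Q ≤ p.asIdeal
  have hF : ∀ Q ∈ F, ∃ c ∈ Q, c ∉ p.asIdeal := fun Q hQ =>
    SetLike.not_le_iff_exists.mp (Finset.mem_filter.mp hQ).2
  choose c hc1 hc2 using hF
  let f2 := ∏ Q ∈ F.attach, c Q.1 Q.2
  have hf2 : f2 ∉ p.asIdeal := by
    intro hmem
    obtain ⟨Q, -, hQ⟩ := (p.2.prod_mem_iff).mp hmem
    exact hc2 _ _ hQ
  refine ⟨f1 * f2, fun hm => (p.2.mem_or_mem hm).elim hf1 hf2, fun q hpq hfq => ?_⟩
  refine (mem_norLocus_iff q).mpr fun P hPq => ?_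
  by_cases hgP : g ∈ P.asIdeal
  swap
  · have : IsRegularLocalRing (Localization.AtPrime P.asIdeal) := hgU hgP
    exact serreCond_of_regular _
  have hf1' : f1 ∉ P.asIdeal := fun h' => hfq (Ideal.mul_mem_right _ _ (hPq h'))
  have hf2' : f2 ∉ P.asIdeal := fun h' => hfq (Ideal.mul_mem_left _ _ (hPq h'))
  obtain ⟨hle, hker⟩ := hkerP P.asIdeal hf1'
  by_cases hass : P.asIdeal ∈ associatedPrimes A (A ⧸ J)
  · by_cases hPp : P.asIdeal ≤ p.asIdeal
    · exact (mem_norLocus_iff p).mp hp P hPp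
    · have hPF : P.asIdeal ∈ F :=
        Finset.mem_filter.mpr ⟨(associatedPrimes.finite A (A ⧸ J)).mem_toFinset.mpr hass, hPp⟩
      exact absurd (P.asIdeal.mem_of_dvd
        (Finset.dvd_prod_of_mem (fun Q : F => c Q.1 Q.2) (Finset.mem_attach F ⟨_, hPF⟩))
        (hc1 _ hPF)) hf2'
  let L := Localization.AtPrime P.asIdeal
  have : IsNoetherianRing L := IsLocalization.isNoetherianRing P.asIdeal.primeCompl _ inferInstance
  have hJ : J.map (algebraMap A L) = Ideal.span {algebraMap A L g} := by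
    rw [Ideal.map_sup, (Ideal.map_eq_bot_iff_le_ker _).mpr hker.ge, bot_sup_eq, Ideal.map_span,
      Set.image_singleton]
  have hreg : IsSMulRegular L (algebraMap A L g) := by
    refine IsSMulRegular.of_right_eq_zero_of_smul fun l hl => ?_
    obtain ⟨b, t, rfl⟩ := IsLocalization.exists_mk'_eq P.asIdeal.primeCompl l
    rw [smul_eq_mul, IsLocalization.mul_mk'_eq_mk'_of_mul, IsLocalization.mk'_eq_zero_iff] at hl
    obtain ⟨m, hm⟩ := hl
    have hmb : (m : A) * (g * b) ∈ P0 := hm.symm ▸ P0.zero_mem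
    have hb : b ∈ P0 := (‹P0.IsPrime›.mem_or_mem ((‹P0.IsPrime›.mem_or_mem hmb).resolve_left
      fun h' => m.2 (hle h'))).resolve_left hg0
    rw [IsLocalization.mk'_eq_zero_iff]
    exact ⟨⟨f1, hf1'⟩, hf1P b hb⟩
  have h2 : 2 ≤ LocCoh.depth L L :=
    two_le_depth_of_notMem_assoc J P.asIdeal g hgP hJ hreg hass
  refine ⟨fun h1 => ?_, (min_le_left _ _).trans h2⟩
  exfalso
  have h3 := (depth_le_supportDim (A := L) (M := L)).trans (Module.supportDim_self_eq_ringKrullDim (R := L)).le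
  rw [IsLocalization.AtPrime.ringKrullDim_eq_height P.asIdeal, WithBot.coe_le_coe] at h3
  exact absurd (h2.trans (h3.trans h1)) (by norm_num)

end Groth.Agent.EGA4H10
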