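import Mathlib
import Groth.Agent.CAlg1.Regular
import Groth.Agent.EGA4Alg4.HomDim
import Groth.Agent.EGA4H10.ProjDim

/-! Serre's homological criterion of regularity and its consequences. -/

set_option autoImplicit false
universe u
open IsLocalRing CategoryTheory Module

namespace Groth.Agent.EGA4H10


section
variable {R : Type u} [CommRing R] [IsLocalRing R]

theorem exists_minimal_presentation (M : Type u) [AddCommGroup M] [Module R M] [Module.Finite R M] :
    ∃ (r : ℕ) (f : (Fin r → R) →ₗ[R] M), Function.Surjective f ∧
      LinearMap.ker f ≤ maximalIdeal R • (⊤ : Submodule R (Fin r → R)) := by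
  classical
  let r := (⊤ : Submodule R M).spanFinrank
  have fin := Submodule.FG.finite_generators (Module.Finite.fg_top (R := R) (M := M))
  have hcard : fin.toFinset.card = r := by
    rw [← Set.ncard_eq_toFinset_card _ fin, Submodule.FG.generators_ncard Module.Finite.fg_top]
  let e : Fin r ≃ fin.toFinset := (Fin.castOrderIso hcard.symm).toEquiv.trans fin.toFinset.equivFin.symm
  let v : Fin r → M := fun i => (e i : M)
  have hv : Submodule.span R (Set.range v) = ⊤ := by
    have : Set.range v = (⊤ : Submodule R M).generators := by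
      ext z
      refine ⟨?_, fun hz => ?_⟩
      · rintro ⟨i, rfl⟩; exact fin.mem_toFinset.mp (e i).2
      · exact ⟨e.symm ⟨z, fin.mem_toFinset.mpr hz⟩, by simp [v]⟩
    rw [this, Submodule.span_generators]
  refine ⟨r, Fintype.linearCombination R v, ?_, fun z hz => ?_⟩
  · rw [← LinearMap.range_eq_top, Fintype.range_linearCombination, hv]
  · have hzi : ∀ i, z i ∈ maximalIdeal R := by
      intro i
      by_contra hi
      rw [mem_maximalIdeal, mem_nonunits_iff, not_not] at hi
      obtain ⟨u, hu⟩ := hi
      have hle : ⊤ ≤ Submodule.span R (((Finset.univ.erase i).image v : Finset M) : Set M) := by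
        rw [← hv, Submodule.span_le]
        rintro _ ⟨j, rfl⟩
        by_cases hji : j = i
        · subst hji
          have hsum : z j • v j + ∑ k ∈ Finset.univ.erase j, z k • v k = 0 := by
            rw [Finset.add_sum_erase _ (fun k => z k • v k) (Finset.mem_univ j)]
            simpa [Fintype.linearCombination_apply] using LinearMap.mem_ker.mp hz
          rw [← hu, add_eq_zero_iff_eq_neg] at hsum
          have : v j = (↑u⁻¹ : R) • -∑ k ∈ Finset.univ.erase j, z k • v k := by
            rw [← hsum, smul_smul, Units.inv_mul, one_smul]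
          rw [this]
          refine Submodule.smul_mem _ _ (neg_mem (Submodule.sum_mem _ fun k hk => Submodule.smul_mem _ _ ?_))
          exact Submodule.subset_span (Finset.mem_coe.mpr (Finset.mem_image_of_mem v hk))
        · exact Submodule.subset_span (Finset.mem_coe.mpr (Finset.mem_image_of_mem v (by simp [hji])))
      have h1 := Submodule.spanFinrank_span_le_ncard_of_finite (R := R) (Finset.finite_toSet ((Finset.univ.erase i).image v))
      rw [top_le_iff.mp hle, Set.ncard_coe_finset] at h1
      have h2 : ((Finset.univ.erase i).image v).card ≤ r - 1 := Finset.card_image_le.trans (by simp)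
      have : r ≤ r - 1 := h1.trans h2
      have := i.2
      omega
    rw [← Finset.univ_sum_single z]
    refine Submodule.sum_mem _ fun i _ => ?_
    rw [show (Pi.single i (z i) : Fin r → R) = z i • Pi.single i 1 by rw [← Pi.single_smul, smul_eq_mul, mul_one]]
    exact Submodule.smul_mem_smul (hzi i) Submodule.mem_top

/-- If the maximal ideal kills a nonzero element, finite modules of finite projective dimension are free. -/
theorem free_of_finite_pd [IsNoetherianRing R] (c : R) (hc0 : c ≠ 0) (hc : ∀ x ∈ maximalIdeal R, x * c = 0) (n : ℕ)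
    (M : Type u) [AddCommGroup M] [Module R M] [Module.Finite R M]
    (h : HasProjectiveDimensionLE (ModuleCat.of R M) n) : Module.Free R M := by
  induction n generalizing M with
  | zero =>
    have := (hasPD_zero_iff M).mp h
    exact Module.free_of_flat_of_isLocalRing
  | succ n ih =>
    obtain ⟨r, f, hf, hker⟩ := exists_minimal_presentation (R := R) M
    have hK := (hasPD_succ_iff (LinearMap.ker f).subtype f (Submodule.subtype_injective _)
      (LinearMap.exact_subtype_ker_map f) hf n).mp h
    have := ih (LinearMap.ker f) hK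
    have hzero : ∀ z ∈ LinearMap.ker f, c • z = 0 := by
      intro z hz
      have := hker hz
      refine Submodule.smul_induction_on this (fun a ha y _ => ?_) (fun a b ha hb => by rw [smul_add, ha, hb, add_zero])
      rw [smul_smul, mul_comm, hc a ha, zero_smul]
    have : Subsingleton (LinearMap.ker f) := by
      by_contra hne
      obtain ⟨b⟩ : Nonempty (Module.Free.ChooseBasisIndex R (LinearMap.ker f)) := by
        by_contra hempty
        rw [not_nonempty_iff] at hempty
        exact hne ((Module.Free.chooseBasis R (LinearMap.ker f)).repr.toEquiv.subsingleton)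
      set B := Module.Free.chooseBasis R (LinearMap.ker f)
      have : c • B b = 0 := Subtype.ext (hzero _ (B b).2)
      exact hc0 (by simpa using congrArg (fun w => B.repr w b) this)
    exact Module.Free.of_equiv (LinearEquiv.ofBijective f ⟨LinearMap.ker_eq_bot.mp (Submodule.eq_bot_of_subsingleton), hf⟩)

end

section
variable {R : Type u} [CommRing R]

theorem hasPD_quotient (x : R) (hx : IsSMulRegular R x) (n : ℕ) :
    ∀ (M : Type u) [AddCommGroup M] [Module R M], IsSMulRegular M x → HasProjectiveDimensionLE (ModuleCat.of R M) n →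
      HasProjectiveDimensionLE (ModuleCat.of (R ⧸ Ideal.span {x}) (M ⧸ (Ideal.span {x} • (⊤ : Submodule R M)))) n := by
  induction n with
  | zero =>
    intro M _ _ _ h
    rw [hasPD_zero_iff] at h ⊢
    exact Module.Projective.of_equiv
      ((TensorProduct.quotTensorEquivQuotSMul M (Ideal.span {x})).extendScalarsOfSurjective Ideal.Quotient.mk_surjective)
  | succ n ih =>
    intro M _ _ hM h
    obtain ⟨P, _, _, _, f, hf⟩ : ∃ (P : Type u) (_ : AddCommGroup P) (_ : Module R P) (_ : Module.Projective R P)
        (f : P →ₗ[R] M), Function.Surjective f :=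
      ⟨M →₀ R, inferInstance, inferInstance, inferInstance, Finsupp.linearCombination R id,
        Finsupp.linearCombination_id_surjective R M⟩
    have hK := (hasPD_succ_iff (LinearMap.ker f).subtype f (Submodule.subtype_injective _)
      (LinearMap.exact_subtype_ker_map f) hf n).mp h
    have hPreg : IsSMulRegular P x := by
      obtain ⟨s, hs⟩ := Module.projective_def'.mp ‹Module.Projective R P›
      intro a b hab
      apply (Function.LeftInverse.injective (g := Finsupp.linearCombination R id) (f := s) (fun z => LinearMap.congr_fun hs z))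
      refine Finsupp.ext fun i => hx ?_
      have := congrArg (fun z => s z i) hab
      simpa using this
    have hKreg : IsSMulRegular (LinearMap.ker f) x := hPreg.submodule _ _
    let I := Ideal.span {x}
    have hle : ∀ {N N' : Type u} [AddCommGroup N] [Module R N] [AddCommGroup N'] [Module R N'] (g : N →ₗ[R] N'),
        (I • ⊤ : Submodule R N) ≤ (I • ⊤ : Submodule R N').comap g := by
      intro N N' _ _ _ _ g
      rw [← Submodule.map_le_iff_le_comap, Submodule.map_smul'']
      exact Submodule.smul_mono le_rfl le_top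
    let g' : (LinearMap.ker f ⧸ (I • (⊤ : Submodule R (LinearMap.ker f)))) →ₗ[R ⧸ I] (P ⧸ (I • (⊤ : Submodule R P))) :=
      (Submodule.mapQ _ _ (LinearMap.ker f).subtype (hle _)).extendScalarsOfSurjective Ideal.Quotient.mk_surjective
    let f' : (P ⧸ (I • (⊤ : Submodule R P))) →ₗ[R ⧸ I] (M ⧸ (I • (⊤ : Submodule R M))) :=
      (Submodule.mapQ _ _ f (hle f)).extendScalarsOfSurjective Ideal.Quotient.mk_surjective
    have hmem : ∀ {N : Type u} [AddCommGroup N] [Module R N] (z : N), z ∈ (I • ⊤ : Submodule R N) ↔ ∃ y, x • y = z := by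
      intro N _ _ z
      rw [Submodule.ideal_span_singleton_smul]
      simp [Submodule.mem_smul_pointwise_iff_exists]
    have hg' : Function.Injective g' := by
      rw [injective_iff_map_eq_zero]
      intro z hz
      obtain ⟨k, rfl⟩ := Submodule.Quotient.mk_surjective _ z
      have hkI : (k : P) ∈ (I • ⊤ : Submodule R P) := (Submodule.Quotient.mk_eq_zero _).mp hz
      obtain ⟨p, hp⟩ := (hmem _).mp hkI
      have hfp : f p = 0 := hM (by
        show x • f p = x • (0 : M)
        rw [smul_zero, ← map_smul, hp, LinearMap.mem_ker.mp k.2])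
      exact (Submodule.Quotient.mk_eq_zero _).mpr ((hmem _).mpr ⟨⟨p, hfp⟩, Subtype.ext hp⟩)
    have hf' : Function.Surjective f' := by
      intro z
      obtain ⟨m, rfl⟩ := Submodule.Quotient.mk_surjective _ z
      obtain ⟨p, rfl⟩ := hf m
      exact ⟨Submodule.Quotient.mk p, rfl⟩
    have hexact : Function.Exact g' f' := by
      intro z
      obtain ⟨p, rfl⟩ := Submodule.Quotient.mk_surjective _ z
      constructor
      · intro hz
        obtain ⟨m, hm⟩ := (hmem _).mp ((Submodule.Quotient.mk_eq_zero _).mp hz)
        obtain ⟨q, rfl⟩ := hf m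
        refine ⟨Submodule.Quotient.mk ⟨p - x • q, by rw [LinearMap.mem_ker, map_sub, map_smul, hm, sub_self]⟩, ?_⟩
        show Submodule.Quotient.mk (p - x • q) = _
        rw [Submodule.Quotient.eq]
        exact (hmem _).mpr ⟨-q, by rw [smul_neg]; abel⟩
      · rintro ⟨w, hw⟩
        obtain ⟨k, rfl⟩ := Submodule.Quotient.mk_surjective _ w
        rw [← hw]
        show Submodule.Quotient.mk (f (k : P)) = 0
        rw [LinearMap.mem_ker.mp k.2]; rfl
    have : Module.Projective (R ⧸ I) (P ⧸ (I • (⊤ : Submodule R P))) := Module.Projective.of_equiv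
      ((TensorProduct.quotTensorEquivQuotSMul P I).extendScalarsOfSurjective Ideal.Quotient.mk_surjective)
    exact (hasPD_succ_iff g' f' hg' hexact hf' n).mpr (ih _ hKreg hK)

end

theorem maximalIdeal_eq_bot_of_free_residueField (R : Type u) [CommRing R] [IsLocalRing R]
    (h : Module.Free R (ResidueField R)) : maximalIdeal R = ⊥ := by
  refine eq_bot_iff.mpr fun y hy => ?_
  obtain ⟨s, hs⟩ := Module.projective_def'.mp (Module.Projective.of_free : Module.Projective R (ResidueField R))
  have h0 : y • (1 : ResidueField R) = 0 := by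
    rw [Algebra.smul_def, ResidueField.algebraMap_eq, (residue_eq_zero_iff y).mpr hy, zero_mul]
  have h1 : s (1 : ResidueField R) ≠ 0 := fun e => (one_ne_zero : (1 : ResidueField R) ≠ 0) (by
    have := LinearMap.congr_fun hs (1 : ResidueField R)
    simpa [e] using this.symm)
  by_contra hy0
  have hreg : ∀ r : R, y * r = 0 → r ∈ maximalIdeal R := fun r hr => by
    by_contra hr'
    rw [mem_maximalIdeal, mem_nonunits_iff, not_not] at hr'
    exact hy0 ((Submodule.mem_bot R).mpr (hr'.mul_left_eq_zero.mp hr))
  apply h1
  have h2 := congrArg s h0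
  rw [map_smul, map_zero] at h2
  have h3 : ∀ i, s (1 : ResidueField R) i ∈ maximalIdeal R := fun i => hreg _ (by simpa using congrArg (fun z => z i) h2)
  exfalso
  have h4 := LinearMap.congr_fun hs (1 : ResidueField R)
  simp only [LinearMap.comp_apply, LinearMap.id_coe, id_eq, Finsupp.linearCombination_apply] at h4
  refine (one_ne_zero : (1 : ResidueField R) ≠ 0) (h4.symm.trans (Finset.sum_eq_zero fun i _ => ?_))
  show s (1 : ResidueField R) i • i = 0
  rw [Algebra.smul_def, ResidueField.algebraMap_eq, (residue_eq_zero_iff _).mpr (h3 i), zero_mul]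

set_option synthInstance.maxHeartbeats 200000 in
theorem regular_of_finite_pd (n : ℕ) : ∀ (N : ℕ) (R : Type u) [CommRing R] [IsLocalRing R] [IsNoetherianRing R],
    (maximalIdeal R).spanFinrank = N → HasProjectiveDimensionLE (ModuleCat.of R (ResidueField R)) n →
      IsRegularLocalRing R := by
  classical
  intro N
  induction N using Nat.strong_induction_on with
  | _ N ih =>
  intro R _ _ _ hN hk
  by_cases hbot : maximalIdeal R = ⊥
  · apply IsRegularLocalRing.of_spanFinrank_maximalIdeal_le
    rw [hbot, Submodule.spanFinrank_bot]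
    exact_mod_cast ringKrullDim_nonneg_of_nontrivial
  have : Module.Finite R (ResidueField R) := inferInstance
  by_cases hex : ∃ c : R, c ≠ 0 ∧ ∀ y ∈ maximalIdeal R, y * c = 0
  · exfalso
    obtain ⟨c, hc0, hc⟩ := hex
    exact hbot (maximalIdeal_eq_bot_of_free_residueField R (free_of_finite_pd c hc0 hc n (ResidueField R) hk))
  push Not at hex
  have hfin := associatedPrimes.finite R R
  have hsub : ¬ ((maximalIdeal R : Set R) ⊆
      ⋃ p ∈ (↑(insert (maximalIdeal R ^ 2) hfin.toFinset) : Set (Ideal R)), (p : Set R)) := by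
    intro hc
    obtain ⟨p, hp, hle⟩ := (Ideal.subset_union_prime (f := id) (maximalIdeal R ^ 2) (maximalIdeal R ^ 2)
      fun i hi h1 _ => (hfin.mem_toFinset.mp (Finset.mem_of_mem_insert_of_ne hi h1)).isPrime).mp hc
    rcases Finset.mem_insert.mp hp with rfl | hp
    · have heq : maximalIdeal R = maximalIdeal R * maximalIdeal R := le_antisymm (by rw [← sq]; exact hle) Ideal.mul_le_left
      exact hbot (Submodule.eq_bot_of_le_smul_of_le_jacobson_bot (maximalIdeal R) (maximalIdeal R)
        (IsNoetherian.noetherian _) (by rw [smul_eq_mul, ← heq]) (maximalIdeal_le_jacobson _))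
    · obtain ⟨hpp, c, hc'⟩ := isAssociatedPrime_iff.mp (hfin.mem_toFinset.mp hp)
      obtain ⟨y, hy, hyc⟩ := hex c (fun h0 => hpp.ne_top (by
        rw [hc', h0]; exact Ideal.eq_top_of_isUnit_mem _ (by simp [Submodule.mem_colon_singleton]) isUnit_one))
      exact hyc (by simpa [Submodule.mem_colon_singleton] using hc'.le (hle hy))
  obtain ⟨x, hxm, hxnot⟩ := Set.not_subset.mp hsub
  have hx2 : x ∉ maximalIdeal R ^ 2 := fun h => hxnot (Set.mem_biUnion (Finset.mem_insert_self _ _) h)
  have hxreg : IsSMulRegular R x := by
    by_contra h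
    have : x ∈ ⋃ p ∈ associatedPrimes R R, (p : Set R) := by
      rw [biUnion_associatedPrimes_eq_compl_regular]; exact h
    obtain ⟨p, hp, hxp⟩ := Set.mem_iUnion₂.mp this
    exact hxnot (Set.mem_biUnion (Finset.mem_insert_of_mem (hfin.mem_toFinset.mpr hp)) hxp)
  set I := Ideal.span ({x} : Set R)
  have : IsLocalRing (R ⧸ I) := Groth.Agent.CAlg1.isLocalRing_quotient_singleton hxm
  have : IsLocalHom (algebraMap R (R ⧸ I)) := IsLocalHom.of_surjective _ Ideal.Quotient.mk_surjective
  -- projective dimension of the maximal ideal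
  have hm : HasProjectiveDimensionLE (ModuleCat.of R (maximalIdeal R)) n := by
    have hk' : HasProjectiveDimensionLE (ModuleCat.of R (ResidueField R)) (n + 1) :=
      hasProjectiveDimensionLT_of_ge _ (n + 1) (n + 1 + 1) (Nat.le_succ _)
    have hinj : Function.Injective (maximalIdeal R).subtype := Submodule.subtype_injective _
    have hexk : Function.Exact (maximalIdeal R).subtype (Algebra.linearMap R (ResidueField R)) := by
      intro y
      rw [Algebra.linearMap_apply, ResidueField.algebraMap_eq, residue_eq_zero_iff]
      exact ⟨fun hy => ⟨⟨y, hy⟩, rfl⟩, fun ⟨z, hz⟩ => hz ▸ z.2⟩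
    have hsurj : Function.Surjective (Algebra.linearMap R (ResidueField R)) := residue_surjective
    exact (hasPD_succ_iff (maximalIdeal R).subtype (Algebra.linearMap R (ResidueField R)) hinj hexk hsurj n).mp hk'
  have hmq := hasPD_quotient x hxreg n (maximalIdeal R) (hxreg.submodule _ _) hm
  -- residue field of R/x is a retract
  let xm : maximalIdeal R := ⟨x, hxm⟩
  have hxbar : (maximalIdeal R).toCotangent xm ≠ 0 := by rw [Ne, Ideal.toCotangent_eq_zero]; exact hx2
  obtain ⟨φ, hφ⟩ := Module.Projective.exists_dual_ne_zero (ResidueField R) hxbar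
  let φ' : CotangentSpace R →ₗ[ResidueField R] ResidueField R := (φ ((maximalIdeal R).toCotangent xm))⁻¹ • φ
  let toK : ResidueField R →ₗ[R] ResidueField (R ⧸ I) :=
    { toFun := ResidueField.map (algebraMap R (R ⧸ I))
      map_add' := map_add _
      map_smul' := fun r z => by
        rw [Algebra.smul_def, map_mul, RingHom.id_apply, Algebra.smul_def, ResidueField.algebraMap_eq, ResidueField.map_residue]
        rfl }
  let ψ0 : maximalIdeal R →ₗ[R] ResidueField (R ⧸ I) :=
    toK.comp ((φ'.restrictScalars R).comp (maximalIdeal R).toCotangent)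
  have hψ0x : ψ0 xm = 1 := by
    show ResidueField.map (algebraMap R (R ⧸ I)) ((φ ((maximalIdeal R).toCotangent xm))⁻¹ * φ ((maximalIdeal R).toCotangent xm)) = 1
    rw [inv_mul_cancel₀ hφ, map_one]
  have hψI : I • (⊤ : Submodule R (maximalIdeal R)) ≤ LinearMap.ker ψ0 := by
    refine Submodule.smul_le.mpr fun r hr y _ => ?_
    rw [LinearMap.mem_ker, map_smul]
    obtain ⟨s, rfl⟩ := Ideal.mem_span_singleton'.mp hr
    rw [Algebra.smul_def, IsScalarTower.algebraMap_apply R (R ⧸ I) (ResidueField (R ⧸ I))]
    rw [show algebraMap R (R ⧸ I) (s * x) = 0 from Ideal.Quotient.eq_zero_iff_mem.mpr (Ideal.mul_mem_left _ _ (Ideal.mem_span_singleton_self x)), map_zero, zero_mul]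
  let ψ : (maximalIdeal R ⧸ (I • (⊤ : Submodule R (maximalIdeal R)))) →ₗ[R ⧸ I] ResidueField (R ⧸ I) :=
    (Submodule.liftQ _ ψ0 hψI).extendScalarsOfSurjective Ideal.Quotient.mk_surjective
  have hσle : maximalIdeal (R ⧸ I) ≤ LinearMap.ker
      (LinearMap.toSpanSingleton (R ⧸ I) (maximalIdeal R ⧸ (I • (⊤ : Submodule R (maximalIdeal R)))) (Submodule.Quotient.mk xm)) := by
    intro z hz
    obtain ⟨r, rfl⟩ := Ideal.Quotient.mk_surjective z
    have hr : r ∈ maximalIdeal R := by
      have := Groth.Agent.CAlg1.comap_maximalIdeal_of_surjective (Ideal.Quotient.mk I) Ideal.Quotient.mk_surjective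
      rw [← this]; exact hz
    rw [LinearMap.mem_ker, LinearMap.toSpanSingleton_apply]
    show Submodule.Quotient.mk (r • xm) = 0
    rw [Submodule.Quotient.mk_eq_zero, show r • xm = x • (⟨r, hr⟩ : maximalIdeal R) from Subtype.ext (mul_comm r x)]
    exact Submodule.smul_mem_smul (Ideal.mem_span_singleton_self x) Submodule.mem_top
  let σ : ResidueField (R ⧸ I) →ₗ[R ⧸ I] (maximalIdeal R ⧸ (I • (⊤ : Submodule R (maximalIdeal R)))) :=
    Submodule.liftQ (maximalIdeal (R ⧸ I)) _ hσle
  have hret : ψ.comp σ = LinearMap.id := by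
    refine LinearMap.ext fun z => ?_
    obtain ⟨z, rfl⟩ := residue_surjective z
    show ψ (z • Submodule.Quotient.mk xm) = residue _ z
    rw [map_smul, show ψ (Submodule.Quotient.mk xm) = 1 from hψ0x, Algebra.smul_def, mul_one, ResidueField.algebraMap_eq]
  have hk2 : HasProjectiveDimensionLE (ModuleCat.of (R ⧸ I) (ResidueField (R ⧸ I))) n := by
    rw [← projectiveDimension_le_iff] at hmq ⊢
    exact le_trans (Retract.projectiveDimension_le ⟨ModuleCat.ofHom σ, ModuleCat.ofHom ψ, by ext1; exact hret⟩) hmq
  have hN' : (maximalIdeal (R ⧸ I)).spanFinrank + 1 = N := hN ▸ Groth.Agent.CAlg1.spanFinrank_quotient_succ hxm hx2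
  have := ih _ (by omega) (R ⧸ I) rfl hk2
  exact Groth.Agent.CAlg1.regular_of_quotient_regular hxm (mem_nonZeroDivisors_iff_right.mpr fun y hy => hxreg (by simpa [mul_comm] using hy))

theorem regular_of_finite_projdim (R : Type u) [CommRing R] [IsLocalRing R] [IsNoetherianRing R] (n : ℕ)
    (h : HasProjectiveDimensionLT (ModuleCat.of R (ResidueField R)) n) : IsRegularLocalRing R :=
  regular_of_finite_pd n _ R rfl (hasProjectiveDimensionLT_of_ge _ n (n + 1) (Nat.le_succ _))

theorem hasPD_residueField (R : Type u) [CommRing R] [IsRegularLocalRing R] (d : ℕ) (hd : ringKrullDim R = d) :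
    HasProjectiveDimensionLE (ModuleCat.of R (ResidueField R)) d := by
  classical
  have fg := (maximalIdeal R).fg_of_isNoetherianRing
  have fin := Submodule.FG.finite_generators fg
  have hcard : fin.toFinset.card = d := by
    rw [← Set.ncard_eq_toFinset_card _ fin, Submodule.FG.generators_ncard fg]
    have h := IsRegularLocalRing.spanFinrank_maximalIdeal (R := R)
    rw [hd] at h
    exact_mod_cast h
  let e : Fin d ≃ fin.toFinset := (Fin.castOrderIso hcard.symm).toEquiv.trans fin.toFinset.equivFin.symm
  let x : Fin d → R := fun i => (e i : R)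
  have hx : Ideal.span (Set.range x) = maximalIdeal R := by
    have : Set.range x = (maximalIdeal R).generators := by
      ext z
      refine ⟨?_, fun hz => ?_⟩
      · rintro ⟨i, rfl⟩; exact fin.mem_toFinset.mp (e i).2
      · exact ⟨e.symm ⟨z, fin.mem_toFinset.mpr hz⟩, by simp [x]⟩
    rw [this]; exact Submodule.span_generators _
  have hlist : Ideal.ofList (List.ofFn x) = maximalIdeal R := by
    rw [Ideal.ofList, ← hx]; congr 1; ext r; simp [List.mem_ofFn]
  have hpd := ModuleCat.projectiveDimension_quotient_eq_length.{u} (List.ofFn x) (Groth.Agent.CAlg1.isRegular_params hd x hx)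
  rw [List.length_ofFn] at hpd
  rw [← projectiveDimension_le_iff, ← hpd]
  exact le_of_eq (ModuleCat.projectiveDimension_eq_of_linearEquiv (M := ModuleCat.of R (ResidueField R))
    (N := ModuleCat.of R (Shrink.{u} (R ⧸ Ideal.ofList (List.ofFn x))))
    ((Submodule.quotEquivOfEq _ _ hlist.symm).trans (Shrink.linearEquiv R _).symm))

theorem hasPD_of_regular (R : Type u) [CommRing R] [IsRegularLocalRing R] (d : ℕ) (hd : ringKrullDim R = d) (M : Type u) [AddCommGroup M]
    [Module R M] : HasProjectiveDimensionLT (ModuleCat.of R M) (d + 1) :=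
  Groth.Agent.EGA4Alg4.hasProjectiveDimensionLT_of_residueField d (hasPD_residueField R d hd) _

theorem exists_bound (R : Type u) [CommRing R] [IsRegularLocalRing R] :
    ∃ d : ℕ, ∀ (M : Type u) [AddCommGroup M] [Module R M], HasProjectiveDimensionLE (ModuleCat.of R M) d := by
  exact ⟨(maximalIdeal R).spanFinrank, fun M _ _ => hasPD_of_regular R _ (IsRegularLocalRing.spanFinrank_maximalIdeal (R := R)).symm M⟩

theorem regular_localization (R : Type u) [CommRing R] [IsRegularLocalRing R] (p : Ideal R) [p.IsPrime] :
    IsRegularLocalRing (Localization.AtPrime p) := by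
  obtain ⟨d, hd⟩ := exists_bound R
  have h := hasPD_baseChange (Localization.AtPrime p) (R ⧸ p) d (hd _)
  have e : TensorProduct R (Localization.AtPrime p) (R ⧸ p) ≃ₗ[Localization.AtPrime p] ResidueField (Localization.AtPrime p) :=
    (Algebra.TensorProduct.quotIdealMapEquivTensorQuot (Localization.AtPrime p) p).symm.toLinearEquiv.trans
      (Submodule.quotEquivOfEq _ _ Localization.AtPrime.map_eq_maximalIdeal)
  rw [← projectiveDimension_le_iff, ModuleCat.projectiveDimension_eq_of_linearEquiv
    (N := ModuleCat.of (Localization.AtPrime p) (ResidueField (Localization.AtPrime p))) e, projectiveDimension_le_iff] at h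
  exact regular_of_finite_projdim _ (d + 1) h

theorem regular_of_flat (R : Type u) [CommRing R] [IsLocalRing R] [IsNoetherianRing R] (S : Type u) [CommRing S]
    [IsRegularLocalRing S] [Algebra R S] [IsLocalHom (algebraMap R S)] [Module.Flat R S] : IsRegularLocalRing R := by
  obtain ⟨d, hd⟩ := exists_bound S
  have : Module.FaithfullyFlat R S := Module.FaithfullyFlat.of_flat_of_isLocalHom
  exact regular_of_finite_projdim R (d + 1) (hasPD_of_baseChange S (ResidueField R) d (hd _))

end Groth.Agent.EGA4H10
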