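import Groth.Agent.Cohen12.Structure
import Groth.Agent.Cohen12.Completion
import Groth.Agent.CAlg1.Catenary
import Groth.Agent.EGA4H10.NormOpen
import Groth.Agent.EGA4H10.Serre
import Mathlib

/-!
# Complete Noetherian local rings are universally catenary
-/

set_option autoImplicit false
universe u
open IsLocalRing
open Groth.Agent.EGA4Alg4

set_option linter.style.haveILetI false
namespace Groth.Agent.EGA4H10

theorem isCohenMacaulayLocalRing_of_regular (R : Type u) [CommRing R] [IsRegularLocalRing R] :
    LocCoh.IsCohenMacaulayLocalRing R :=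
  { supportDim_eq_depth := le_antisymm
      (by rw [Module.supportDim_self_eq_ringKrullDim]; exact ringKrullDim_le_depth_of_regular R)
      depth_le_supportDim }

theorem isCohenMacaulayRing_of_regular (R : Type u) [CommRing R] [IsRegularLocalRing R] :
    LocCoh.IsCohenMacaulayRing R :=
  { isCohenMacaulayLocalRing_localization := fun p _ =>
      have := regular_localization R p
      isCohenMacaulayLocalRing_of_regular _ }

theorem isUniversallyCatenary_of_surjective {R S : Type u} [CommRing R] [CommRing S] (f : R →+* S)
    (hf : Function.Surjective f) (hR : CAlg.IsUniversallyCatenary R) : CAlg.IsUniversallyCatenary S := by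
  obtain ⟨hN, hc⟩ := hR
  refine ⟨isNoetherianRing_of_surjective R S f hf, fun T _ _ hT => ?_⟩
  letI : Algebra R S := f.toAlgebra
  letI : Algebra R T := ((algebraMap S T).comp f).toAlgebra
  have : IsScalarTower R S T := IsScalarTower.of_algebraMap_eq fun _ => rfl
  exact hc T (Algebra.FiniteType.trans (Algebra.FiniteType.of_surjective (Algebra.ofId R S) hf) hT)

/-- a complete Noetherian local ring is a quotient of a regular local ring -/
theorem exists_regular_surjection (C : Type u) [CommRing C] [IsLocalRing C] [IsNoetherianRing C]
    [IsAdicComplete (maximalIdeal C) C] :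
    ∃ (S : Type u) (_ : CommRing S) (_ : IsRegularLocalRing S) (φ : S →+* C),
      Function.Surjective φ := by
  obtain ⟨W, _, _, hW, w, hw, hsurj⟩ := Cohen12.exists_cohen_hom C
  obtain ⟨hN, hc, -⟩ := Cohen12.cohen_struct hW
  obtain ⟨m, φ, hφ, -, -⟩ := Cohen12.exists_surjection_of_cohen_hom w hsurj
  exact ⟨MvPowerSeries (Fin m) W, inferInstance, (Cohen12.regular_powerSeries_cohen m hW).1, φ, hφ⟩

theorem isUniversallyCatenary_of_complete (C : Type u) [CommRing C] [IsLocalRing C] [IsNoetherianRing C]
    [IsAdicComplete (maximalIdeal C) C] : CAlg.IsUniversallyCatenary C := by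
  obtain ⟨S, _, hS, φ, hφ⟩ := exists_regular_surjection C
  have := isCohenMacaulayRing_of_regular S
  exact isUniversallyCatenary_of_surjective φ hφ (CAlg1.isUniversallyCatenary_of_cm S)

theorem isCatenary_of_universallyCatenary {R : Type u} [CommRing R] (h : CAlg.IsUniversallyCatenary R) :
    CAlg.IsCatenary R :=
  h.2 R inferInstance

theorem isUniversallyCatenary_cpl (A : Type u) [CommRing A] [IsLocalRing A] [IsNoetherianRing A] :
    CAlg.IsUniversallyCatenary (EGA4.Cpl A) :=
  have := Cohen12.isNoetherianRing_completion (A := A)
  have := Cohen12.isAdicComplete_completion (A := A)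
  isUniversallyCatenary_of_complete _

end Groth.Agent.EGA4H10
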