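import Groth.Agent.EGA4H10.CompleteGRing
import Groth.Agent.CAlg6.RegularNormal
import Groth.Prelude.Def_Found
import Mathlib

/-!
# Complete Noetherian local rings are Nagata

A normal domain with enough derivations is N-2: in a step `L = M(y)`, `y ^ q = a` with `D a ≠ 0` the
integral closure lies in `(D a) ^ (-2q)` times the span of the powers of `y`.
-/

set_option autoImplicit false
set_option linter.style.haveILetI false
set_option synthInstance.maxHeartbeats 100000
universe u

open Polynomial

namespace Groth.Agent.EGA4H10

/-- an element whose `D0`-iterates are controlled -/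
theorem exists_bounded_derivation {C M : Type u} [CommRing C] [IsDomain C] [Field M] [Algebra C M] [IsFractionRing C M]
    (D : Derivation ℤ C C) (a : C) (ha : D a ≠ 0) :
    ∃ E : Derivation ℤ M M, E (algebraMap C M a) = 1 ∧
      ∀ (n : ℕ) (x : M), (∃ c : C, x * algebraMap C M (D a) ^ n = algebraMap C M c) →
        ∃ c : C, E x * algebraMap C M (D a) ^ (n + 2) = algebraMap C M c := by
  obtain ⟨δ, hδ⟩ := exists_derivation_frac (L := M) D
  let d := algebraMap C M (D a)
  have hd : d ≠ 0 := (map_ne_zero_iff _ (IsFractionRing.injective C M)).2 ha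
  refine ⟨d⁻¹ • δ, ?_, fun n x ⟨c, hc⟩ => ⟨D c * D a - (n : C) * c * D (D a), ?_⟩⟩
  · rw [Derivation.smul_apply, hδ, smul_eq_mul, inv_mul_cancel₀ hd]
  · have h : d ^ n * δ x + x * ((n : M) * d ^ (n - 1) * δ d) = algebraMap C M (D c) := by
      rw [← hδ c, ← hc, Derivation.leibniz, Derivation.leibniz_pow]
      simp only [smul_eq_mul, nsmul_eq_mul, d]
      ring
    have hdd : δ d = algebraMap C M (D (D a)) := hδ (D a)
    rw [Derivation.smul_apply, smul_eq_mul, map_sub, map_mul, map_mul, map_mul, map_natCast, ← h, ← hc, ← hdd]
    show d⁻¹ * δ x * d ^ (n + 2) = (d ^ n * δ x + x * ((n : M) * d ^ (n - 1) * δ d)) * d - (n : M) * (x * d ^ n) * δ d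
    rcases n with _ | m
    · simp only [Nat.cast_zero, zero_add, zero_mul, mul_zero, add_zero, sub_zero, pow_zero, one_mul]
      field_simp
    · rw [Nat.add_sub_cancel, pow_succ d m, pow_succ d (m + 1 + 1), pow_succ d (m + 1), pow_succ d m]
      field_simp
      ring

/-- the coefficients of a polynomial are recovered from its derivatives -/
theorem coeff_mem_of_derivatives {M : Type u} [Field M] (q : ℕ) [Fact q.Prime] [CharP M q] {C : Type u} [CommRing C]
    [Algebra C M] (W : Submodule C M) (a : C) (P : M[X]) (hP : P.natDegree < q)
    (h : ∀ j < q, (derivative^[j] P).eval (algebraMap C M a) ∈ W) (i : ℕ) : P.coeff i ∈ W := by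
  have hT : ∀ k, (taylor (algebraMap C M a) P).coeff k ∈ W := by
    intro k
    by_cases hk : k < q
    · rw [taylor_coeff]
      have h1 := h k hk
      rw [← factorial_smul_hasseDeriv, LinearMap.smul_apply, nsmul_eq_mul, eval_mul, eval_natCast] at h1
      obtain ⟨u, hu⟩ : ∃ u : ℕ, ((u : M) * (k.factorial : M)) = 1 := by
        have hne : (k.factorial : ZMod q) ≠ 0 := by
          rw [Ne, ZMod.natCast_eq_zero_iff, (Fact.out : q.Prime).dvd_factorial]
          omega
        refine ⟨((k.factorial : ZMod q)⁻¹).val, ?_⟩
        have := congrArg (ZMod.castHom (dvd_refl q) M) (inv_mul_cancel₀ hne)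
        rwa [map_mul, map_one, map_natCast, ← ZMod.natCast_zmod_val (k.factorial : ZMod q)⁻¹, map_natCast] at this
      have h2 := W.smul_mem (u : C) h1
      rwa [Algebra.smul_def, map_natCast, ← mul_assoc, hu, one_mul] at h2
    · rw [coeff_eq_zero_of_natDegree_lt (by rw [natDegree_taylor]; omega)]
      exact W.zero_mem
  let T := taylor (algebraMap C M a) P
  have hPT : P = ∑ k ∈ T.support, Polynomial.C (T.coeff k) * (Polynomial.X - Polynomial.C (algebraMap C M a)) ^ k := by
    conv_lhs => rw [← sum_taylor_eq P (algebraMap C M a)]
    rfl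
  rw [hPT, finsetSum_coeff]
  refine sum_mem fun k _ => ?_
  rw [coeff_C_mul, show (Polynomial.X - Polynomial.C (algebraMap C M a)) =
      (Polynomial.X - Polynomial.C a).map (algebraMap C M) by simp,
    ← Polynomial.map_pow, Polynomial.coeff_map, mul_comm, ← Algebra.smul_def]
  exact W.smul_mem _ (hT k)

/-- one purely inseparable step for finiteness of integral closures -/
theorem finite_integralClosure_step {C M L : Type u} [CommRing C] [IsDomain C] [IsIntegrallyClosed C]
    [IsNoetherianRing C] [Field M] [Algebra C M] [IsFractionRing C M] [Field L] [Algebra M L] [Algebra C L]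
    [IsScalarTower C M L] (q : ℕ) [Fact q.Prime] [CharP M q] (D : Derivation ℤ C C) (a : C) (y : L)
    (hy : y ^ q = algebraMap C L a) (ha : D a ≠ 0) (hgen : IntermediateField.adjoin M {y} = ⊤)
    (hnot : ∀ b : M, b ^ q ≠ algebraMap C M a) : Module.Finite C (integralClosure C L) := by
  classical
  have hq : 0 < q := (Fact.out : q.Prime).pos
  have : CharP L q := charP_of_injective_algebraMap (algebraMap M L).injective q
  obtain ⟨E, hEa, hE⟩ := exists_bounded_derivation (M := M) D a ha
  let d := algebraMap C M (D a)
  have hd : d ≠ 0 := (map_ne_zero_iff _ (IsFractionRing.injective C M)).2 ha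
  have hint : IsIntegral M y := ⟨Polynomial.X ^ q - Polynomial.C (algebraMap C M a), monic_X_pow_sub_C _ hq.ne',
    by simp [hy, ← IsScalarTower.algebraMap_apply]⟩
  have hirr : Irreducible (Polynomial.X ^ q - Polynomial.C (algebraMap C M a)) :=
    X_pow_sub_C_irreducible_of_prime Fact.out hnot
  have hmin : minpoly M y = Polynomial.X ^ q - Polynomial.C (algebraMap C M a) :=
    (minpoly.eq_of_irreducible_of_monic hirr (by simp [hy, ← IsScalarTower.algebraMap_apply])
      (monic_X_pow_sub_C _ hq.ne')).symm
  let pb : PowerBasis M L :=
    (IntermediateField.adjoin.powerBasis hint).map ((IntermediateField.equivOfEq hgen).trans IntermediateField.topEquiv)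
  have hdim : pb.dim = q := by simp [pb, hmin]
  have hpgen : pb.gen = y := by simp [pb]
  have hbasis : ∀ i : Fin pb.dim, pb.basis i = y ^ (i : ℕ) := fun i => by rw [pb.basis_eq_pow, hpgen]
  let n := 2 * q
  -- every integral element has coefficients with bounded denominators
  have key : ∀ z : L, IsIntegral C z → ∀ i, ∃ c : C, pb.basis.repr z i * d ^ n = algebraMap C M c := by
    intro z hz i
    let P : M[X] := ∑ l : Fin pb.dim, Polynomial.C (pb.basis.repr z l ^ q) * Polynomial.X ^ (l : ℕ)
    have hz1 : algebraMap M L (P.eval (algebraMap C M a)) = z ^ q := by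
      conv_rhs => rw [← pb.basis.sum_repr z, sum_pow_char]
      rw [eval_finsetSum, map_sum]
      refine Finset.sum_congr rfl fun l _ => ?_
      rw [eval_mul, eval_C, eval_pow, eval_X, map_mul, map_pow, map_pow, ← IsScalarTower.algebraMap_apply, ← hy,
        hbasis, Algebra.smul_def, mul_pow, ← pow_mul, ← pow_mul, mul_comm q]
    obtain ⟨c0, hc0⟩ : ∃ c : C, algebraMap C M c = P.eval (algebraMap C M a) :=
      IsIntegrallyClosed.isIntegral_iff.1 ((isIntegral_algebraMap_iff (algebraMap M L).injective).1 (hz1 ▸ hz.pow q))
    have hdeg : P.natDegree < q := by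
      refine lt_of_le_of_lt (natDegree_sum_le_of_forall_le _ _ (n := q - 1) fun l _ => ?_) (by omega)
      refine (natDegree_C_mul_X_pow_le _ _).trans ?_
      have := l.2
      omega
    have hcoef : ∀ l, E (P.coeff l) = 0 := by
      intro l
      rw [finsetSum_coeff, map_sum]
      refine Finset.sum_eq_zero fun j _ => ?_
      rw [coeff_C_mul, coeff_X_pow]
      split_ifs with h
      · rw [mul_one, Derivation.leibniz_pow, ← Nat.cast_smul_eq_nsmul M q, CharP.cast_eq_zero M q, zero_smul]
      · rw [mul_zero, map_zero]
    have hder : ∀ Q : M[X], (∀ l, E (Q.coeff l) = 0) →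
        E (Q.eval (algebraMap C M a)) = (derivative Q).eval (algebraMap C M a) := by
      intro Q hQ
      conv_lhs => rw [eval_eq_sum_range]
      rw [map_sum, derivative_eval, sum_over_range _ (fun l => by simp)]
      refine Finset.sum_congr rfl fun l _ => ?_
      rw [Derivation.leibniz, hQ, smul_zero, add_zero, Derivation.leibniz_pow, hEa]
      simp [nsmul_eq_mul]
      ring
    have hiter : ∀ j, ∃ c : C, (derivative^[j] P).eval (algebraMap C M a) * d ^ (2 * j) = algebraMap C M c ∧
        ∀ l, E ((derivative^[j] P).coeff l) = 0 := by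
      intro j
      induction j with
      | zero => exact ⟨c0, by simp [hc0], by simpa using hcoef⟩
      | succ j ih =>
        obtain ⟨c, hc, hl⟩ := ih
        obtain ⟨c', hc'⟩ := hE (2 * j) _ ⟨c, hc⟩
        refine ⟨c', ?_, fun l => ?_⟩
        · rw [Function.iterate_succ_apply', ← hder _ hl]
          exact hc'
        · rw [Function.iterate_succ_apply', coeff_derivative, Derivation.leibniz, hl, smul_zero, add_zero,
            ← Nat.cast_add_one, Derivation.map_natCast, smul_zero]
    let W : Submodule C M :=
      { carrier := {x | ∃ c : C, x * d ^ n = algebraMap C M c}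
        add_mem' := fun {x x'} ⟨c, hc⟩ ⟨c', hc'⟩ => ⟨c + c', by rw [add_mul, hc, hc', map_add]⟩
        zero_mem' := ⟨0, by simp⟩
        smul_mem' := fun r x ⟨c, hc⟩ => ⟨r * c, by rw [Algebra.smul_def, mul_assoc, hc, map_mul]⟩ }
    have hW : ∀ l, P.coeff l ∈ W := coeff_mem_of_derivatives q W a P hdeg fun j hj => by
      obtain ⟨c, hc, -⟩ := hiter j
      refine ⟨c * D a ^ (n - 2 * j), ?_⟩
      rw [map_mul, map_pow, ← hc, mul_assoc, ← pow_add, show 2 * j + (n - 2 * j) = n by omega]
    obtain ⟨c, hc⟩ := hW i
    have hPi : P.coeff i = pb.basis.repr z i ^ q := by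
      rw [finsetSum_coeff, Finset.sum_eq_single i]
      · rw [coeff_C_mul, coeff_X_pow, if_pos rfl, mul_one]
      · intro l _ hl
        rw [coeff_C_mul, coeff_X_pow, if_neg fun h => hl (Fin.ext h.symm), mul_zero]
      · exact fun h => absurd (Finset.mem_univ _) h
    rw [hPi] at hc
    have hint' : IsIntegral C (pb.basis.repr z i * d ^ n) := by
      refine IsIntegral.of_pow hq ?_
      rw [mul_pow, ← pow_mul, show n * q = n + (n * q - n) from (Nat.add_sub_cancel' (Nat.le_mul_of_pos_right n hq)).symm,
        pow_add, ← mul_assoc, hc, ← map_pow, ← map_mul]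
      exact isIntegral_algebraMap
    obtain ⟨c', hc'⟩ := IsIntegrallyClosed.isIntegral_iff.1 hint'
    exact ⟨c', hc'.symm⟩
  choose κ hκ using key
  -- embed the integral closure in a free module
  let f : integralClosure C L →ₗ[C] (Fin pb.dim → C) :=
    { toFun := fun z i => κ z.1 ((mem_integralClosure_iff C L).1 z.2) i
      map_add' := fun z z' => funext fun i => IsFractionRing.injective C M (by
        rw [Pi.add_apply, map_add]
        rw [← hκ, ← hκ, ← hκ, ← add_mul]
        simp)
      map_smul' := fun r z => funext fun i => IsFractionRing.injective C M (by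
        simp only [RingHom.id_apply, Pi.smul_apply, smul_eq_mul, map_mul, ← hκ]
        rw [← mul_assoc]
        congr 1
        show pb.basis.repr (r • (z : L)) i = _
        rw [← IsScalarTower.algebraMap_smul M r (z : L), map_smul, Finsupp.smul_apply, smul_eq_mul]) }
  refine Module.Finite.of_injective f fun z z' h => Subtype.ext (pb.basis.repr.injective (Finsupp.ext fun i => ?_))
  have h1 := congrArg (algebraMap C M) (congrFun h i)
  simp only [f, LinearMap.coe_mk, AddHom.coe_mk, ← hκ] at h1
  exact mul_right_cancel₀ (pow_ne_zero n hd) h1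

/-- a normal domain with enough derivations is N-2 -/
theorem finite_integralClosure_of_derivations {R : Type u} [CommRing R] [IsDomain R] [IsNoetherianRing R]
    [IsIntegrallyClosed R] (q : ℕ) [Fact q.Prime] [CharP R q]
    (hder : ∀ (C : Type u) [CommRing C] [IsDomain C] [Algebra R C] [Module.Finite R C] [FaithfulSMul R C]
      (a : C), (∀ y : FractionRing C, y ^ q ≠ algebraMap C (FractionRing C) a) → ∃ D : Derivation ℤ C C, D a ≠ 0) :
    ∀ (d : ℕ) (L : Type u) [Field L] [Algebra R L] [FaithfulSMul R L] [Algebra (FractionRing R) L]
      [IsScalarTower R (FractionRing R) L] [Module.Finite (FractionRing R) L],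
      Module.finrank (FractionRing R) L ≤ d → Module.Finite R (integralClosure R L) := by
  intro d
  induction d with
  | zero => intro L _ _ _ _ _ _ hd; exact absurd hd (not_le.2 Module.finrank_pos)
  | succ d ih =>
    intro L _ _ _ _ _ _ hd
    classical
    let K := FractionRing R
    have : CharP L q := charP_of_injective_algebraMap (FaithfulSMul.algebraMap_injective R L) q
    have : CharP K q := charP_of_injective_algebraMap (IsFractionRing.injective R K) q
    have : ExpChar K q := .prime Fact.out
    by_cases hsep : separableClosure K L = ⊤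
    · have : Algebra.IsSeparable K L := ⟨fun x => mem_separableClosure_iff.1 (hsep ▸ IntermediateField.mem_top)⟩
      exact IsIntegralClosure.finite R K L (integralClosure R L)
    · have hex : ∃ n, ∃ M : IntermediateField K L, separableClosure K L ≤ M ∧ M ≠ ⊤ ∧
          Module.finrank K L - Module.finrank K M = n := ⟨_, _, le_rfl, hsep, rfl⟩
      obtain ⟨M, hM, hMtop, hMn⟩ := Nat.find_spec hex
      have hmax : ∀ M' : IntermediateField K L, M < M' → M' = ⊤ := by
        intro M' h
        by_contra hne
        have h1 := Nat.find_min' hex ⟨M', hM.trans h.le, hne, rfl⟩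
        have h2 : Module.finrank K M < Module.finrank K M' :=
          Submodule.finrank_lt_finrank_of_lt (SetLike.lt_iff_le_and_exists.2
            ⟨fun x hx => h.le hx, SetLike.exists_of_lt h⟩ : M.toSubmodule < M'.toSubmodule)
        have h3 : Module.finrank K M' ≤ Module.finrank K L := Submodule.finrank_le M'.toSubmodule
        omega
      obtain ⟨x, -, hx⟩ := SetLike.exists_of_lt (lt_top_iff_ne_top.2 hMtop)
      have hpow : ∃ m, x ^ q ^ m ∈ M := by
        obtain ⟨m, z, hz⟩ := IsPurelyInseparable.pow_mem (F := separableClosure K L) q x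
        exact ⟨m, hM (hz ▸ z.2)⟩
      have hm0 : Nat.find hpow ≠ 0 := fun h => hx (by simpa [h] using Nat.find_spec hpow)
      let y := x ^ q ^ (Nat.find hpow - 1)
      have hyM : y ∉ M := Nat.find_min hpow (by omega)
      have hyq : y ^ q ∈ M := by
        rw [show y ^ q = x ^ q ^ Nat.find hpow by rw [← pow_mul, ← pow_succ, Nat.sub_add_cancel (Nat.one_le_iff_ne_zero.2 hm0)]]
        exact Nat.find_spec hpow
      have : FaithfulSMul R M := (faithfulSMul_iff_algebraMap_injective R M).2 fun r r' h =>
        FaithfulSMul.algebraMap_injective R L (congrArg Subtype.val h)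
      have hMd : Module.finrank K M ≤ d := by
        have : Module.finrank K M < Module.finrank K L :=
          Submodule.finrank_lt (s := M.toSubmodule) fun h => hMtop (IntermediateField.toSubalgebra_injective
            (Subalgebra.toSubmodule.injective (h.trans Algebra.top_toSubmodule.symm)))
        have hd' : Module.finrank K L ≤ d + 1 := hd
        omega
      have : IsScalarTower R M L := IsScalarTower.of_algebraMap_eq fun r => rfl
      have : CharP M q := charP_of_injective_algebraMap (algebraMap K M).injective q
      let C := integralClosure R M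
      have hC : Module.Finite R C := ih M hMd
      have : IsNoetherianRing C := isNoetherian_of_tower R inferInstance
      have : IsFractionRing C M := integralClosure.isFractionRing_of_finite_extension K M
      have : IsIntegrallyClosed C := integralClosure.isIntegrallyClosedOfFiniteExtension K
      have : FaithfulSMul R C := (faithfulSMul_iff_algebraMap_injective R C).2 fun r r' h =>
        FaithfulSMul.algebraMap_injective R M (congrArg Subtype.val h)
      have : Algebra.IsAlgebraic K M := Algebra.IsAlgebraic.of_finite K M
      have : Algebra.IsAlgebraic R M := (IsFractionRing.comap_isAlgebraic_iff (A := R) (K := K)).2 inferInstance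
      obtain ⟨s, hs0, hsint⟩ := (Algebra.IsAlgebraic.isAlgebraic (R := R) (⟨y ^ q, hyq⟩ : M)).exists_integral_multiple
      let a : C := ⟨s ^ (q - 1) • (s • (⟨y ^ q, hyq⟩ : M)), hsint.smul _⟩
      let y' : L := s • y
      have hqe : q = q - 1 + 1 := (Nat.sub_add_cancel (Fact.out : q.Prime).one_le).symm
      have hy' : y' ^ q = algebraMap C L a := by
        show (s • y) ^ q = ((s ^ (q - 1) • (s • (⟨y ^ q, hyq⟩ : M)) : M) : L)
        simp only [IntermediateField.coe_smul, smul_smul, ← pow_succ, ← hqe, _root_.smul_pow]
      have hy'M : y' ∉ M := fun h => hyM (by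
        have h2 : (algebraMap R L s)⁻¹ * y' ∈ M := mul_mem (inv_mem (M.algebraMap_mem (algebraMap R K s) |> fun h' => by
          rwa [← IsScalarTower.algebraMap_apply] at h')) h
        rwa [show y' = algebraMap R L s * y from Algebra.smul_def s y, inv_mul_cancel_left₀
          ((map_ne_zero_iff _ (FaithfulSMul.algebraMap_injective R L)).2 hs0)] at h2)
      have hnot : ∀ b : M, b ^ q ≠ algebraMap C M a := fun b hb => hy'M (by
        have h : (b : L) ^ q = y' ^ q := by rw [hy']; exact congrArg Subtype.val hb
        rw [← frobenius_inj L q h]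
        exact b.2)
      have hgen : IntermediateField.adjoin M {y'} = ⊤ := by
        have hlt : M < (IntermediateField.adjoin M {y'}).restrictScalars K :=
          SetLike.lt_iff_le_and_exists.2 ⟨fun z hz => (IntermediateField.adjoin M {y'}).algebraMap_mem ⟨z, hz⟩,
            y', IntermediateField.mem_adjoin_simple_self M y', hy'M⟩
        exact IntermediateField.restrictScalars_eq_top_iff.1 (hmax _ hlt)
      obtain ⟨D, hD⟩ := hder C a fun w hw => hnot (IsLocalization.algEquiv (nonZeroDivisors C) (FractionRing C) M w) (by
        rw [← map_pow, hw, AlgEquiv.commutes])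
      have : IsScalarTower C M L := IsScalarTower.of_algebraMap_eq fun _ => rfl
      have hfin := finite_integralClosure_step q D a y' hy' hD hgen hnot
      have : Module.Finite R (integralClosure C L) := Module.Finite.trans C _
      have : IsScalarTower R C L := IsScalarTower.of_algebraMap_eq fun _ => rfl
      let f : integralClosure R L →ₗ[R] integralClosure C L :=
        { toFun := fun z => ⟨z.1, z.2.tower_top⟩
          map_add' := fun _ _ => rfl
          map_smul' := fun _ _ => rfl }
      exact Module.Finite.of_injective f fun z z' h => Subtype.ext (congrArg Subtype.val h :)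

theorem isN2_of_complete (A : Type u) [CommRing A] [IsDomain A] [IsLocalRing A] [IsNoetherianRing A]
    [IsAdicComplete (IsLocalRing.maximalIdeal A) A] : CAlg.IsN2 A := by
  intro L _ _ _ _ hfd
  obtain ⟨R, _, _, _, _, _, hinj, hfam⟩ := exists_finite_regular A
  have : FaithfulSMul R A := (faithfulSMul_iff_algebraMap_injective R A).2 hinj
  let K := FractionRing R
  let L0 := FractionRing A
  have hinjL0 : Function.Injective (algebraMap R L0) := by
    rw [IsScalarTower.algebraMap_eq R A L0]; exact (IsFractionRing.injective A L0).comp hinj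
  have : FaithfulSMul R L0 := (faithfulSMul_iff_algebraMap_injective R L0).2 hinjL0
  letI : Algebra K L0 := FractionRing.liftAlgebra R L0
  have : IsScalarTower R K L0 := FractionRing.isScalarTower_liftAlgebra R L0
  have : Module.Finite K L0 := OmegaHat14.finite_fractionRing R A
  letI : Algebra R L := ((algebraMap A L).comp (algebraMap R A)).toAlgebra
  have : IsScalarTower R A L := IsScalarTower.of_algebraMap_eq fun _ => rfl
  have hinjL : Function.Injective (algebraMap R L) := by
    rw [IsScalarTower.algebraMap_eq R A L, IsScalarTower.algebraMap_eq A L0 L]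
    exact ((algebraMap L0 L).injective.comp (IsFractionRing.injective A L0)).comp hinj
  have : FaithfulSMul R L := (faithfulSMul_iff_algebraMap_injective R L).2 hinjL
  letI : Algebra K L := ((algebraMap L0 L).comp (algebraMap K L0)).toAlgebra
  have : IsScalarTower K L0 L := IsScalarTower.of_algebraMap_eq fun _ => rfl
  have : IsScalarTower R K L := IsScalarTower.of_algebraMap_eq fun r => by
    show _ = algebraMap L0 L (algebraMap K L0 (algebraMap R K r))
    rw [← IsScalarTower.algebraMap_apply R K L0, IsScalarTower.algebraMap_apply R A L0,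
      ← IsScalarTower.algebraMap_apply A L0 L]
    rfl
  have : Module.Finite K L := Module.Finite.trans L0 L
  have : IsIntegrallyClosed R := CAlg6.isIntegrallyClosed_of_regular R
  have hfin : Module.Finite R (integralClosure R L) := by
    obtain ⟨c, hc⟩ := CharP.exists R
    rcases CharP.char_is_prime_or_zero R c with hcp | rfl
    · have : Fact c.Prime := ⟨hcp⟩
      obtain ⟨F⟩ := hfam c hcp ((RingHom.charP_iff _ hinj c).1 hc)
      exact finite_integralClosure_of_derivations c (fun C _ _ _ _ _ a ha => F.exists_derivation C a ha) _ L le_rfl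
    · have : CharZero R := CharP.charP_to_charZero R
      have : CharZero K := charZero_of_injective_algebraMap (IsFractionRing.injective R K)
      exact IsIntegralClosure.finite R K L (integralClosure R L)
  let f : integralClosure A L →ₗ[R] integralClosure R L :=
    { toFun := fun z => ⟨z.1, isIntegral_trans (R := R) (A := A) z.1 z.2⟩
      map_add' := fun _ _ => rfl
      map_smul' := fun _ _ => rfl }
  have : Module.Finite R (integralClosure A L) :=
    Module.Finite.of_injective f fun z z' h => Subtype.ext (congrArg Subtype.val h :)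
  exact Module.Finite.of_restrictScalars_finite R A _

theorem isNagata_of_complete (A : Type u) [CommRing A] [IsLocalRing A] [IsNoetherianRing A]
    [IsAdicComplete (IsLocalRing.maximalIdeal A) A] : CAlg.IsNagata A := by
  refine ⟨inferInstance, fun p _ => ?_⟩
  have := Cohen12.isAdicComplete_quotient p
  exact isN2_of_complete (A ⧸ p)

end Groth.Agent.EGA4H10
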