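import Mathlib

/-!
# Completion of a quotient of a Noetherian local ring
-/

set_option autoImplicit false
universe u

open IsLocalRing

namespace Groth.Agent.EGA4H10

variable (A C : Type u) [CommRing A] [IsNoetherianRing A] [IsLocalRing A] [CommRing C]
  [IsLocalRing C] [Algebra A C]

local notation "m" => maximalIdeal A
local notation "mC" => maximalIdeal C

omit [IsNoetherianRing A] in
theorem map_maximalIdeal_eq (hs : Function.Surjective (algebraMap A C)) :
    (maximalIdeal A).map (algebraMap A C) = maximalIdeal C := by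
  have : IsLocalHom (algebraMap A C) := hs.isLocalHom
  exact IsLocalRing.map_maximalIdeal_of_surjective _ hs

theorem mem_pow_smul_top_iff (hs : Function.Surjective (algebraMap A C)) (n : ℕ) (c : C) :
    c ∈ ((maximalIdeal A) ^ n • ⊤ : Submodule A C) ↔ c ∈ (maximalIdeal C) ^ n := by
  rw [Ideal.smul_top_eq_map, Submodule.restrictScalars_mem, Ideal.map_pow, map_maximalIdeal_eq A C hs]

/-- the components of the canonical map between completions -/
noncomputable def cplMapAux (hs : Function.Surjective (algebraMap A C)) (n : ℕ) :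
    AdicCompletion m A →+* C ⧸ mC ^ n :=
  (Ideal.quotientMap (mC ^ n) (algebraMap A C)
      (Ideal.map_le_iff_le_comap.mp (le_of_eq (by rw [Ideal.map_pow, map_maximalIdeal_eq A C hs])))).comp
      (AdicCompletion.evalₐ m n).toRingHom

theorem cplMapAux_compat (hs : Function.Surjective (algebraMap A C)) {k n : ℕ} (hkn : k ≤ n) :
    (Ideal.Quotient.factorPow mC hkn).comp (cplMapAux A C hs n) = cplMapAux A C hs k := by
  ext x
  obtain ⟨f, rfl⟩ := AdicCompletion.mk_surjective m A x
  simp only [cplMapAux, RingHom.comp_apply, AlgHom.toRingHom_eq_coe, RingHom.coe_coe, AdicCompletion.evalₐ_mk,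
    Ideal.quotientMap_mk, Ideal.Quotient.factor_mk]
  rw [Ideal.Quotient.eq, ← map_sub, ← map_maximalIdeal_eq A C hs, ← Ideal.map_pow]
  refine Ideal.mem_map_of_mem _ (Ideal.Quotient.eq.mp ?_)
  exact AdicCompletion.Ideal.mk_eq_mk m hkn f

/-- the canonical surjection between completions -/
noncomputable def cplMap (hs : Function.Surjective (algebraMap A C)) :
    AdicCompletion m A →+* AdicCompletion mC C :=
  AdicCompletion.liftRingHom mC (cplMapAux A C hs) (cplMapAux_compat A C hs)

theorem evalₐ_cplMap (hs : Function.Surjective (algebraMap A C)) (n : ℕ) (x : AdicCompletion m A) :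
    AdicCompletion.evalₐ mC n (cplMap A C hs x) = cplMapAux A C hs n x :=
  AdicCompletion.evalₐ_liftRingHom mC (cplMapAux A C hs) (cplMapAux_compat A C hs) n x

theorem evalₐ_cplMap_mk (hs : Function.Surjective (algebraMap A C)) (n : ℕ) (f : AdicCompletion.AdicCauchySequence m A) :
    AdicCompletion.evalₐ mC n (cplMap A C hs (AdicCompletion.mk m A f)) =
      Ideal.Quotient.mk _ (algebraMap A C (f.val n)) := by
  rw [evalₐ_cplMap]
  simp only [cplMapAux, RingHom.comp_apply, AlgHom.toRingHom_eq_coe, RingHom.coe_coe, AdicCompletion.evalₐ_mk, Ideal.quotientMap_mk]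

theorem cplMap_algebraMap (hs : Function.Surjective (algebraMap A C)) (a : A) :
    cplMap A C hs (algebraMap A (AdicCompletion m A) a) =
      algebraMap C (AdicCompletion mC C) (algebraMap A C a) := by
  refine AdicCompletion.ext_evalₐ fun n => ?_
  rw [evalₐ_cplMap, AlgHom.commutes]
  simp only [cplMapAux, RingHom.comp_apply, AlgHom.toRingHom_eq_coe, RingHom.coe_coe, AlgHom.commutes, Ideal.Quotient.algebraMap_eq]
  rfl

theorem cplMap_surjective (hs : Function.Surjective (algebraMap A C)) : Function.Surjective (cplMap A C hs) := by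
  intro y
  obtain ⟨g, rfl⟩ := AdicCompletion.mk_surjective mC C y
  let g' : AdicCompletion.AdicCauchySequence m C := AdicCompletion.AdicCauchySequence.mk m C g.val fun n => by
    rw [SModEq.sub_mem, mem_pow_smul_top_iff A C hs]
    simpa [SModEq.sub_mem] using g.property (Nat.le_succ n)
  obtain ⟨x, hx⟩ := AdicCompletion.map_surjective m (f := Algebra.linearMap A C) hs (AdicCompletion.mk m C g')
  obtain ⟨f, rfl⟩ := AdicCompletion.mk_surjective m A x
  refine ⟨AdicCompletion.mk m A f, AdicCompletion.ext_evalₐ fun n => ?_⟩
  rw [evalₐ_cplMap_mk, AdicCompletion.evalₐ_mk, Ideal.Quotient.eq, ← mem_pow_smul_top_iff A C hs]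
  have := congrArg (fun z => z.val n) hx
  simpa [g', Submodule.Quotient.eq] using this

theorem ker_cplMap (hs : Function.Surjective (algebraMap A C)) :
    RingHom.ker (cplMap A C hs) = (RingHom.ker (algebraMap A C)).map (algebraMap A (AdicCompletion m A)) := by
  refine le_antisymm (fun x hx => ?_) (Ideal.map_le_iff_le_comap.mpr fun a ha => ?_)
  · rw [RingHom.mem_ker] at hx
    obtain ⟨f, rfl⟩ := AdicCompletion.mk_surjective m A x
    have : Module.Finite A C := Module.Finite.of_surjective (Algebra.linearMap A C) hs
    have hz : AdicCompletion.map m (Algebra.linearMap A C) (AdicCompletion.mk m A f) = 0 := by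
      ext n
      have := congrArg (AdicCompletion.evalₐ mC n) hx
      rw [evalₐ_cplMap_mk, map_zero, Ideal.Quotient.eq_zero_iff_mem, ← mem_pow_smul_top_iff A C hs] at this
      simpa [Submodule.Quotient.mk_eq_zero] using this
    have hexact : Function.Exact (RingHom.ker (algebraMap A C)).subtype (Algebra.linearMap A C) := fun y =>
      ⟨fun h => ⟨⟨y, h⟩, rfl⟩, by rintro ⟨z, rfl⟩; exact z.2⟩
    obtain ⟨z, hz'⟩ := (AdicCompletion.map_exact (I := m)
      (f := (RingHom.ker (algebraMap A C)).subtype) Subtype.val_injective hexact hs _).mp hz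
    rw [← hz']
    obtain ⟨t, rfl⟩ := AdicCompletion.ofTensorProduct_surjective_of_finite m _ z
    clear hz' hz
    induction t with
    | zero => simp
    | add a b ha hb => rw [map_add, map_add]; exact add_mem ha hb
    | tmul s j =>
      rw [AdicCompletion.ofTensorProduct_tmul, map_smul, AdicCompletion.map_of]
      exact Ideal.mul_mem_left _ s (Ideal.mem_map_of_mem _ j.2)
  · rw [Ideal.mem_comap, RingHom.mem_ker, cplMap_algebraMap, RingHom.mem_ker.mp ha, map_zero]

/-- completion of a quotient = quotient of the completion -/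
noncomputable def cplQuotEquiv (hs : Function.Surjective (algebraMap A C)) :
    (AdicCompletion m A ⧸ (RingHom.ker (algebraMap A C)).map (algebraMap A (AdicCompletion m A))) ≃+*
      AdicCompletion mC C :=
  (Ideal.quotEquivOfEq (ker_cplMap A C hs).symm).trans
    (RingHom.quotientKerEquivOfSurjective (cplMap_surjective A C hs))

end Groth.Agent.EGA4H10
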