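import Mathlib.RingTheory.Spectrum.Prime.Topology
import Mathlib.RingTheory.Localization.Finiteness
import Mathlib.Algebra.Module.LocalizedModule.Submodule
import Mathlib.RingTheory.Noetherian.Basic

set_option autoImplicit false
universe u

namespace Groth.Agent.EGA4H10

/-! A module which is finite after inverting a regular element and at every prime is finite. -/

theorem exists_fg_of_localized_finite {A M : Type u} [CommRing A] [AddCommGroup M] [Module A M]
    (S : Submonoid A) (h : Module.Finite (Localization S) (LocalizedModule S M)) :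
    ∃ N : Submodule A M, N.FG ∧ ∀ c : M, ∃ s ∈ S, s • c ∈ N := by
  classical
  obtain ⟨T, hT⟩ := h.fg_top
  choose m s hms using fun t : LocalizedModule S M => IsLocalizedModule.surj S (LocalizedModule.mkLinearMap S M) t |>.elim fun x hx => (⟨x.1, x.2, hx⟩ : ∃ m : M, ∃ s : S, s • t = LocalizedModule.mkLinearMap S M m)
  refine ⟨Submodule.span A ((T.image m : Finset M) : Set M), Submodule.fg_span (Finset.finite_toSet _), fun c => ?_⟩
  have htop : Submodule.localized' (Localization S) S (LocalizedModule.mkLinearMap S M)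
      (Submodule.span A ((T.image m : Finset M) : Set M)) = ⊤ := by
    rw [Submodule.localized'_span, eq_top_iff, ← hT, Submodule.span_le]
    intro t ht
    have h1 : LocalizedModule.mkLinearMap S M (m t) ∈ Submodule.span (Localization S)
        (LocalizedModule.mkLinearMap S M '' ((T.image m : Finset M) : Set M)) :=
      Submodule.subset_span ⟨m t, by simpa using ⟨t, ht, rfl⟩, rfl⟩
    rw [← hms t, Submonoid.smul_def, ← IsScalarTower.algebraMap_smul (Localization S)] at h1
    exact (Submodule.smul_mem_iff_of_isUnit _ (IsLocalization.map_units (Localization S) (s t))).mp h1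
  have hc : LocalizedModule.mkLinearMap S M c ∈ Submodule.localized' (Localization S) S (LocalizedModule.mkLinearMap S M)
      (Submodule.span A ((T.image m : Finset M) : Set M)) := htop ▸ Submodule.mem_top
  obtain ⟨n, hn, u, hu⟩ := (Submodule.mem_localized' _ _ _ _ _).mp hc
  rw [IsLocalizedModule.mk'_eq_iff, Submonoid.smul_def, ← map_smul] at hu
  obtain ⟨v, hv⟩ := (IsLocalizedModule.eq_iff_exists S (LocalizedModule.mkLinearMap S M)).mp hu
  refine ⟨v * u, (v * u).2, ?_⟩
  rw [mul_smul]
  simp only [Submonoid.smul_def] at hv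
  rw [← hv]
  exact Submodule.smul_mem _ _ hn

theorem finite_of_localized {A M : Type u} [CommRing A] [IsNoetherianRing A] [AddCommGroup M] [Module A M]
    (f : A) (hf : IsSMulRegular M f)
    (h1 : Module.Finite (Localization.Away f) (LocalizedModule (Submonoid.powers f) M))
    (h2 : ∀ (p : Ideal A) [p.IsPrime], Module.Finite (Localization.AtPrime p) (LocalizedModule p.primeCompl M)) :
    Module.Finite A M := by
  classical
  obtain ⟨N0, hN0, hN0f⟩ := exists_fg_of_localized_finite _ h1
  choose Np hNp hNpp using fun p : PrimeSpectrum A => exists_fg_of_localized_finite _ (h2 p.asIdeal)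
  have key : ∀ N : Submodule A M, N.FG → N0 ≤ N → IsOpen {q : PrimeSpectrum A | ∀ c : M, ∃ s : A, s ∉ q.asIdeal ∧ s • c ∈ N} := by
    intro N hN hle
    let N' : Submodule A M := N.comap (f • LinearMap.id)
    have : Module.Finite A N := Module.Finite.iff_fg.mpr hN
    have hfin : Module.Finite A N' := by
      refine Module.Finite.of_injective (((f • LinearMap.id : M →ₗ[A] M).comp N'.subtype).codRestrict N fun x => (show f • (x : M) ∈ N from x.2)) ?_
      intro x y hxy
      exact Subtype.ext (hf (congrArg Subtype.val hxy))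
    have hN'fg : N'.FG := Module.Finite.iff_fg.mp hfin
    let J : Ideal A := Submodule.colon N (N' : Set M)
    have : {q : PrimeSpectrum A | ∀ c : M, ∃ s : A, s ∉ q.asIdeal ∧ s • c ∈ N} = (PrimeSpectrum.zeroLocus (J : Set A))ᶜ := by
      ext q
      simp only [Set.mem_ofPred_eq, Set.mem_compl_iff, PrimeSpectrum.mem_zeroLocus, Set.not_subset, SetLike.mem_coe]
      constructor
      · intro h
        obtain ⟨G, hG⟩ := hN'fg
        choose s hs hsN using h
        refine ⟨∏ x ∈ G, s x, ?_, fun hmem => ?_⟩
        · rw [Submodule.mem_colon]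
          intro n hn
          have hle' : Submodule.span A (G : Set M) ≤ N.comap ((∏ x ∈ G, s x) • LinearMap.id) := by
            rw [Submodule.span_le]
            intro x hx
            rw [SetLike.mem_coe, Submodule.mem_comap, LinearMap.smul_apply, LinearMap.id_apply,
              ← Finset.prod_erase_mul _ _ hx, mul_smul]
            exact Submodule.smul_mem _ _ (hsN x)
          exact hle' (hG.symm ▸ hn)
        · obtain ⟨x, hx, hxq⟩ := (Ideal.IsPrime.prod_mem_iff (hp := q.2)).mp hmem
          exact hs x hxq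
      · rintro ⟨s, hsJ, hsq⟩ c
        obtain ⟨s0, ⟨k, rfl⟩, hk⟩ := hN0f c
        have : ∀ j, j ≤ k → ∃ t : A, t ∉ q.asIdeal ∧ t • f ^ (k - j) • c ∈ N := by
          intro j
          induction j with
          | zero => intro _; exact ⟨1, q.2.one_notMem, by simpa using hle hk⟩
          | succ j ih =>
            intro hj
            obtain ⟨t, htq, htN⟩ := ih (by omega)
            refine ⟨s * t, fun hm => (q.2.mem_or_mem hm).elim hsq htq, ?_⟩
            rw [mul_smul]
            refine (Submodule.mem_colon.mp hsJ) _ ?_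
            show f • t • f ^ (k - (j + 1)) • c ∈ N
            rwa [smul_comm, ← mul_smul f, ← pow_succ', show k - (j + 1) + 1 = k - j by omega]
        obtain ⟨t, ht, htN⟩ := this k le_rfl
        exact ⟨t, ht, by simpa using htN⟩
    rw [this]
    exact (PrimeSpectrum.isClosed_zeroLocus _).isOpen_compl
  let U : PrimeSpectrum A → Set (PrimeSpectrum A) := fun p => {q | ∀ c : M, ∃ s : A, s ∉ q.asIdeal ∧ s • c ∈ N0 ⊔ Np p}
  have hU : ∀ p, IsOpen (U p) := fun p => key _ (hN0.sup (hNp p)) le_sup_left
  have hmem : ∀ p, p ∈ U p := fun p c => by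
    obtain ⟨s, hs, hc⟩ := hNpp p c
    exact ⟨s, hs, Submodule.mem_sup_right hc⟩
  obtain ⟨G, hG⟩ := isCompact_univ.elim_finite_subcover U hU fun p _ => Set.mem_iUnion.mpr ⟨p, hmem p⟩
  have hNfg : (N0 ⊔ G.sup Np).FG := hN0.sup (Finset.sup_induction Submodule.fg_bot (fun _ h1 _ h2 => h1.sup h2) fun p _ => hNp p)
  refine ⟨?_⟩
  convert hNfg
  refine (eq_top_iff.mpr fun c _ => ?_).symm
  by_contra hc
  let J : Ideal A := Submodule.colon (N0 ⊔ G.sup Np) ({c} : Set M)
  have hJ : J ≠ ⊤ := fun h => hc (by
    have h1 : (1 : A) ∈ J := h ▸ Submodule.mem_top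
    simpa [J, Submodule.mem_colon_singleton] using h1)
  obtain ⟨m, hm, hJm⟩ := J.exists_le_maximal hJ
  obtain ⟨p, hp, hmp⟩ := Set.mem_iUnion₂.mp (hG (Set.mem_univ ⟨m, hm.isPrime⟩))
  obtain ⟨s, hs, hsc⟩ := hmp c
  exact hs (hJm (Submodule.mem_colon_singleton.mpr ((sup_le_sup_left (Finset.le_sup (f := Np) hp) N0) hsc)))

end Groth.Agent.EGA4H10
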