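import Groth.Prelude.Def_EGA4b
import Groth.Agent.EGA4Alg4.DepthChange
import Groth.Agent.EGA4Alg4.IntegralDim
import Mathlib

/-!
# Localizations of localizations of modules, and `(S_k)` at a point
-/

set_option autoImplicit false
universe u

namespace Groth.Agent.EGA4H10

variable {A : Type u} [CommRing A] (M : Type u) [AddCommGroup M] [Module A M]

section

variable [IsNoetherianRing A] [Module.Finite A M] (S : Submonoid A) (P : Ideal (Localization S)) [P.IsPrime]

theorem locLoc_invariants :
    LocCoh.depth (Localization.AtPrime P) (LocalizedModule P.primeCompl (LocalizedModule S M)) =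
      LocCoh.depth (Localization.AtPrime (P.comap (algebraMap A (Localization S))))
        (LocalizedModule (P.comap (algebraMap A (Localization S))).primeCompl M) ∧
    Module.supportDim (Localization.AtPrime P) (LocalizedModule P.primeCompl (LocalizedModule S M)) =
      Module.supportDim (Localization.AtPrime (P.comap (algebraMap A (Localization S))))
        (LocalizedModule (P.comap (algebraMap A (Localization S))).primeCompl M) := by
  let p := P.comap (algebraMap A (Localization S))
  let R1 := Localization.AtPrime p
  let R2 := Localization.AtPrime P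
  let M1 := LocalizedModule p.primeCompl M
  let M2 := LocalizedModule P.primeCompl (LocalizedModule S M)
  have : IsNoetherianRing (Localization S) := IsLocalization.isNoetherianRing S (Localization S) inferInstance
  have : IsNoetherianRing R1 := IsLocalization.isNoetherianRing p.primeCompl _ inferInstance
  have : IsNoetherianRing R2 := IsLocalization.isNoetherianRing P.primeCompl _ inferInstance
  have hloc : IsLocalization p.primeCompl R2 :=
    IsLocalization.isLocalization_isLocalization_atPrime_isLocalization S R2 P
  let g1 := LocalizedModule.mkLinearMap S M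
  let g2 := LocalizedModule.mkLinearMap P.primeCompl (LocalizedModule S M)
  have hb1 : IsBaseChange (Localization S) g1 := (isLocalizedModule_iff_isBaseChange S (Localization S) g1).mp inferInstance
  have hb2 : IsBaseChange R2 g2 := (isLocalizedModule_iff_isBaseChange P.primeCompl R2 g2).mp inferInstance
  let g : M →ₗ[A] M2 := (g2.restrictScalars A).comp g1
  have : IsLocalizedModule p.primeCompl g :=
    (isLocalizedModule_iff_isBaseChange p.primeCompl R2 g).mpr (hb1.comp hb2)
  let e : M1 ≃ₗ[A] M2 := IsLocalizedModule.iso p.primeCompl g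
  let ε : R1 ≃ₐ[A] R2 := IsLocalization.algEquiv p.primeCompl _ _
  letI : Algebra R1 R2 := ε.toRingEquiv.toRingHom.toAlgebra
  letI : Module R1 M2 := Module.compHom M2 (algebraMap R1 R2)
  have : IsScalarTower R1 R2 M2 := .of_compHom _ _ _
  have : IsScalarTower A R1 M2 := IsScalarTower.of_algebraMap_smul fun a x => by
    show ε (algebraMap A R1 a) • x = a • x
    rw [ε.commutes, algebraMap_smul]
  let e' : M1 ≃ₗ[R1] M2 := e.extendScalarsOfIsLocalization p.primeCompl R1
  have : Module.Finite R1 M1 :=
    Module.Finite.of_isLocalizedModule p.primeCompl (LocalizedModule.mkLinearMap p.primeCompl M)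
  have : Module.Finite R1 M2 := Module.Finite.equiv e'
  have : IsLocalHom (algebraMap R1 R2) := Function.Surjective.isLocalHom _ ε.surjective
  refine ⟨?_, ?_⟩
  · show LocCoh.depth R2 M2 = LocCoh.depth R1 M1
    rw [← EGA4Alg4.depth_eq_of_finite (A := R1) (B := R2) M2]
    exact (EGA4Alg4.depth_eq_of_equiv e').symm
  · show Module.supportDim R2 M2 = Module.supportDim R1 M1
    rw [← EGA4Alg4.supportDim_eq_of_finite_restrictScalars R1 R2 M2]
    exact (Module.supportDim_eq_of_equiv e').symm

end

/-- `(S_k)` at a point is `(S_k)` at all its generizations -/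
theorem hasSkAt_iff [IsNoetherianRing A] [Module.Finite A M] (k : ℕ) (p : Ideal A) [p.IsPrime] :
    EGA4.HasSkAt k A M p ↔ ∀ q : PrimeSpectrum A, q.asIdeal ≤ p →
      min (k : WithBot ℕ∞) (Module.supportDim (Localization.AtPrime q.asIdeal) (LocalizedModule q.asIdeal.primeCompl M)) ≤
        ((LocCoh.depth (Localization.AtPrime q.asIdeal) (LocalizedModule q.asIdeal.primeCompl M) : ℕ∞) : WithBot ℕ∞) := by
  constructor
  · intro h q hq
    let P := q.asIdeal.map (algebraMap A (Localization.AtPrime p))
    have hP : P.IsPrime := Ideal.isPrime_map_of_isLocalizationAtPrime p hq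
    have hc : P.comap (algebraMap A (Localization.AtPrime p)) = q.asIdeal :=
      Ideal.under_map_of_isLocalizationAtPrime p hq
    have h1 := h P
    rw [(locLoc_invariants M p.primeCompl P).1, (locLoc_invariants M p.primeCompl P).2] at h1
    have hq' : (⟨P.comap (algebraMap A (Localization.AtPrime p)), inferInstance⟩ : PrimeSpectrum A) = q :=
      PrimeSpectrum.ext hc
    exact hq' ▸ h1
  · intro h P _
    rw [(locLoc_invariants M p.primeCompl P).1, (locLoc_invariants M p.primeCompl P).2]
    refine h ⟨P.comap (algebraMap A (Localization.AtPrime p)), inferInstance⟩ fun x hx => ?_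
    by_contra hxp
    exact Ideal.IsPrime.ne_top ‹P.IsPrime›
      (P.eq_top_of_isUnit_mem hx (IsLocalization.map_units _ (⟨x, hxp⟩ : p.primeCompl)))

theorem hasSk_iff_forall_at (k : ℕ) :
    LocCoh.HasSk k A M ↔ ∀ (q : PrimeSpectrum A),
      min (k : WithBot ℕ∞) (Module.supportDim (Localization.AtPrime q.asIdeal) (LocalizedModule q.asIdeal.primeCompl M)) ≤
        ((LocCoh.depth (Localization.AtPrime q.asIdeal) (LocalizedModule q.asIdeal.primeCompl M) : ℕ∞) : WithBot ℕ∞) :=
  ⟨fun h q => h q.asIdeal, fun h p hp => h ⟨p, hp⟩⟩

end Groth.Agent.EGA4H10
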