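import Groth.Agent.EGA4H10.FlatLocal
import Groth.Agent.EGA4H10.SkLocus
import Groth.Agent.EGA4Alg4.CMMod
import Groth.Agent.CAlg1.SerreNormal
import Mathlib

/-!
# `(S_k)` along flat maps
-/

set_option autoImplicit false
universe u
open IsLocalRing TensorProduct
open Groth.Agent.EGA4Alg4

namespace Groth.Agent.EGA4H10

variable {A B : Type u} [CommRing A] [CommRing B] [IsNoetherianRing A] [IsNoetherianRing B] [Algebra A B]

theorem min_le_min_add (k : ℕ) (a b : WithBot ℕ∞) :
    min (k : WithBot ℕ∞) (a + b) ≤ min (k : WithBot ℕ∞) a + min (k : WithBot ℕ∞) b := by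
  induction a using WithBot.recBotCoe with
  | bot => exact (min_le_right _ _).trans (by rw [WithBot.bot_add]; exact bot_le)
  | coe a =>
  induction b using WithBot.recBotCoe with
  | bot => exact (min_le_right _ _).trans (by rw [WithBot.add_bot]; exact bot_le)
  | coe b =>
  change min (((k : ℕ∞)) : WithBot ℕ∞) ((a : WithBot ℕ∞) + b) ≤ min (((k : ℕ∞)) : WithBot ℕ∞) a + min (((k : ℕ∞)) : WithBot ℕ∞) b
  rw [← WithBot.coe_add, ← WithBot.coe_min, ← WithBot.coe_min, ← WithBot.coe_min, ← WithBot.coe_add, WithBot.coe_le_coe]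
  rcases le_total (k : ℕ∞) a with h | h
  · rw [min_eq_left h]
    exact (min_le_left _ _).trans le_self_add
  · rw [min_eq_right h]
    rcases le_total (k : ℕ∞) b with h' | h'
    · rw [min_eq_left h']
      exact (min_le_left _ _).trans le_add_self
    · rw [min_eq_right h']
      exact min_le_right _ _

section tensor

variable (F : Type u) [AddCommGroup F] [Module B F] [Module A F] [IsScalarTower A B F] [Module.Finite B F]
  [Module.Flat A F] (E : Type u) [AddCommGroup E] [Module A E] [Module.Finite A E]

theorem hasSkAt_tensor (k : ℕ)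
    (hfib : ∀ (q : Ideal B) [q.IsPrime] [Nontrivial (LocalizedModule q.primeCompl F)],
      min (k : WithBot ℕ∞) (Module.supportDim (Localization.AtPrime q) (EGA4.FibLocMod A B q F)) ≤
        ((LocCoh.depth (Localization.AtPrime q) (EGA4.FibLocMod A B q F) : ℕ∞) : WithBot ℕ∞))
    (q : Ideal B) [q.IsPrime] (hE : EGA4.HasSkAt k A E (q.comap (algebraMap A B))) :
    EGA4.HasSkAt k B (F ⊗[A] E) q := by
  have : Module.Finite B (F ⊗[A] E) := Groth.Agent.FlatCrit65.finite_tensor (M := F) B E
  rw [hasSkAt_iff] at hE ⊢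
  intro r hr
  have := r.isPrime
  by_cases hne : Nontrivial (LocalizedModule r.asIdeal.primeCompl F) ∧
      Nontrivial (LocalizedModule (r.asIdeal.comap (algebraMap A B)).primeCompl E)
  · obtain ⟨_, _⟩ := hne
    obtain ⟨hd, hs⟩ := tensor_loc_invariants (A := A) F E r.asIdeal
    rw [hd, hs]
    have h1 := hE ⟨r.asIdeal.comap (algebraMap A B), inferInstance⟩ (Ideal.comap_mono hr)
    have h3 := hfib r.asIdeal
    refine le_trans ?_ (add_le_add h1 h3)
    exact (min_le_min_add _ _ _)
  · have : Subsingleton (LocalizedModule r.asIdeal.primeCompl (F ⊗[A] E)) := by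
      rw [← not_nontrivial_iff_subsingleton]
      intro hh
      have hsupp : r ∈ Module.support B (F ⊗[A] E) := Module.mem_support_iff.mpr hh
      have hann := Module.annihilator_le_of_mem_support hsupp
      refine hne ⟨?_, ?_⟩
      · refine Module.mem_support_iff.mp ((Module.mem_support_iff_of_finite (p := r)).mpr fun b hb => hann ?_)
        rw [Module.mem_annihilator]
        intro t
        induction t with
        | zero => simp
        | tmul x y => rw [TensorProduct.smul_tmul', Module.mem_annihilator.mp hb, TensorProduct.zero_tmul]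
        | add x y hx hy => rw [smul_add, hx, hy, add_zero]
      · refine Module.mem_support_iff.mp ((Module.mem_support_iff_of_finite
          (p := ⟨r.asIdeal.comap (algebraMap A B), inferInstance⟩)).mpr fun a ha => hann ?_)
        rw [Module.mem_annihilator]
        intro t
        induction t with
        | zero => simp
        | tmul x y => rw [algebraMap_smul, ← TensorProduct.tmul_smul, Module.mem_annihilator.mp ha, TensorProduct.tmul_zero]
        | add x y hx hy => rw [smul_add, hx, hy, add_zero]
    rw [Module.supportDim_eq_bot_of_subsingleton]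
    exact (min_le_right _ _).trans bot_le

theorem hasSkAt_base (k : ℕ) (q : PrimeSpectrum B) (hq : q ∈ Module.support B F)
    (h : EGA4.HasSkAt k B (F ⊗[A] E) q.asIdeal) :
    EGA4.HasSkAt k A E (q.asIdeal.comap (algebraMap A B)) := by
  have : Module.Finite B (F ⊗[A] E) := Groth.Agent.FlatCrit65.finite_tensor (M := F) B E
  rw [hasSkAt_iff] at h ⊢
  intro p' hp'
  have := p'.isPrime
  by_cases hE' : Nontrivial (LocalizedModule p'.asIdeal.primeCompl E)
  swap
  · rw [not_nontrivial_iff_subsingleton] at hE'
    rw [Module.supportDim_eq_bot_of_subsingleton]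
    exact (min_le_right _ _).trans bot_le
  obtain ⟨Q0, hQ0q, hQ0, hQ0c⟩ := exists_le_comap_eq (N := F) q hq p'.asIdeal hp'
  obtain ⟨Q, hQ, hQQ0⟩ := Ideal.exists_minimalPrimes_le (J := Q0.asIdeal)
    (I := p'.asIdeal.map (algebraMap A B) ⊔ Module.annihilator B F)
    (sup_le (Ideal.map_le_iff_le_comap.mpr hQ0c.ge) (Module.annihilator_le_of_mem_support hQ0))
  have := hQ.1.1
  have hc : Q.comap (algebraMap A B) = p'.asIdeal := le_antisymm ((Ideal.comap_mono hQQ0).trans hQ0c.le)
    (Ideal.map_le_iff_le_comap.mp (le_sup_left.trans hQ.1.2))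
  have hpQ : (⟨Q.comap (algebraMap A B), inferInstance⟩ : PrimeSpectrum A) = p' := PrimeSpectrum.ext hc
  subst hpQ
  have : Nontrivial (LocalizedModule Q.primeCompl F) := Module.mem_support_iff.mp
    ((Module.mem_support_iff_of_finite (p := ⟨Q, hQ.1.1⟩)).mpr (le_sup_right.trans hQ.1.2))
  have hx := h ⟨Q, hQ.1.1⟩ (hQQ0.trans hQ0q)
  obtain ⟨hd, hs⟩ := tensor_loc_invariants (A := A) F E Q
  dsimp only at hx ⊢
  rw [hd, hs] at hx
  have : IsNoetherianRing (Localization.AtPrime Q) := IsLocalization.isNoetherianRing Q.primeCompl _ inferInstance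
  have : Module.Finite (Localization.AtPrime Q) (LocalizedModule Q.primeCompl F) :=
    Module.Finite.of_isLocalizedModule Q.primeCompl (LocalizedModule.mkLinearMap Q.primeCompl F)
  have hnt : Nontrivial (EGA4.FibLocMod A B Q F) := Submodule.Quotient.nontrivial_iff.mpr
    (smul_top_lt_top (M := LocalizedModule Q.primeCompl F) _ (by
      rw [IsScalarTower.algebraMap_eq A B (Localization.AtPrime Q), ← Ideal.map_map,
        ← Localization.AtPrime.map_eq_maximalIdeal]
      exact Ideal.map_mono Ideal.map_comap_le)).ne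
  have h0 : Module.supportDim (Localization.AtPrime Q) (EGA4.FibLocMod A B Q F) = 0 := by
    refine le_antisymm (supportDim_fibLocMod_le_zero F Q hQ) ?_
    obtain ⟨n, hn⟩ := exists_supportDim_eq (A := Localization.AtPrime Q) (M := EGA4.FibLocMod A B Q F)
    rw [hn]
    exact_mod_cast Nat.zero_le n
  have h0' : LocCoh.depth (Localization.AtPrime Q) (EGA4.FibLocMod A B Q F) = 0 := by
    have := depth_le_supportDim (A := Localization.AtPrime Q) (M := EGA4.FibLocMod A B Q F)
    rw [h0] at this
    exact le_antisymm (WithBot.coe_le_coe.mp this) zero_le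
  rwa [h0, h0', add_zero, add_zero] at hx

end tensor

theorem hasSkAt_congr {R : Type u} [CommRing R] [IsNoetherianRing R] {M N : Type u} [AddCommGroup M] [Module R M]
    [Module.Finite R M] [AddCommGroup N] [Module R N] (e : M ≃ₗ[R] N) (k : ℕ) (p : Ideal R) [p.IsPrime]
    (h : EGA4.HasSkAt k R M p) : EGA4.HasSkAt k R N p := by
  have : Module.Finite R N := Module.Finite.equiv e
  rw [hasSkAt_iff] at h ⊢
  intro q hq
  have := q.isPrime
  let S := q.asIdeal.primeCompl
  let el : LocalizedModule S M ≃ₗ[Localization.AtPrime q.asIdeal] LocalizedModule S N :=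
    IsLocalizedModule.mapEquiv S (LocalizedModule.mkLinearMap S M) (LocalizedModule.mkLinearMap S N)
      (Localization.AtPrime q.asIdeal) e
  have : IsNoetherianRing (Localization.AtPrime q.asIdeal) := IsLocalization.isNoetherianRing S _ inferInstance
  have : Module.Finite (Localization.AtPrime q.asIdeal) (LocalizedModule S M) :=
    Module.Finite.of_isLocalizedModule S (LocalizedModule.mkLinearMap S M)
  rw [← depth_eq_of_equiv el, ← Module.supportDim_eq_of_equiv el]
  exact h q hq

omit [IsNoetherianRing A] in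
/-- `(S_k)` of the fibre rings gives the fibre condition for `F = B` -/
theorem fibre_condition_of_fiber (k : ℕ)
    (h : ∀ (p : Ideal A) [p.IsPrime], LocCoh.HasSk k (p.Fiber B) (p.Fiber B))
    (q : Ideal B) [q.IsPrime] :
    min (k : WithBot ℕ∞) (Module.supportDim (Localization.AtPrime q) (EGA4.FibLocMod A B q B)) ≤
      ((LocCoh.depth (Localization.AtPrime q) (EGA4.FibLocMod A B q B) : ℕ∞) : WithBot ℕ∞) := by
  let p := q.comap (algebraMap A B)
  let R := EGA4.FibLocRing A B q
  let Bq := Localization.AtPrime q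
  have : IsNoetherianRing Bq := IsLocalization.isNoetherianRing q.primeCompl _ inferInstance
  have hJ : p.map (algebraMap A Bq) ≤ maximalIdeal Bq := by
    rw [IsScalarTower.algebraMap_eq A B Bq, ← Ideal.map_map, ← Localization.AtPrime.map_eq_maximalIdeal]
    exact Ideal.map_mono Ideal.map_comap_le
  have : Nontrivial R := Ideal.Quotient.nontrivial_iff.mpr fun he =>
    (maximalIdeal.isMaximal Bq).ne_top (top_le_iff.mp (he ▸ hJ))
  have : IsLocalRing R := EGA4.isLocalRing_quotient _ _
  have : IsNoetherianRing R := Ideal.Quotient.isNoetherianRing _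
  have : IsLocalHom (algebraMap Bq R) := Function.Surjective.isLocalHom _ Ideal.Quotient.mk_surjective
  let eM : EGA4.FibLocMod A B q B ≃ₗ[Bq] R :=
    Submodule.Quotient.equiv _ _ (CAlg1.locSelfEquiv q) (by
      rw [Submodule.map_smul'', Submodule.map_top, LinearEquiv.range, Ideal.smul_eq_mul, Ideal.mul_top])
  rw [depth_eq_of_equiv eM, Module.supportDim_eq_of_equiv eM, depth_eq_of_finite (B := R) R,
    supportDim_eq_of_finite_restrictScalars Bq R R]
  let s : PrimeSpectrum.comap (algebraMap A B) ⁻¹' {(⟨p, inferInstance⟩ : PrimeSpectrum A)} :=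
    ⟨⟨q, inferInstance⟩, rfl⟩
  let Q := PrimeSpectrum.preimageEquivFiber A B ⟨p, inferInstance⟩ s
  have hQ : Q.asIdeal.comap (Algebra.TensorProduct.includeRight : B →ₐ[A] p.Fiber B) = q :=
    congrArg (fun x => x.1.asIdeal) ((PrimeSpectrum.preimageEquivFiber A B ⟨p, inferInstance⟩).left_inv s)
  have : (Q.asIdeal.comap (Algebra.TensorProduct.includeRight : B →ₐ[A] p.Fiber B)).LiesOver p :=
    ⟨by rw [hQ]⟩
  let := Localization.AtPrime.algebraOfLiesOver p (Q.asIdeal.comap (Algebra.TensorProduct.includeRight : B →ₐ[A] p.Fiber B))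
  obtain ⟨e⟩ : Nonempty (Localization.AtPrime Q.asIdeal ≃+* R) := by
    have e0 := (Ideal.Fiber.localizationAlgEquivQuotient p Q.asIdeal).toRingEquiv
    have key : ∀ (r : Ideal B) [r.IsPrime], r = q →
        Nonempty ((Localization.AtPrime r ⧸ p.map (algebraMap A (Localization.AtPrime r))) ≃+* R) := by
      intro r _ hr
      subst hr
      exact ⟨RingEquiv.refl _⟩
    obtain ⟨e1⟩ := key _ hQ
    exact ⟨e0.trans e1⟩
  have : IsNoetherianRing (Localization.AtPrime Q.asIdeal) := isNoetherianRing_of_ringEquiv R e.symm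
  have hQ' := h p Q.asIdeal
  let l := CAlg1.locSelfEquiv Q.asIdeal
  rw [depth_eq_of_equiv l, Module.supportDim_eq_of_equiv l, CAlg1.depth_eq_of_ringEquiv e,
    Module.supportDim_self_eq_ringKrullDim, ringKrullDim_eq_of_ringEquiv e] at hQ'
  rw [Module.supportDim_self_eq_ringKrullDim]
  exact hQ'

end Groth.Agent.EGA4H10
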