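import Groth.Agent.EGA4H10.CMCompletion
import Groth.Agent.EGA4H10.FlatSk
import Groth.Agent.EGA4Alg4.CMLoc
import Groth.Agent.CAlg1.SerreNormal
import Mathlib

/-!
# Cohen–Macaulay formal fibres in the presence of a Cohen–Macaulay module
-/

set_option autoImplicit false
universe u
open IsLocalRing TensorProduct
open Groth.Agent.EGA4Alg4

namespace Groth.Agent.EGA4H10

/-- quotients of localizations along a surjection -/
theorem exists_quotLoc_equiv {X Y : Type u} [CommRing X] [CommRing Y] (f : X →+* Y) (hf : Function.Surjective f)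
    (q : Ideal Y) [q.IsPrime] (I : Ideal Y) :
    Nonempty ((Localization.AtPrime (q.comap f) ⧸ (I.comap f).map (algebraMap X (Localization.AtPrime (q.comap f)))) ≃+*
      (Localization.AtPrime q ⧸ I.map (algebraMap Y (Localization.AtPrime q)))) := by
  let φ : Localization.AtPrime (q.comap f) →+* Localization.AtPrime q := Localization.localRingHom (q.comap f) q f rfl
  let ψ := (Ideal.Quotient.mk (I.map (algebraMap Y (Localization.AtPrime q)))).comp φ
  have hs : Function.Surjective ψ := by
    refine Ideal.Quotient.mk_surjective.comp fun y => ?_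
    obtain ⟨⟨a, s⟩, rfl⟩ := IsLocalization.mk'_surjective q.primeCompl y
    obtain ⟨a, rfl⟩ := hf a
    obtain ⟨t, ht⟩ := hf s
    have ht' : t ∈ (q.comap f).primeCompl := by
      show f t ∉ q
      rw [ht]; exact s.2
    refine ⟨IsLocalization.mk' _ a (⟨t, ht'⟩ : (q.comap f).primeCompl), ?_⟩
    rw [Localization.localRingHom_mk']
    congr 1
    exact Subtype.ext ht
  have hk : RingHom.ker ψ = (I.comap f).map (algebraMap X (Localization.AtPrime (q.comap f))) := by
    refine le_antisymm (fun x hx => ?_) (Ideal.map_le_iff_le_comap.mpr fun x hx => ?_)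
    · obtain ⟨⟨a, s⟩, rfl⟩ := IsLocalization.mk'_surjective (q.comap f).primeCompl x
      rw [RingHom.mem_ker, RingHom.comp_apply, Localization.localRingHom_mk', Ideal.Quotient.eq_zero_iff_mem,
        IsLocalization.mk'_mem_map_algebraMap_iff q.primeCompl (Localization.AtPrime q)] at hx
      obtain ⟨m, hm, hma⟩ := hx
      obtain ⟨t, rfl⟩ := hf m
      rw [IsLocalization.mk'_mem_map_algebraMap_iff (q.comap f).primeCompl (Localization.AtPrime (q.comap f))]
      exact ⟨t, hm, by rw [Ideal.mem_comap, map_mul]; exact hma⟩
    · rw [Ideal.mem_comap, RingHom.mem_ker, RingHom.comp_apply, Localization.localRingHom_to_map,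
        Ideal.Quotient.eq_zero_iff_mem]
      exact Ideal.mem_map_of_mem _ hx
  exact ⟨(Ideal.quotEquivOfEq hk.symm).trans (RingHom.quotientKerEquivOfSurjective hs)⟩

/-- transfer of the Cohen–Macaulay property of local rings -/
theorem isCohenMacaulayLocalRing_of_ringEquiv {R S : Type u} [CommRing R] [CommRing S] (e : R ≃+* S)
    (h : LocCoh.IsCohenMacaulayLocalRing R) : LocCoh.IsCohenMacaulayLocalRing S := by
  have : IsLocalRing S := e.isLocalRing
  have : IsNoetherianRing S := isNoetherianRing_of_ringEquiv R e
  exact { supportDim_eq_depth := by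
            rw [← CAlg1.depth_eq_of_ringEquiv e, Module.supportDim_self_eq_ringKrullDim,
              ← ringKrullDim_eq_of_ringEquiv e, ← Module.supportDim_self_eq_ringKrullDim]
            exact h.supportDim_eq_depth }

variable {A : Type u} [CommRing A] [IsNoetherianRing A] [IsLocalRing A]

/-- the local rings of the formal fibres are Cohen–Macaulay -/
theorem cm_fibLocRing_cpl {M : Type u} [AddCommGroup M] [Module A M] [Module.Finite A M]
    (hM : LocCoh.IsCohenMacaulayModule A M) (hsupp : Module.support A M = Set.univ)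
    (q : Ideal (AdicCompletion (maximalIdeal A) A)) [q.IsPrime] :
    LocCoh.IsCohenMacaulayLocalRing (EGA4.FibLocRing A (AdicCompletion (maximalIdeal A) A) q) := by
  let B := AdicCompletion (maximalIdeal A) A
  have := isNoetherianRing_cpl (A := A)
  let P := q.comap (algebraMap A B)
  obtain ⟨N, _, _, _, hN, hass, hdim⟩ := exists_cm_assoc hM ⟨P, inferInstance⟩ (by rw [hsupp]; trivial)
  have hPsupp : (⟨P, inferInstance⟩ : PrimeSpectrum A) ∈ Module.support A N := mem_support_of_assoc hass
  have : Nontrivial (LocalizedModule P.primeCompl N) := Module.mem_support_iff.mp hPsupp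
  have : Module.Finite (Localization.AtPrime P) (LocalizedModule P.primeCompl N) :=
    Module.Finite.of_isLocalizedModule P.primeCompl (LocalizedModule.mkLinearMap P.primeCompl N)
  have hNP := localization_cm_and_dim hN ⟨P, inferInstance⟩ hPsupp
  obtain ⟨hNPcm, hNPdim⟩ := hNP
  rw [supportDim_quotient_prime hPsupp, hdim] at hNPdim
  obtain ⟨a, ha⟩ := exists_supportDim_eq (A := Localization.AtPrime P) (M := LocalizedModule P.primeCompl N)
  have : Nontrivial (A ⧸ P) := Ideal.Quotient.nontrivial_iff.mpr (inferInstance : P.IsPrime).ne_top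
  obtain ⟨b, hb⟩ := exists_supportDim_eq (A := A) (M := A ⧸ P)
  rw [Module.supportDim_quotient_eq_ringKrullDim] at hb
  rw [ha, hb] at hNPdim
  have h0 : a = 0 := by
    have : b = b + a := by exact_mod_cast hNPdim
    omega
  have hs0 : Module.supportDim (Localization.AtPrime P) (LocalizedModule P.primeCompl N) = 0 := by
    rw [ha, h0]; rfl
  have hd0 : LocCoh.depth (Localization.AtPrime P) (LocalizedModule P.primeCompl N) = 0 := by
    have h := hNPcm
    rw [LocCoh.IsCohenMacaulayModule, hs0] at h
    exact (WithBot.coe_injective (h : ((0 : ℕ∞) : WithBot ℕ∞) = _)).symm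
  let L := Localization.AtPrime q
  have : IsNoetherianRing L := IsLocalization.isNoetherianRing q.primeCompl _ inferInstance
  have : Nontrivial (LocalizedModule q.primeCompl B) := (CAlg1.locSelfEquiv q).toEquiv.nontrivial
  obtain ⟨hd, hs⟩ := tensor_loc_invariants (A := A) B N q
  have hqsupp : (⟨q, inferInstance⟩ : PrimeSpectrum B) ∈ Module.support B (B ⊗[A] N) :=
    mem_support_tensor_of_flat N _ hPsupp
  have hcm := (localization_cm_and_dim (isCohenMacaulayModule_cpl N hN) ⟨q, inferInstance⟩ hqsupp).1
  rw [LocCoh.IsCohenMacaulayModule, hd, hs, hs0, hd0, zero_add, zero_add] at hcm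
  let R := EGA4.FibLocRing A B q
  have hJ : P.map (algebraMap A L) ≤ maximalIdeal L := by
    rw [IsScalarTower.algebraMap_eq A B L, ← Ideal.map_map, ← Localization.AtPrime.map_eq_maximalIdeal]
    exact Ideal.map_mono Ideal.map_comap_le
  have : Nontrivial R := Ideal.Quotient.nontrivial_iff.mpr fun he =>
    (maximalIdeal.isMaximal L).ne_top (top_le_iff.mp (he ▸ hJ))
  have : IsLocalRing R := EGA4.isLocalRing_quotient _ _
  have : IsNoetherianRing R := Ideal.Quotient.isNoetherianRing _
  have : IsLocalHom (algebraMap L R) := Function.Surjective.isLocalHom _ Ideal.Quotient.mk_surjective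
  let eM : EGA4.FibLocMod A B q B ≃ₗ[L] R :=
    Submodule.Quotient.equiv _ _ (CAlg1.locSelfEquiv q) (by
      rw [Submodule.map_smul'', Submodule.map_top, LinearEquiv.range, Ideal.smul_eq_mul, Ideal.mul_top])
  rw [depth_eq_of_equiv eM, Module.supportDim_eq_of_equiv eM, depth_eq_of_finite (B := R) R,
    supportDim_eq_of_finite_restrictScalars L R R] at hcm
  exact { supportDim_eq_depth := hcm }

end Groth.Agent.EGA4H10
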