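import Groth.Prelude.Def_EGA4b
import Mathlib

/-!
# Equidimensional and strictly equidimensional rings: basic facts
-/

set_option autoImplicit false
universe u
open IsLocalRing

namespace Groth.Agent.EGA4H10

theorem dim_quotient_comap {R S : Type u} [CommRing R] [CommRing S] (f : R →+* S) (hf : Function.Surjective f)
    (p : Ideal S) : ringKrullDim (R ⧸ p.comap f) = ringKrullDim (S ⧸ p) := by
  have hs : Function.Surjective ((Ideal.Quotient.mk p).comp f) := Ideal.Quotient.mk_surjective.comp hf
  have hk : RingHom.ker ((Ideal.Quotient.mk p).comp f) = p.comap f := by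
    rw [← RingHom.comap_ker, Ideal.mk_ker]
  exact ringKrullDim_eq_of_ringEquiv ((Ideal.quotEquivOfEq hk.symm).trans (RingHom.quotientKerEquivOfSurjective hs))

theorem mem_minimal_of_surjective {R S : Type u} [CommRing R] [CommRing S] (f : R →+* S) (hf : Function.Surjective f)
    {p : Ideal S} (hp : p ∈ minimalPrimes S) : p.comap f ∈ (RingHom.ker f).minimalPrimes := by
  rw [RingHom.ker_eq_comap_bot, Ideal.comap_minimalPrimes_eq_of_surjective hf]
  exact ⟨p, hp, rfl⟩

theorem isEquidim_of_ringEquiv {R S : Type u} [CommRing R] [CommRing S] (e : R ≃+* S) (h : EGA4.IsEquidim R) :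
    EGA4.IsEquidim S := by
  intro p hp
  rw [← dim_quotient_comap e.toRingHom e.surjective p, ← ringKrullDim_eq_of_ringEquiv e]
  refine h _ ?_
  have := mem_minimal_of_surjective e.toRingHom e.surjective hp
  rwa [(RingHom.injective_iff_ker_eq_bot e.toRingHom).mp e.injective] at this

theorem comap_assoc_of_surjective {R S : Type u} [CommRing R] [CommRing S] [Algebra R S]
    (_hf : Function.Surjective (algebraMap R S)) {M : Type u} [AddCommGroup M] [Module S M] [Module R M]
    [IsScalarTower R S M] {p : Ideal S} (hp : p ∈ associatedPrimes S M) :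
    p.comap (algebraMap R S) ∈ associatedPrimes R M := by
  obtain ⟨x, hx⟩ := hp.2
  refine ⟨hp.isPrime.comap _, x, ?_⟩
  ext r
  rw [Ideal.mem_comap, hx, Ideal.mem_radical_iff, Ideal.mem_radical_iff]
  simp only [Submodule.mem_colon_singleton, Submodule.mem_bot, ← map_pow, algebraMap_smul]

theorem isStrictlyEquidim_of_ringEquiv {R S : Type u} [CommRing R] [CommRing S] (e : R ≃+* S)
    (h : EGA4.IsStrictlyEquidim R) : EGA4.IsStrictlyEquidim S := by
  intro p hp
  rw [← dim_quotient_comap e.toRingHom e.surjective p, ← ringKrullDim_eq_of_ringEquiv e]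
  refine h _ ?_
  let := e.toRingHom.toAlgebra
  have h1 := comap_assoc_of_surjective (R := R) (S := S) e.surjective (M := S) hp
  have el : R ≃ₗ[R] S := LinearEquiv.ofBijective (Algebra.linearMap R S) e.bijective
  exact el.isAssociatedPrime_iff.mpr h1

theorem isEquidim_of_strictly {R : Type u} [CommRing R] [IsNoetherianRing R] (h : EGA4.IsStrictlyEquidim R) :
    EGA4.IsEquidim R := by
  intro p hp
  refine h p (Module.associatedPrimes.minimalPrimes_annihilator_subset_associatedPrimes R R ?_)
  have : Module.annihilator R R = ⊥ := by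
    rw [eq_bot_iff]
    intro r hr
    simpa using Module.mem_annihilator.mp hr 1
  rwa [this]

/-- the dimension is attained at a minimal prime -/
theorem exists_minimal_dim_eq (R : Type u) [CommRing R] [IsNoetherianRing R] [IsLocalRing R] :
    ∃ p ∈ minimalPrimes R, ringKrullDim (R ⧸ p) = ringKrullDim R := by
  have : FiniteRingKrullDim R := inferInstance
  obtain ⟨l, hl⟩ : ∃ l : LTSeries (PrimeSpectrum R), (l.length : WithBot ℕ∞) = ringKrullDim R :=
    ⟨LTSeries.longestOf _, (Order.krullDim_eq_length_of_finiteDimensionalOrder).symm⟩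
  obtain ⟨p, hp, hple⟩ := Ideal.exists_minimalPrimes_le (I := (⊥ : Ideal R)) (J := l.head.asIdeal) bot_le
  refine ⟨p, hp, le_antisymm (ringKrullDim_le_of_surjective _ Ideal.Quotient.mk_surjective) ?_⟩
  rw [← hl, ringKrullDim_quotient]
  let l' : LTSeries (PrimeSpectrum.zeroLocus (p : Set R)) :=
    ⟨l.length, fun i => ⟨l i, hple.trans (l.head_le i)⟩, l.step⟩
  exact Order.LTSeries.length_le_krullDim l'

/-- strict equidimensionality of a quotient, tested on the associated primes in the ring above -/
theorem isStrictlyEquidim_quotient {R : Type u} [CommRing R] [IsNoetherianRing R] [IsLocalRing R] (I : Ideal R)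
    (hI : I ≠ ⊤) (c : WithBot ℕ∞) (h : ∀ P ∈ associatedPrimes R (R ⧸ I), ringKrullDim (R ⧸ P) = c) :
    EGA4.IsStrictlyEquidim (R ⧸ I) := by
  have : Nontrivial (R ⧸ I) := Ideal.Quotient.nontrivial_iff.mpr hI
  have : IsLocalRing (R ⧸ I) := IsLocalRing.of_surjective' (Ideal.Quotient.mk I) Ideal.Quotient.mk_surjective
  have key : ∀ p ∈ associatedPrimes (R ⧸ I) (R ⧸ I), ringKrullDim ((R ⧸ I) ⧸ p) = c := fun p hp => by
    rw [← dim_quotient_comap (algebraMap R (R ⧸ I)) Ideal.Quotient.mk_surjective p]
    exact h _ (comap_assoc_of_surjective (R := R) Ideal.Quotient.mk_surjective hp)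
  obtain ⟨p0, hp0, hdim⟩ := exists_minimal_dim_eq (R ⧸ I)
  intro p hp
  rw [key p hp, ← hdim, key p0]
  refine Module.associatedPrimes.minimalPrimes_annihilator_subset_associatedPrimes (R ⧸ I) (R ⧸ I) ?_
  have : Module.annihilator (R ⧸ I) (R ⧸ I) = ⊥ := by
    rw [eq_bot_iff]
    intro r hr
    simpa using Module.mem_annihilator.mp hr 1
  rwa [this]

end Groth.Agent.EGA4H10
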