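import Groth.Agent.EGA4H10.CplQuot
import Groth.Agent.EGA4H10.Equidim
import Groth.Agent.EGA4Alg4.CMMod
import Groth.Agent.EGA4Alg4.DepthChange
import Groth.Agent.EGA4Alg4.CompletionDim
import Groth.Agent.CAlg1.Complete
import Mathlib

/-!
# Strict equidimensionality of completions in the presence of a Cohen–Macaulay module
-/

set_option autoImplicit false
universe u
open IsLocalRing TensorProduct Module
open Groth.Agent.EGA4Alg4

namespace Groth.Agent.EGA4H10

variable {A : Type u} [CommRing A] [IsNoetherianRing A] [IsLocalRing A]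

local notation "Â" => AdicCompletion (maximalIdeal A) A

theorem isNoetherianRing_cpl : IsNoetherianRing Â :=
  CAlg1.isNoetherianRing_adicCompletion _ (IsNoetherian.noetherian _)

theorem supportDim_cpl (M : Type u) [AddCommGroup M] [Module A M] [Module.Finite A M] :
    supportDim Â (Â ⊗[A] M) = supportDim A M := by
  have := isNoetherianRing_cpl (A := A)
  refine supportDim_baseChange_eq (fun P hP => ?_) (fun m hm => ?_) M
  · rw [IsLocalRing.eq_maximalIdeal hP]
    have hc : (maximalIdeal Â).comap (algebraMap A Â) = maximalIdeal A := by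
      refine ((maximalIdeal.isMaximal A).eq_of_le (Ideal.comap_ne_top _ (maximalIdeal.isMaximal _).ne_top) ?_).symm
      rw [AdicCompletion.maximalIdeal_eq_map]
      exact Ideal.le_comap_map
    rw [hc]
    exact ⟨maximalIdeal.isMaximal A, AdicCompletion.maximalIdeal_eq_map⟩
  · rw [IsLocalRing.eq_maximalIdeal hm, ← AdicCompletion.maximalIdeal_eq_map]
    exact maximalIdeal.isMaximal _

theorem isCohenMacaulayModule_cpl (M : Type u) [AddCommGroup M] [Module A M] [Module.Finite A M]
    (hM : LocCoh.IsCohenMacaulayModule A M) : LocCoh.IsCohenMacaulayModule Â (Â ⊗[A] M) := by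
  have := isNoetherianRing_cpl (A := A)
  rw [LocCoh.IsCohenMacaulayModule] at hM ⊢
  rw [supportDim_cpl, hM, depth_baseChange_eq AdicCompletion.maximalIdeal_eq_map.symm]

/-- a prime in the support of a CM module is associated to a CM module -/
theorem exists_cm_assoc {M : Type u} [AddCommGroup M] [Module A M] [Module.Finite A M]
    (hM : LocCoh.IsCohenMacaulayModule A M) (p : PrimeSpectrum A) (hp : p ∈ Module.support A M) :
    ∃ (N : Type u) (_ : AddCommGroup N) (_ : Module A N) (_ : Module.Finite A N),
      LocCoh.IsCohenMacaulayModule A N ∧ p.asIdeal ∈ associatedPrimes A N ∧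
        supportDim A N = ringKrullDim (A ⧸ p.asIdeal) := by
  have hle : ringKrullDim (A ⧸ p.asIdeal) ≤ supportDim A M := ringKrullDim_quotient_le_supportDim hp
  have : Nontrivial M := Module.nonempty_support_iff.mp ⟨p, hp⟩
  obtain ⟨d, hd⟩ := exists_supportDim_eq (A := A) (M := M)
  have : Nontrivial (A ⧸ p.asIdeal) := Ideal.Quotient.nontrivial_iff.mpr p.2.ne_top
  obtain ⟨a, ha⟩ := exists_supportDim_eq (A := A) (M := A ⧸ p.asIdeal)
  rw [supportDim_quotient_eq_ringKrullDim] at ha
  rw [hd, ha] at hle
  have had : a ≤ d := by exact_mod_cast hle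
  obtain ⟨xs, hlen, hxp, hreg⟩ := exists_isWeaklyRegular_in_prime (d - a) hM hp
    (by rw [ha, hd]; exact_mod_cast (show a + (d - a) = d by omega))
  have hxm : ∀ x ∈ xs, x ∈ maximalIdeal A := fun x hx => le_maximalIdeal p.2.ne_top (hxp x hx)
  refine ⟨M ⧸ (Ideal.ofList xs • (⊤ : Submodule A M)), inferInstance, inferInstance, inferInstance,
    isCohenMacaulayModule_quotient hM hreg hxm, ?_, ?_⟩
  · have hN := isCohenMacaulayModule_quotient hM hreg hxm
    have hsupp : p ∈ Module.support A (M ⧸ (Ideal.ofList xs • (⊤ : Submodule A M))) := by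
      rw [Module.support_quotient]
      refine ⟨hp, ?_⟩
      rw [PrimeSpectrum.mem_zeroLocus, SetLike.coe_subset_coe, Ideal.ofList, Ideal.span_le]
      exact hxp
    have hdimN : supportDim A (M ⧸ (Ideal.ofList xs • (⊤ : Submodule A M))) = a := by
      have h1 := supportDim_add_length_eq_supportDim_of_isRegular xs (isRegular_of_isWeaklyRegular hreg hxm)
      obtain ⟨b, hb⟩ : ∃ b : ℕ, supportDim A (M ⧸ (Ideal.ofList xs • (⊤ : Submodule A M))) = b := by
        have := nontrivial_quotient_ofList (M := M) hxm
        exact exists_supportDim_eq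
      rw [hb, hd, hlen] at h1
      have : b + (d - a) = d := by exact_mod_cast h1
      rw [hb]; exact_mod_cast (show b = a by omega)
    have hann : (Module.annihilator A (M ⧸ (Ideal.ofList xs • (⊤ : Submodule A M)))) ≤ p.asIdeal :=
      Module.annihilator_le_of_mem_support hsupp
    obtain ⟨q, hq, hqp⟩ := Ideal.exists_minimalPrimes_le hann
    have hqass := Module.associatedPrimes.minimalPrimes_annihilator_subset_associatedPrimes A _ hq
    rcases eq_or_lt_of_le hqp with heq | hlt
    · exact heq ▸ hqass
    · have := hq.1.1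
      have h2 := ringKrullDim_quotient_lt hlt
      rw [ringKrullDim_quotient_assoc hN hqass, hdimN, ha] at h2
      exact absurd h2 (lt_irrefl _)
  · have h1 := supportDim_add_length_eq_supportDim_of_isRegular xs (isRegular_of_isWeaklyRegular hreg hxm)
    obtain ⟨b, hb⟩ : ∃ b : ℕ, supportDim A (M ⧸ (Ideal.ofList xs • (⊤ : Submodule A M))) = b := by
      have := nontrivial_quotient_ofList (M := M) hxm
      exact exists_supportDim_eq
    rw [hb, hd, hlen] at h1
    have : b + (d - a) = d := by exact_mod_cast h1
    rw [hb, ha]; exact_mod_cast (show b = a by omega)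

/-- associated primes of `Â/pÂ` all have the same dimension -/
theorem dim_assoc_cpl {M : Type u} [AddCommGroup M] [Module A M] [Module.Finite A M]
    (hM : LocCoh.IsCohenMacaulayModule A M) (p : PrimeSpectrum A) (hp : p ∈ Module.support A M) :
    ∀ P ∈ associatedPrimes Â (Â ⧸ p.asIdeal.map (algebraMap A Â)),
      ringKrullDim (Â ⧸ P) = ringKrullDim (A ⧸ p.asIdeal) := by
  intro P hP
  have := isNoetherianRing_cpl (A := A)
  obtain ⟨N, _, _, _, hN, hass, hdim⟩ := exists_cm_assoc hM p hp
  obtain ⟨-, f, hf⟩ := (isAssociatedPrime_iff_exists_injective_linearMap _ _).mp hass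
  let g : (Â ⧸ p.asIdeal.map (algebraMap A Â)) →ₗ[Â] Â ⊗[A] N :=
    (f.baseChange Â).comp (Algebra.TensorProduct.quotIdealMapEquivTensorQuot Â p.asIdeal).toLinearMap
  have hb : Function.Injective (f.baseChange Â) := by
    rw [LinearMap.baseChange_eq_ltensor]
    exact Module.Flat.lTensor_preserves_injective_linearMap f hf
  have hg : Function.Injective g := fun x y hxy =>
    (Algebra.TensorProduct.quotIdealMapEquivTensorQuot Â p.asIdeal).injective (hb hxy)
  rw [ringKrullDim_quotient_assoc (isCohenMacaulayModule_cpl N hN) (associatedPrimes.subset_of_injective hg hP),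
    supportDim_cpl, hdim]

/-- the completion of a quotient by a prime in the support of a CM module is strictly equidimensional -/
theorem strict_cpl_quotient {M : Type u} [AddCommGroup M] [Module A M] [Module.Finite A M]
    (hM : LocCoh.IsCohenMacaulayModule A M) (C : Type u) [CommRing C] [IsLocalRing C] [Algebra A C]
    (hs : Function.Surjective (algebraMap A C)) [hpr : (RingHom.ker (algebraMap A C)).IsPrime]
    (hp : (⟨RingHom.ker (algebraMap A C), hpr⟩ : PrimeSpectrum A) ∈ Module.support A M) :
    EGA4.IsStrictlyEquidim (AdicCompletion (maximalIdeal C) C) := by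
  have := isNoetherianRing_cpl (A := A)
  refine isStrictlyEquidim_of_ringEquiv (cplQuotEquiv A C hs) (isStrictlyEquidim_quotient _ ?_ _
    (dim_assoc_cpl hM ⟨RingHom.ker (algebraMap A C), hpr⟩ hp))
  exact fun h => (maximalIdeal.isMaximal Â).ne_top (top_le_iff.mp (h ▸ AdicCompletion.maximalIdeal_eq_map (R := A) ▸
    Ideal.map_mono (le_maximalIdeal hpr.ne_top)))

end Groth.Agent.EGA4H10
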