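import Groth.Prelude.Def_EGA4b
import Groth.Prelude.Def_Found
import Mathlib

/-!
# Catenary and equidimensional Noetherian local rings

`CoverSucc R`: the height goes up by exactly one along every cover of primes.
For a Noetherian local ring this is equivalent to being catenary and equidimensional.
-/

set_option autoImplicit false
universe u
open IsLocalRing

namespace Groth.Agent.EGA4H10

/-- every step of the series is a cover -/
def Saturated {α : Type u} [Preorder α] (s : LTSeries α) : Prop :=
  ∀ i : Fin s.length, s (Fin.castSucc i) ⋖ s (Fin.succ i)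

/-- the height increases by one along covers of primes -/
def CoverSucc (R : Type u) [CommRing R] : Prop :=
  ∀ p q : PrimeSpectrum R, p ⋖ q → q.asIdeal.height = p.asIdeal.height + 1

section order

variable {α : Type u} [Preorder α]

theorem saturated_singleton (a : α) : Saturated (RelSeries.singleton _ a : LTSeries α) := fun i => i.elim0

theorem saturated_snoc {s : LTSeries α} (hs : Saturated s) {a : α} (h : s.last ⋖ a) :
    Saturated (s.snoc a (show s.last < a from h.lt) : LTSeries α) := by
  intro i
  obtain ⟨i, rfl⟩ | rfl := (Fin.eq_castSucc_or_eq_last (n := s.length) i)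
  · convert hs i using 1
    · exact RelSeries.snoc_castSucc _ _ _ i.castSucc
    · exact RelSeries.snoc_castSucc _ _ _ i.succ
  · convert h using 1
    · exact RelSeries.snoc_castSucc _ _ _ (Fin.last _)
    · exact RelSeries.last_snoc' _ _ _

theorem saturated_smash {p q : LTSeries α} (hp : Saturated p) (hq : Saturated q) (h : p.last = q.head) :
    Saturated (RelSeries.smash p q h : LTSeries α) := by
  intro i
  refine Fin.addCases (fun i => ?_) (fun i => ?_) i
  · convert hp i using 1
    · exact RelSeries.smash_castAdd h i
    · exact RelSeries.smash_succ_castAdd h i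
  · convert hq i using 1
    · exact RelSeries.smash_natAdd h i
    · exact RelSeries.smash_succ_natAdd h i

end order

variable {R : Type u} [CommRing R] [IsNoetherianRing R]

theorem wellFoundedGT_primeSpectrum : WellFoundedGT (PrimeSpectrum R) :=
  StrictMono.wellFoundedGT (f := PrimeSpectrum.asIdeal) fun _ _ h => h

theorem exists_saturated_aux : ∀ (n : ℕ) (p q : PrimeSpectrum R), p ≤ q → q.asIdeal.height ≤ n →
    ∃ s : LTSeries (PrimeSpectrum R), Saturated s ∧ s.head = p ∧ s.last = q := by
  have := wellFoundedGT_primeSpectrum (R := R)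
  intro n
  induction n with
  | zero =>
    intro p q hpq hq
    obtain rfl : p = q := by
      rcases eq_or_lt_of_le hpq with h | h
      · exact h
      · have := Ideal.height_strict_mono_of_isPrime (I := p.asIdeal) (J := q.asIdeal) h
        exact absurd (this.trans_le hq) (by simp)
    exact ⟨RelSeries.singleton _ p, saturated_singleton p, rfl, rfl⟩
  | succ n ih =>
    intro p q hpq hq
    rcases eq_or_lt_of_le hpq with rfl | hlt
    · exact ⟨RelSeries.singleton _ p, saturated_singleton p, rfl, rfl⟩
    · obtain ⟨r, hpr, hrq⟩ := exists_le_covBy_of_lt hlt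
      have hr : r.asIdeal.height ≤ n := by
        have h1 := Ideal.height_strict_mono_of_isPrime (I := r.asIdeal) (J := q.asIdeal) hrq.lt
        have h2 := h1.trans_le hq
        rw [Nat.cast_succ] at h2
        exact ENat.lt_add_one_iff (ENat.natCast_ne_top n) |>.mp h2
      obtain ⟨s, hs, hh, hl⟩ := ih p r hpr hr
      subst hl
      exact ⟨s.snoc q hrq.lt, saturated_snoc hs hrq, by rw [RelSeries.head_snoc, hh], RelSeries.last_snoc _ _ _⟩

theorem exists_saturated (p q : PrimeSpectrum R) (h : p ≤ q) :
    ∃ s : LTSeries (PrimeSpectrum R), Saturated s ∧ s.head = p ∧ s.last = q := by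
  obtain ⟨n, hn⟩ := ENat.ne_top_iff_exists.mp (Ideal.height_ne_top (I := q.asIdeal) q.2.ne_top)
  exact exists_saturated_aux n p q h hn.ge

/-- any chain refines to a saturated chain -/
theorem exists_refine (l : LTSeries (PrimeSpectrum R)) :
    ∃ s : LTSeries (PrimeSpectrum R), Saturated s ∧ s.head = l.head ∧ s.last = l.last ∧ l.length ≤ s.length := by
  induction l using RelSeries.inductionOn' with
  | singleton a => exact ⟨RelSeries.singleton _ a, saturated_singleton a, rfl, rfl, le_rfl⟩
  | snoc l a h ih =>
    obtain ⟨s, hs, hh, hl, hlen⟩ := ih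
    obtain ⟨t, ht, hth, htl⟩ := exists_saturated l.last a (le_of_lt h)
    have hts : s.last = t.head := hl.trans hth.symm
    refine ⟨RelSeries.smash s t hts, saturated_smash hs ht hts, ?_, ?_, ?_⟩
    · rw [RelSeries.head_smash, hh, RelSeries.head_snoc]
    · rw [RelSeries.last_smash, htl, RelSeries.last_snoc]
    · have : 1 ≤ t.length := by
        by_contra hc
        have h0 : t.length = 0 := by omega
        have : t.head = t.last := by
          unfold RelSeries.head RelSeries.last
          congr 1; ext; simp [h0]
        rw [hth, htl] at this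
        exact (ne_of_lt h) this
      simp only [RelSeries.snoc_length, RelSeries.smash_length]
      omega

omit [IsNoetherianRing R] in
theorem height_saturated (hR : CoverSucc R) (s : LTSeries (PrimeSpectrum R)) (hs : Saturated s) :
    s.last.asIdeal.height = s.head.asIdeal.height + s.length := by
  have key : ∀ i : ℕ, ∀ hi : i ≤ s.length, (s ⟨i, by omega⟩).asIdeal.height = s.head.asIdeal.height + i := by
    intro i
    induction i with
    | zero => intro _; simp; rfl
    | succ i ih =>
      intro hi
      have := hR _ _ (hs ⟨i, by omega⟩)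
      push_cast
      rw [← add_assoc, ← ih (by omega)]
      exact this
  exact key s.length le_rfl

theorem isCatenary_of_coverSucc (hR : CoverSucc R) : CAlg.IsCatenary R := by
  refine ⟨fun p q _ => ?_, fun s t hh hl hs ht => ?_⟩
  · obtain ⟨n, hn⟩ := ENat.ne_top_iff_exists.mp (Ideal.height_ne_top (I := q.asIdeal) q.2.ne_top)
    refine ⟨n, fun s _ hl => ?_⟩
    have h1 := Order.length_le_height (p := s) (x := q) hl.le
    rw [← PrimeSpectrum.height_eq_orderHeight, ← hn] at h1
    exact_mod_cast h1
  · have h1 := height_saturated hR s hs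
    have h2 := height_saturated hR t ht
    rw [hl, h2, hh] at h1
    obtain ⟨n, hn⟩ := ENat.ne_top_iff_exists.mp (Ideal.height_ne_top (I := t.head.asIdeal) t.head.2.ne_top)
    rw [← hn] at h1
    have : n + t.length = n + s.length := by exact_mod_cast h1
    omega

section local_

variable [IsLocalRing R]

/-- in a catenary local ring the dimension of `R/p` is the length of any saturated chain from `p` to the maximal ideal -/
theorem dim_quotient_eq_length (hc : CAlg.IsCatenary R) (p : PrimeSpectrum R) (t : LTSeries (PrimeSpectrum R))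
    (ht : Saturated t) (hth : t.head = p) (htl : t.last = closedPoint R) :
    ringKrullDim (R ⧸ p.asIdeal) = t.length := by
  rw [ringKrullDim_quotient]
  refine le_antisymm (iSup_le fun l => ?_) ?_
  · let l0 : LTSeries (PrimeSpectrum R) := l.map Subtype.val (fun _ _ h => h)
    obtain ⟨a, ha, hah, hal⟩ := exists_saturated p l0.head (show p.asIdeal ≤ l0.head.asIdeal from l.head.2)
    obtain ⟨s, hs, hsh, hsl, hlen⟩ := exists_refine l0
    obtain ⟨c, hc', hch, hcl⟩ := exists_saturated l0.last (closedPoint R) (le_maximalIdeal l0.last.2.ne_top)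
    have h1 : a.last = s.head := hal.trans hsh.symm
    have h2 : (RelSeries.smash a s h1 : LTSeries _).last = c.head := by rw [RelSeries.last_smash, hsl, hch]
    have key := hc.2 (RelSeries.smash (RelSeries.smash a s h1) c h2) t
      (by rw [RelSeries.head_smash, RelSeries.head_smash, hah, hth]) (by rw [RelSeries.last_smash, hcl, htl])
      (saturated_smash (saturated_smash ha hs h1) hc' h2) ht
    simp only [RelSeries.smash_length] at key
    exact_mod_cast (show l.length ≤ t.length by
      have : l0.length = l.length := rfl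
      omega)
  · let t' : LTSeries (PrimeSpectrum.zeroLocus (p.asIdeal : Set R)) :=
      ⟨t.length, fun i => ⟨t i, show p.asIdeal ≤ (t i).asIdeal from hth ▸ t.head_le i⟩, t.step⟩
    exact Order.LTSeries.length_le_krullDim t'

theorem isEquidim_of_coverSucc (hR : CoverSucc R) : EGA4.IsEquidim R := by
  intro p hp
  obtain ⟨t, ht, hth, htl⟩ := exists_saturated ⟨p, hp.1.1⟩ (closedPoint R) (le_maximalIdeal hp.1.1.ne_top)
  rw [dim_quotient_eq_length (isCatenary_of_coverSucc hR) ⟨p, hp.1.1⟩ t ht hth htl]
  have h1 := height_saturated hR t ht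
  rw [htl, hth] at h1
  have := hp.1.1
  rw [Ideal.height_eq_zero_iff.mpr hp, zero_add] at h1
  rw [← maximalIdeal_height_eq_ringKrullDim]
  exact (congrArg ((↑) : ℕ∞ → WithBot ℕ∞) h1).symm

theorem coverSucc_of_catenary_equidim (hc : CAlg.IsCatenary R) (he : EGA4.IsEquidim R) : CoverSucc R := by
  obtain ⟨d, hd⟩ : ∃ d : ℕ, ringKrullDim R = d := by
    obtain ⟨d, hd⟩ := ENat.ne_top_iff_exists.mp (Ideal.height_ne_top (I := maximalIdeal R) (maximalIdeal.isMaximal R).ne_top)
    exact ⟨d, by rw [← maximalIdeal_height_eq_ringKrullDim, ← hd]; rfl⟩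
  have key : ∀ (x : PrimeSpectrum R) (c : LTSeries (PrimeSpectrum R)), Saturated c → c.head = x →
      c.last = closedPoint R → x.asIdeal.height + c.length = d := by
    intro x c hcs hch hcl
    have key2 : ∀ (p0 : PrimeSpectrum R), p0.asIdeal ∈ minimalPrimes R → ∀ a : LTSeries (PrimeSpectrum R),
        Saturated a → a.head = p0 → a.last = x → a.length + c.length = d := by
      intro p0 hp0 a ha hah hal
      have h1 := dim_quotient_eq_length hc p0 (RelSeries.smash a c (hal.trans hch.symm)) (saturated_smash ha hcs _)
        (by rw [RelSeries.head_smash, hah]) (by rw [RelSeries.last_smash, hcl])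
      rw [he _ hp0, hd, RelSeries.smash_length] at h1
      exact_mod_cast h1.symm
    obtain ⟨p, hp, hpx⟩ := Ideal.exists_minimalPrimes_le (I := (⊥ : Ideal R)) (J := x.asIdeal) bot_le
    obtain ⟨a, ha, hah, hal⟩ := exists_saturated ⟨p, hp.1.1⟩ x hpx
    have hk := key2 _ hp a ha hah hal
    suffices x.asIdeal.height = a.length by rw [this]; exact_mod_cast hk
    rw [PrimeSpectrum.height_eq_orderHeight]
    refine le_antisymm (Order.height_le fun l hl => ?_) (Order.length_le_height hal.le)
    obtain ⟨p', hp', hp'l⟩ := Ideal.exists_minimalPrimes_le (I := (⊥ : Ideal R)) (J := l.head.asIdeal) bot_le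
    obtain ⟨b, hb, hbh, hbl⟩ := exists_saturated ⟨p', hp'.1.1⟩ l.head hp'l
    obtain ⟨s, hs, hsh, hsl, hlen⟩ := exists_refine l
    have := key2 _ hp' (RelSeries.smash b s (hbl.trans hsh.symm)) (saturated_smash hb hs _)
      (by rw [RelSeries.head_smash, hbh]) (by rw [RelSeries.last_smash, hsl, hl])
    rw [RelSeries.smash_length] at this
    exact_mod_cast (show l.length ≤ a.length by omega)
  intro p q hpq
  obtain ⟨c, hcs, hch, hcl⟩ := exists_saturated q (closedPoint R) (le_maximalIdeal q.2.ne_top)
  let one : LTSeries (PrimeSpectrum R) := RelSeries.snoc (RelSeries.singleton _ p) q hpq.lt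
  have h1 : one.last = c.head := by rw [hch]; exact RelSeries.last_snoc _ _ _
  have hkq := key q c hcs hch hcl
  have hkp := key p (RelSeries.smash one c h1) (saturated_smash (saturated_snoc (saturated_singleton p) hpq) hcs h1)
    (by rw [RelSeries.head_smash]; exact RelSeries.head_snoc _ _ _) (by rw [RelSeries.last_smash, hcl])
  obtain ⟨a, ha⟩ := ENat.ne_top_iff_exists.mp (Ideal.height_ne_top (I := q.asIdeal) q.2.ne_top)
  obtain ⟨b, hb⟩ := ENat.ne_top_iff_exists.mp (Ideal.height_ne_top (I := p.asIdeal) p.2.ne_top)
  rw [← ha] at hkq ⊢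
  rw [← hb] at hkp ⊢
  rw [RelSeries.smash_length, show one.length = 1 from rfl] at hkp
  have h2 : a + c.length = d := by exact_mod_cast hkq
  have h3 : b + (1 + c.length) = d := by exact_mod_cast hkp
  exact_mod_cast (show a = b + 1 by omega)

theorem dim_quotient_add_height (hR : CoverSucc R) (p : Ideal R) [hp : p.IsPrime] :
    ringKrullDim (R ⧸ p) + p.height = ringKrullDim R := by
  obtain ⟨t, ht, hth, htl⟩ := exists_saturated ⟨p, hp⟩ (closedPoint R) (le_maximalIdeal hp.ne_top)
  rw [dim_quotient_eq_length (isCatenary_of_coverSucc hR) ⟨p, hp⟩ t ht hth htl,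
    ← maximalIdeal_height_eq_ringKrullDim]
  have h1 := height_saturated hR t ht
  rw [htl, hth] at h1
  change ((t.length : ℕ∞) : WithBot ℕ∞) + _ = _
  rw [← WithBot.coe_add, add_comm]
  exact (congrArg ((↑) : ℕ∞ → WithBot ℕ∞) h1).symm

end local_

end Groth.Agent.EGA4H10
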