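import Groth.Agent.EGA4H10.Catenary
import Groth.Agent.EGA4H10.Equidim
import Groth.Agent.EGA4H10.FlatHeight
import Mathlib

/-!
# Descent of the catenary and equidimensional property along flat maps
-/

set_option autoImplicit false
universe u
open IsLocalRing

namespace Groth.Agent.EGA4H10

variable {A A' : Type u} [CommRing A] [CommRing A'] [IsNoetherianRing A] [IsNoetherianRing A']
  [Algebra A A'] [Module.Flat A A']

/-- below a prime over `q ≥ p` there is a minimal prime over `pA'`; it lies over `p` and has the height of `p` -/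
theorem exists_minimal_over (p q : Ideal A) [p.IsPrime] [q.IsPrime] (hpq : p ≤ q) (Q : Ideal A') [Q.IsPrime]
    (hQ : Q.comap (algebraMap A A') = q) :
    ∃ P : Ideal A', P.IsPrime ∧ P ≤ Q ∧ P.comap (algebraMap A A') = p ∧
      P ∈ (p.map (algebraMap A A')).minimalPrimes ∧ P.height = p.height := by
  have : Q.LiesOver q := ⟨hQ.symm⟩
  obtain ⟨Q0, hQ0Q, hQ0p, hQ0P⟩ := Ideal.exists_ideal_le_liesOver_of_le (p := p) Q hpq
  obtain ⟨P, hP, hPQ0⟩ := Ideal.exists_minimalPrimes_le (I := p.map (algebraMap A A')) (J := Q0)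
    (Ideal.map_le_iff_le_comap.mpr (le_of_eq hQ0P.over))
  have := hP.1.1
  have hcomap : P.comap (algebraMap A A') = p := le_antisymm
    ((Ideal.comap_mono hPQ0).trans (le_of_eq hQ0P.over.symm)) (Ideal.map_le_iff_le_comap.mp hP.1.2)
  have : P.LiesOver p := ⟨hcomap.symm⟩
  refine ⟨P, hP.1.1, hPQ0.trans hQ0Q, hcomap, hP, ?_⟩
  rw [Ideal.height_eq_height_add_of_liesOver_of_hasGoingDown p P, height_map_quotient_of_minimal hP, add_zero]

omit [Module.Flat A A'] in
theorem coverSucc_of_flat [Module.FaithfullyFlat A A'] (h : CoverSucc A') : CoverSucc A := by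
  intro p q hpq
  have hle : p.asIdeal ≤ q.asIdeal := hpq.le
  obtain ⟨Q0, hQ0⟩ := PrimeSpectrum.comap_surjective_of_faithfullyFlat (B := A') q
  obtain ⟨Q, hQp, -, hQc, hQmin, hQh⟩ := exists_minimal_over q.asIdeal q.asIdeal le_rfl Q0.asIdeal
    (by rw [← hQ0]; rfl)
  obtain ⟨P, hPp, hPQ, hPc, hPmin, hPh⟩ := exists_minimal_over p.asIdeal q.asIdeal hle Q hQc
  have hlt : P < Q := lt_of_le_of_ne hPQ fun he => hpq.lt.ne
    (PrimeSpectrum.ext (by rw [← hPc, he, hQc]))
  have hcov : (⟨P, hPp⟩ : PrimeSpectrum A') ⋖ ⟨Q, hQp⟩ := by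
    refine ⟨hlt, ?_⟩
    rintro ⟨R, hR⟩ hPR hRQ
    obtain ⟨x, hxq, hxp⟩ := SetLike.exists_of_lt (show p.asIdeal < q.asIdeal from hpq.lt)
    let f := Ideal.Quotient.mk P
    have hRp : (R.map f).IsPrime := Ideal.isPrime_map_quotientMk_of_isPrime (hPR.le)
    have hQp' : (Q.map f).IsPrime := Ideal.isPrime_map_quotientMk_of_isPrime hPQ
    have hmin : Q.map f ∈ (Ideal.span {f (algebraMap A A' x)}).minimalPrimes := by
      refine ⟨⟨hQp', ?_⟩, fun S hS hle' => ?_⟩
      · rw [Ideal.span_le, Set.singleton_subset_iff]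
        exact Ideal.mem_map_of_mem _ (by rw [← Ideal.mem_comap, hQc]; exact hxq)
      · have hSp := hS.1
        have hS1le : S.comap f ≤ Q := by
          refine (Ideal.comap_mono hle').trans (le_of_eq ?_)
          rw [Ideal.comap_map_quotientMk, sup_eq_right.mpr hPQ]
        have hPS : P ≤ S.comap f := fun y hy => by
          rw [Ideal.mem_comap, show f y = 0 from Ideal.Quotient.eq_zero_iff_mem.mpr hy]; exact zero_mem _
        have hxS : algebraMap A A' x ∈ S.comap f :=
          Ideal.mem_comap.mpr (hS.2 (Ideal.mem_span_singleton_self _))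
        have hcc : (⟨(S.comap f).comap (algebraMap A A'), inferInstance⟩ : PrimeSpectrum A) = q := by
          rcases hpq.eq_or_eq (c := ⟨(S.comap f).comap (algebraMap A A'), inferInstance⟩)
            (show p.asIdeal ≤ _ from hPc ▸ Ideal.comap_mono hPS)
            (show _ ≤ q.asIdeal from hQc ▸ Ideal.comap_mono hS1le) with he | he
          · exact absurd (congrArg PrimeSpectrum.asIdeal he ▸ (Ideal.mem_comap.mpr hxS) : x ∈ p.asIdeal) hxp
          · exact he
        have hQS : Q ≤ S.comap f := hQmin.2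
          ⟨inferInstance, Ideal.map_le_iff_le_comap.mpr (le_of_eq (congrArg PrimeSpectrum.asIdeal hcc).symm)⟩ hS1le
        exact Ideal.map_le_iff_le_comap.mpr hQS
    have hprin : (Ideal.span {f (algebraMap A A' x)}).IsPrincipal := ⟨⟨_, rfl⟩⟩
    have h1 : (Q.map f).height ≤ 1 := Ideal.height_le_one_of_isPrincipal_of_mem_minimalPrimes _ _ hmin
    have hRlt : R.map f < Q.map f := by
      refine lt_of_le_of_ne (Ideal.map_mono hRQ.le) fun he => hRQ.ne (PrimeSpectrum.ext ?_)
      have := congrArg (Ideal.comap f) he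
      rwa [Ideal.comap_map_quotientMk, Ideal.comap_map_quotientMk, sup_eq_right.mpr hPR.le,
        sup_eq_right.mpr hPQ] at this
    have h2 := (Ideal.height_strict_mono_of_isPrime (I := R.map f) (J := Q.map f) hRlt).trans_le h1
    rw [Order.lt_one_iff, Ideal.height_eq_zero_iff_eq_bot, Ideal.map_eq_bot_iff_le_ker, Ideal.mk_ker] at h2
    exact absurd (le_antisymm h2 hPR.le : R = P) (fun he => hPR.ne (PrimeSpectrum.ext he.symm))
  have := h _ _ hcov
  rwa [hQh, hPh] at this

omit [IsNoetherianRing A] [IsNoetherianRing A'] in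
theorem comap_minimal_of_flat (a : Ideal A) {P : Ideal A'} (hP : P ∈ (a.map (algebraMap A A')).minimalPrimes) :
    P.comap (algebraMap A A') ∈ a.minimalPrimes ∧
      P ∈ ((P.comap (algebraMap A A')).map (algebraMap A A')).minimalPrimes := by
  have := hP.1.1
  refine ⟨⟨⟨inferInstance, Ideal.map_le_iff_le_comap.mp hP.1.2⟩, fun p0 hp0 hle => ?_⟩,
    ⟨⟨hP.1.1, Ideal.map_comap_le⟩, fun S hS hle => hP.2 ⟨hS.1, le_trans (Ideal.map_mono
      (Ideal.map_le_iff_le_comap.mp hP.1.2)) hS.2⟩ hle⟩⟩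
  have := hp0.1
  have : P.LiesOver (P.comap (algebraMap A A')) := ⟨rfl⟩
  obtain ⟨P0, hP0P, hP0p, hP0⟩ := Ideal.exists_ideal_le_liesOver_of_le (p := p0) P hle
  have hge := hP.2 ⟨hP0p, (Ideal.map_mono hp0.2).trans (Ideal.map_le_iff_le_comap.mpr (le_of_eq hP0.over))⟩ hP0P
  exact (Ideal.comap_mono hge).trans (le_of_eq hP0.over.symm)

omit [IsNoetherianRing A] [IsNoetherianRing A'] [Module.Flat A A'] in
/-- a minimal prime over `a` with a minimal prime over `pA'` gives a minimal prime over `aA'` -/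
theorem minimal_map_of_minimal (a : Ideal A) {p : Ideal A} (hp : p ∈ a.minimalPrimes) {P : Ideal A'}
    (hP : P ∈ (p.map (algebraMap A A')).minimalPrimes) (hc : P.comap (algebraMap A A') = p) :
    P ∈ (a.map (algebraMap A A')).minimalPrimes := by
  refine ⟨⟨hP.1.1, (Ideal.map_mono hp.1.2).trans hP.1.2⟩, fun S hS hle => ?_⟩
  have := hS.1
  have hle' : S.comap (algebraMap A A') ≤ p := hc ▸ Ideal.comap_mono hle
  exact hP.2 ⟨hS.1, Ideal.map_le_iff_le_comap.mpr (hp.2 ⟨inferInstance, Ideal.map_le_iff_le_comap.mp hS.2⟩ hle')⟩ hle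

/-- equidimensionality of a quotient in terms of the minimal primes over the ideal -/
theorem isEquidim_quotient_iff {R : Type u} [CommRing R] [IsNoetherianRing R] [IsLocalRing R] (I : Ideal R) :
    EGA4.IsEquidim (R ⧸ I) ↔
      ∀ p ∈ I.minimalPrimes, ∀ q ∈ I.minimalPrimes, ringKrullDim (R ⧸ p) = ringKrullDim (R ⧸ q) := by
  have hmin : I.minimalPrimes = Ideal.comap (Ideal.Quotient.mk I) '' minimalPrimes (R ⧸ I) :=
    Ideal.minimalPrimes_eq_comap
  have hdim := fun (p : Ideal (R ⧸ I)) => dim_quotient_comap (Ideal.Quotient.mk I) Ideal.Quotient.mk_surjective p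
  constructor
  · intro h p hp q hq
    rw [hmin] at hp hq
    obtain ⟨p, hp, rfl⟩ := hp
    obtain ⟨q, hq, rfl⟩ := hq
    rw [hdim, hdim, h p hp, h q hq]
  · intro h p hp
    have : Nontrivial (R ⧸ I) := ⟨⟨0, 1, fun he => hp.1.1.ne_top ((Ideal.eq_top_iff_one _).mpr (he ▸ zero_mem _))⟩⟩
    have : IsLocalRing (R ⧸ I) := IsLocalRing.of_surjective' (Ideal.Quotient.mk I) Ideal.Quotient.mk_surjective
    obtain ⟨q, hq, hdq⟩ := exists_minimal_dim_eq (R ⧸ I)
    rw [← hdq, ← hdim p, ← hdim q]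
    exact h _ (hmin ▸ ⟨p, hp, rfl⟩) _ (hmin ▸ ⟨q, hq, rfl⟩)

theorem dim_quotient_eq_iff {R : Type u} [CommRing R] [IsNoetherianRing R] [IsLocalRing R] (hR : CoverSucc R)
    (p q : Ideal R) [p.IsPrime] [q.IsPrime] :
    ringKrullDim (R ⧸ p) = ringKrullDim (R ⧸ q) ↔ p.height = q.height := by
  have fin : ∀ (x : Ideal R) [x.IsPrime], ∃ n : ℕ, ringKrullDim (R ⧸ x) = n := fun x _ => by
    have : Nontrivial (R ⧸ x) := Ideal.Quotient.nontrivial_iff.mpr ‹x.IsPrime›.ne_top
    have : IsLocalRing (R ⧸ x) := IsLocalRing.of_surjective' (Ideal.Quotient.mk x) Ideal.Quotient.mk_surjective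
    obtain ⟨n, hn⟩ := ENat.ne_top_iff_exists.mp (Ideal.height_ne_top (I := maximalIdeal (R ⧸ x)) (maximalIdeal.isMaximal _).ne_top)
    exact ⟨n, by rw [← maximalIdeal_height_eq_ringKrullDim, ← hn]; rfl⟩
  obtain ⟨a, ha⟩ := fin p
  obtain ⟨b, hb⟩ := fin q
  obtain ⟨c, hc⟩ := ENat.ne_top_iff_exists.mp (Ideal.height_ne_top (I := p) ‹p.IsPrime›.ne_top)
  obtain ⟨d, hd⟩ := ENat.ne_top_iff_exists.mp (Ideal.height_ne_top (I := q) ‹q.IsPrime›.ne_top)
  have := (dim_quotient_add_height hR p).trans (dim_quotient_add_height hR q).symm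
  rw [ha, hb, ← hc, ← hd] at this
  rw [ha, hb, ← hc, ← hd]
  have h' : a + c = b + d := by exact_mod_cast this
  constructor
  · intro h
    have : a = b := by exact_mod_cast h
    exact_mod_cast (show c = d by omega)
  · intro h
    have : c = d := by exact_mod_cast h
    exact_mod_cast (show a = b by omega)

end Groth.Agent.EGA4H10
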