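import Groth.Agent.EGA4H10.CompleteUC
import Groth.Agent.EGA4H10.FlatCatenary
import Groth.Agent.EGA4H10.Catenary
import Groth.Agent.EGA4H10.CMCompletion
import Groth.Agent.EGA4H10.Equidim
import Mathlib

/-!
# Formally catenary implies universally catenary
-/

set_option autoImplicit false
set_option linter.style.haveILetI false
universe u
open IsLocalRing TensorProduct

namespace Groth.Agent.EGA4H10

theorem isPrime_map_C_mv {σ R : Type u} [CommRing R] (P : Ideal R) [P.IsPrime] :
    (P.map (MvPolynomial.C : R →+* MvPolynomial σ R)).IsPrime := by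
  rw [show P.map (MvPolynomial.C : R →+* MvPolynomial σ R) =
      RingHom.ker (MvPolynomial.map (Ideal.Quotient.mk P) : MvPolynomial σ R →+* MvPolynomial σ (R ⧸ P)) by
    rw [MvPolynomial.ker_map, Ideal.mk_ker]]
  exact RingHom.ker_isPrime _

theorem comap_map_C_mv {σ R : Type u} [CommRing R] (P : Ideal R) [P.IsPrime] :
    (P.map (MvPolynomial.C : R →+* MvPolynomial σ R)).comap MvPolynomial.C = P := by
  rw [show P.map (MvPolynomial.C : R →+* MvPolynomial σ R) =
      RingHom.ker (MvPolynomial.map (Ideal.Quotient.mk P) : MvPolynomial σ R →+* MvPolynomial σ (R ⧸ P)) by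
    rw [MvPolynomial.ker_map, Ideal.mk_ker]]
  ext x
  rw [Ideal.mem_comap, RingHom.mem_ker, MvPolynomial.map_C, map_eq_zero_iff _ (MvPolynomial.C_injective σ _),
    Ideal.Quotient.eq_zero_iff_mem]

theorem coverSucc_of_ringEquiv {R S : Type u} [CommRing R] [CommRing S] (e : R ≃+* S) (h : CoverSucc R) :
    CoverSucc S := by
  intro p q hpq
  let f : PrimeSpectrum S ↪o PrimeSpectrum R :=
    (PrimeSpectrum.comapEquiv e).symm.toOrderEmbedding
  have hf : (Set.range f).OrdConnected := by
    rw [show Set.range f = Set.univ from (PrimeSpectrum.comapEquiv e).symm.surjective.range_eq]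
    exact Set.ordConnected_univ
  have hcov := h (f p) (f q) (hpq.image f hf)
  have hh : ∀ x : PrimeSpectrum S, (f x).asIdeal.height = x.asIdeal.height := fun x => by
    rw [PrimeSpectrum.height_eq_orderHeight, PrimeSpectrum.height_eq_orderHeight]
    exact Order.height_orderIso (PrimeSpectrum.comapEquiv e).symm x
  rwa [hh, hh] at hcov

theorem coverSucc_of_flat_local (A B : Type u) [CommRing A] [CommRing B] [IsNoetherianRing A] [IsNoetherianRing B]
    [IsLocalRing A] [IsLocalRing B] [Algebra A B] [IsLocalHom (algebraMap A B)] [Module.Flat A B]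
    (h : CoverSucc B) : CoverSucc A :=
  have := Module.FaithfullyFlat.of_flat_of_isLocalHom (A := A) (B := B)
  coverSucc_of_flat (A' := B) h

/-- a chain realizing the height that starts at `⊥`, in a domain -/
theorem exists_series_bot {D : Type u} [CommRing D] [IsDomain D] [IsNoetherianRing D] (q : PrimeSpectrum D) :
    ∃ l : LTSeries (PrimeSpectrum D), l.head.asIdeal = ⊥ ∧ l.last = q ∧ (l.length : ℕ∞) = q.asIdeal.height := by
  obtain ⟨l, hlast, hlen⟩ := q.asIdeal.exists_ltSeries_length_eq_height
  refine ⟨l, ?_, hlast, hlen⟩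
  by_contra hne
  have hlt : (⟨⊥, Ideal.isPrime_bot⟩ : PrimeSpectrum D) < l.head :=
    lt_of_le_of_ne (bot_le : (⊥ : Ideal D) ≤ l.head.asIdeal) fun h => hne (congrArg PrimeSpectrum.asIdeal h).symm
  have h1 := Order.length_le_height (p := l.cons _ hlt) (x := q)
    (by rw [RelSeries.last_cons]; exact le_of_eq hlast)
  rw [← PrimeSpectrum.height_eq_orderHeight, ← hlen, RelSeries.cons_length] at h1
  exact absurd (by exact_mod_cast h1 : l.length + 1 ≤ l.length) (by omega)

/-- polynomial rings over an equidimensional catenary ring are locally equidimensional -/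
theorem coverSucc_mvPolynomial_localization (C : Type u) [CommRing C] [IsLocalRing C] [IsNoetherianRing C]
    (huc : CAlg.IsUniversallyCatenary C) (hC : CoverSucc C) (σ : Type u) [Finite σ] (Q : Ideal (MvPolynomial σ C))
    [Q.IsPrime] : CoverSucc (Localization.AtPrime Q) := by
  let R := MvPolynomial σ C
  let L := Localization.AtPrime Q
  have : IsNoetherianRing R := inferInstance
  have : IsNoetherianRing L := IsLocalization.isNoetherianRing Q.primeCompl _ inferInstance
  have hcat : CAlg.IsCatenary L :=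
    CAlg1.isCatenary_of_isLocalization (A := R) Q.primeCompl (huc.2 R inferInstance)
  refine coverSucc_of_catenary_equidim hcat fun P0 hP0 => ?_
  have := hP0.1.1
  let P0' : Ideal R := P0.comap (algebraMap R L)
  have hP0Q : P0' ≤ Q := fun x hx =>
    (IsLocalization.AtPrime.to_map_mem_maximal_iff L Q x).mp (le_maximalIdeal hP0.1.1.ne_top hx)
  have hmin : ∀ P : Ideal R, P.IsPrime → P ≤ P0' → P = P0' := by
    intro P hP hle
    have hPQ : P ≤ Q := hle.trans hP0Q
    have h1 : (P.map (algebraMap R L)).IsPrime := Ideal.isPrime_map_of_isLocalizationAtPrime Q hPQ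
    have h2 : P0 ≤ P.map (algebraMap R L) := hP0.2 ⟨h1, bot_le⟩ (Ideal.map_le_iff_le_comap.mpr hle)
    refine le_antisymm hle ((Ideal.comap_mono h2).trans (le_of_eq ?_))
    exact IsLocalization.under_map_of_isPrime_disjoint Q.primeCompl L hP
      (Set.disjoint_left.mpr fun x hx hxp => hx (hPQ hxp))
  let p' : Ideal C := P0'.comap MvPolynomial.C
  have hp' : p'.map (MvPolynomial.C : C →+* R) = P0' :=
    hmin _ (isPrime_map_C_mv p') (Ideal.map_le_iff_le_comap.mpr le_rfl)
  have hp'min : p' ∈ minimalPrimes C := by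
    refine ⟨⟨inferInstance, bot_le⟩, fun p hp hle => ?_⟩
    have := hp.1
    have h1 : p.map (MvPolynomial.C : C →+* R) = P0' :=
      hmin _ (isPrime_map_C_mv p) ((Ideal.map_mono hle).trans (le_of_eq hp'))
    rw [← comap_map_C_mv (σ := σ) p, h1]
  let qC : Ideal C := Q.comap MvPolynomial.C
  have hpq : p' ≤ qC := Ideal.comap_mono hP0Q
  obtain ⟨s, hs, hsh, hsl⟩ := exists_saturated ⟨p', inferInstance⟩ ⟨qC, inferInstance⟩ hpq
  have hslen : qC.height = s.length := by
    have h1 := height_saturated hC s hs
    rw [hsh, hsl] at h1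
    rw [h1, Ideal.height_eq_zero_iff.mpr hp'min, zero_add]
  -- the chain in the fibre
  let a := qC.map (MvPolynomial.C : C →+* R)
  have : a.IsPrime := isPrime_map_C_mv qC
  have haQ : a ≤ Q := Ideal.map_le_iff_le_comap.mpr le_rfl
  have : (Q.map (Ideal.Quotient.mk a)).IsPrime := Ideal.isPrime_map_quotientMk_of_isPrime haQ
  obtain ⟨l, hl0, hll, hllen⟩ := exists_series_bot (D := R ⧸ a) ⟨Q.map (Ideal.Quotient.mk a), inferInstance⟩
  let l1 : LTSeries (PrimeSpectrum R) := LTSeries.map s (fun x => ⟨x.asIdeal.map MvPolynomial.C, isPrime_map_C_mv x.asIdeal⟩)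
    (fun x y hxy => by
      refine lt_of_le_of_ne (Ideal.map_mono hxy.le) fun h => hxy.ne (PrimeSpectrum.ext ?_)
      rw [← comap_map_C_mv (σ := σ) x.asIdeal, ← comap_map_C_mv (σ := σ) y.asIdeal]
      exact congrArg (Ideal.comap MvPolynomial.C) (congrArg PrimeSpectrum.asIdeal h))
  let l2 : LTSeries (PrimeSpectrum R) := LTSeries.map l (PrimeSpectrum.comap (Ideal.Quotient.mk a))
    (fun x y hxy => by
      refine lt_of_le_of_ne (Ideal.comap_mono hxy.le) fun h => hxy.ne (PrimeSpectrum.ext ?_)
      exact Ideal.comap_injective_of_surjective _ Ideal.Quotient.mk_surjective (congrArg PrimeSpectrum.asIdeal h))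
  have hjoin : l1.last = l2.head := by
    refine PrimeSpectrum.ext ?_
    show s.last.asIdeal.map MvPolynomial.C = l.head.asIdeal.comap (Ideal.Quotient.mk a)
    rw [congrArg PrimeSpectrum.asIdeal hsl, hl0, ← RingHom.ker_eq_comap_bot, Ideal.mk_ker]
  let lt : LTSeries (PrimeSpectrum R) := RelSeries.smash l1 l2 hjoin
  have hth : lt.head.asIdeal = P0' := by
    rw [show lt.head = l1.head from RelSeries.head_smash hjoin]
    show s.head.asIdeal.map MvPolynomial.C = P0'
    rw [congrArg PrimeSpectrum.asIdeal hsh]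
    exact hp'
  have htl : lt.last.asIdeal = Q := by
    rw [show lt.last = l2.last from RelSeries.last_smash hjoin]
    show l.last.asIdeal.comap (Ideal.Quotient.mk a) = Q
    rw [congrArg PrimeSpectrum.asIdeal hll, Ideal.comap_map_of_surjective' _ Ideal.Quotient.mk_surjective,
      Ideal.mk_ker, sup_eq_left.mpr haQ]
  have hlen : (lt.length : ℕ∞) = Q.height := by
    have : Q.LiesOver qC := ⟨rfl⟩
    rw [Ideal.height_eq_height_add_of_liesOver_of_hasGoingDown qC Q, RelSeries.smash_length, Nat.cast_add, hslen]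
    exact congrArg (_ + ·) hllen
  have hleQ : ∀ i, (lt i).asIdeal ≤ Q := fun i => le_trans (lt.monotone (Fin.le_last i)) htl.le
  have hgeP : ∀ i, P0' ≤ (lt i).asIdeal := fun i => hth.ge.trans (lt.monotone (Fin.zero_le i))
  refine le_antisymm (ringKrullDim_quotient_le P0) ?_
  rw [IsLocalization.AtPrime.ringKrullDim_eq_height Q L, ← hlen, ringKrullDim_quotient]
  let up : ∀ i, PrimeSpectrum.zeroLocus (P0 : Set L) := fun i =>
    ⟨⟨(lt i).asIdeal.map (algebraMap R L), Ideal.isPrime_map_of_isLocalizationAtPrime Q (hleQ i)⟩, by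
      show P0 ≤ (lt i).asIdeal.map (algebraMap R L)
      rw [← IsLocalization.map_under Q.primeCompl L P0]
      exact Ideal.map_mono (hgeP i)⟩
  refine Order.LTSeries.length_le_krullDim ⟨lt.length, up, fun i => ?_⟩
  refine lt_of_le_of_ne (Ideal.map_mono (lt.step i).le : (up i.castSucc).1.asIdeal ≤ (up i.succ).1.asIdeal)
    fun h => (lt.step i).ne (PrimeSpectrum.ext ?_)
  have h1 : (lt i.castSucc).asIdeal.map (algebraMap R L) = (lt i.succ).asIdeal.map (algebraMap R L) :=
    h
  have h2 : ∀ j, ((lt j).asIdeal.map (algebraMap R L)).comap (algebraMap R L) = (lt j).asIdeal := fun j =>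
    IsLocalization.under_map_of_isPrime_disjoint Q.primeCompl L (lt j).2
      (Set.disjoint_left.mpr fun x hx hxp => hx (hleQ j hxp))
  rw [← h2 i.castSucc, h1, h2]

/-- polynomial rings over a formally equidimensional local ring are catenary -/
theorem isCatenary_mvPolynomial_of_formallyEquidim (A : Type u) [CommRing A] [IsLocalRing A] [IsNoetherianRing A]
    (hA : EGA4.IsFormallyEquidim A) (σ : Type u) [Finite σ] : CAlg.IsCatenary (MvPolynomial σ A) := by
  let Ah := EGA4.Cpl A
  have : IsNoetherianRing Ah := Cohen12.isNoetherianRing_completion (A := A)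
  have : Module.Flat A Ah := inferInstance
  have : Module.FaithfullyFlat A Ah := Module.FaithfullyFlat.of_flat_of_isLocalHom
  have huc := isUniversallyCatenary_cpl A
  have hC : CoverSucc Ah := coverSucc_of_catenary_equidim (isCatenary_of_universallyCatenary huc) hA
  let R := MvPolynomial σ A
  let R' := R ⊗[A] Ah
  let e : R' ≃+* MvPolynomial σ Ah :=
    (Algebra.TensorProduct.comm A R Ah).toRingEquiv.trans (MvPolynomial.algebraTensorAlgEquiv A Ah).toRingEquiv
  have : IsNoetherianRing R' := isNoetherianRing_of_ringEquiv _ e.symm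
  have : Module.FaithfullyFlat R R' := inferInstance
  refine CAlg1.isCatenary_of_localization fun q => ⟨q.asIdeal.primeCompl,
    Set.disjoint_left.mpr fun x hx hxq => hx hxq, ?_⟩
  obtain ⟨Q', hQ'⟩ := PrimeSpectrum.comap_surjective_of_faithfullyFlat (B := R') q
  have hq : Q'.asIdeal.comap (algebraMap R R') = q.asIdeal := congrArg PrimeSpectrum.asIdeal hQ'
  let Rq := Localization.AtPrime q.asIdeal
  let RQ := Localization.AtPrime Q'.asIdeal
  have hcov : CoverSucc RQ := by
    let Qp := Q'.asIdeal.comap e.symm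
    have hc := coverSucc_mvPolynomial_localization Ah huc hC σ Qp
    exact coverSucc_of_ringEquiv (IsLocalization.ringEquivOfRingEquiv (Localization.AtPrime Qp) RQ e.symm
      (e.symm.map_primeCompl_comap_eq Q'.asIdeal)) hc
  have : IsNoetherianRing Rq := IsLocalization.isNoetherianRing q.asIdeal.primeCompl _ inferInstance
  have : IsNoetherianRing RQ := IsLocalization.isNoetherianRing Q'.asIdeal.primeCompl _ inferInstance
  let φ : Rq →+* RQ := Localization.localRingHom q.asIdeal Q'.asIdeal (algebraMap R R') hq.symm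
  letI : Algebra Rq RQ := φ.toAlgebra
  have : IsScalarTower R Rq RQ := IsScalarTower.of_algebraMap_eq fun x => by
    show _ = φ (algebraMap R Rq x)
    rw [Localization.localRingHom_to_map]
    rfl
  have : Module.Flat R RQ := Module.Flat.trans R R' RQ
  have : Module.Flat Rq RQ := (Module.flat_iff_of_isLocalization Rq q.asIdeal.primeCompl RQ).mpr inferInstance
  have : IsLocalHom (algebraMap Rq RQ) := Localization.isLocalHom_localRingHom q.asIdeal Q'.asIdeal (algebraMap R R') hq.symm
  exact isCatenary_of_coverSucc (coverSucc_of_flat_local Rq RQ hcov)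

/-- a ring is catenary if it is so on the closed sets `V(P[X])` -/
theorem isUniversallyCatenary_of_quotients (A : Type u) [CommRing A] [IsNoetherianRing A]
    (h : ∀ (P : Ideal A) [P.IsPrime] (n : ℕ), CAlg.IsCatenary (MvPolynomial (ULift.{u} (Fin n)) (A ⧸ P))) :
    CAlg.IsUniversallyCatenary A := by
  refine ⟨inferInstance, fun S _ _ hS => ?_⟩
  obtain ⟨n, f, hf⟩ := Algebra.FiniteType.iff_quotient_mvPolynomial''.mp hS
  let σ := ULift.{u} (Fin n)
  let g : MvPolynomial σ A →+* S := f.toRingHom.comp (MvPolynomial.renameEquiv A Equiv.ulift).toAlgHom.toRingHom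
  refine CAlg1.isCatenary_of_surjective g (hf.comp (MvPolynomial.renameEquiv A Equiv.ulift).surjective) ?_
  refine ⟨fun p q _ => ?_, fun s t hh hl hs ht => ?_⟩
  · obtain ⟨N, hN⟩ := ENat.ne_top_iff_exists.mp (Ideal.height_ne_top (I := q.asIdeal) q.2.ne_top)
    refine ⟨N, fun s _ hl => ?_⟩
    have h1 := Order.length_le_height (p := s) (x := q) hl.le
    rw [← PrimeSpectrum.height_eq_orderHeight, ← hN] at h1
    exact_mod_cast h1
  · let P : Ideal A := s.head.asIdeal.comap MvPolynomial.C
    let π : MvPolynomial σ A →+* MvPolynomial σ (A ⧸ P) := MvPolynomial.map (Ideal.Quotient.mk P)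
    have hπ : Function.Surjective π := MvPolynomial.map_surjective _ Ideal.Quotient.mk_surjective
    let F : PrimeSpectrum (MvPolynomial σ (A ⧸ P)) ↪o PrimeSpectrum (MvPolynomial σ A) :=
      OrderEmbedding.ofMapLEIff (PrimeSpectrum.comap π) fun x y =>
        Ideal.comap_le_comap_iff_of_surjective π hπ x.asIdeal y.asIdeal
    have hrange : ∀ x : PrimeSpectrum (MvPolynomial σ A), s.head.asIdeal ≤ x.asIdeal → x ∈ Set.range F := by
      intro x hx
      show x ∈ Set.range (PrimeSpectrum.comap π)
      rw [range_comap_of_surjective _ π hπ, PrimeSpectrum.mem_zeroLocus, MvPolynomial.ker_map, Ideal.mk_ker]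
      exact (Ideal.map_le_iff_le_comap.mpr le_rfl).trans hx
    obtain ⟨s', hs', hsF⟩ := CAlg1.exists_series_lift F s fun i => hrange _ (s.monotone (Fin.zero_le i))
    obtain ⟨t', ht', htF⟩ := CAlg1.exists_series_lift F t fun i =>
      hrange _ (le_trans (le_of_eq (congrArg PrimeSpectrum.asIdeal hh)) (t.monotone (Fin.zero_le i)))
    rw [← hs', ← ht']
    refine (h P n).2 s' t' ?_ ?_ (fun i => ?_) (fun i => ?_)
    · apply F.injective
      show F (s' 0) = F (t' 0)
      rw [hsF, htF]
      exact hh
    · apply F.injective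
      show F (s' (Fin.last _)) = F (t' (Fin.last _))
      rw [hsF, htF]
      convert hl using 1
      · congr 1; exact Fin.ext hs'
      · congr 1; exact Fin.ext ht'
    · refine CovBy.of_image F ?_
      rw [hsF, hsF]
      exact hs (Fin.cast hs' i)
    · refine CovBy.of_image F ?_
      rw [htF, htF]
      exact ht (Fin.cast ht' i)

end Groth.Agent.EGA4H10
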