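import Groth.Agent.EGA4H10.FEquidimEFT
import Groth.Agent.EGA4H10.CMCompletion
import Groth.Agent.Cyc90.DimFormula
import Groth.Agent.Ega11.UCDim
import Groth.Agent.VarDim1.Basic
import Mathlib

/-!
# Ratliff's theorem: universally catenary local rings are formally catenary

A one-dimensional component `P` of the completion of a domain `A` is separated from the others by an
affine chart `A[q/y]` of a blow-up, in which it gives a maximal ideal of height at most one; the
dimension formula then gives `dim A ≤ 1`.  Components of higher dimension are handled by induction.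
-/

set_option autoImplicit false
set_option linter.style.haveILetI false
set_option synthInstance.maxHeartbeats 100000
universe u

open IsLocalRing TensorProduct

namespace Groth.Agent.EGA4H10

theorem ringKrullDim_cpl (A : Type u) [CommRing A] [IsNoetherianRing A] [IsLocalRing A] :
    ringKrullDim (EGA4.Cpl A) = ringKrullDim A := by
  have := isNoetherianRing_cpl (A := A)
  rw [← Module.supportDim_self_eq_ringKrullDim, ← Module.supportDim_self_eq_ringKrullDim, ← supportDim_cpl A]
  exact Module.supportDim_eq_of_equiv (AlgebraTensorModule.rid A (EGA4.Cpl A) (EGA4.Cpl A)).symm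

theorem isUnit_one_add_of_mem {R : Type u} [CommRing R] [IsLocalRing R] {w : R} (hw : w ∈ maximalIdeal R) :
    IsUnit (1 + w) :=
  (IsLocalRing.isUnit_or_isUnit_of_add_one (show 1 + w + -w = 1 by ring)).resolve_right fun h =>
    (maximalIdeal R).ne_top_iff_one.1 (maximalIdeal.isMaximal R).ne_top
      (by obtain ⟨v, hv⟩ := h; simpa [← hv] using (maximalIdeal R).mul_mem_right (↑v⁻¹) ((maximalIdeal R).neg_mem hw))

set_option maxHeartbeats 1600000 in
/-- the blow-up chart separating a one-dimensional component -/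
theorem dim_le_one_of_component (A : Type u) [CommRing A] [IsDomain A] [IsLocalRing A] [IsNoetherianRing A]
    (hA : CAlg.IsUniversallyCatenary A) (P : Ideal (EGA4.Cpl A)) [P.IsPrime]
    (hP : P ∈ minimalPrimes (EGA4.Cpl A)) (hd : ringKrullDim (EGA4.Cpl A ⧸ P) = 1) :
    ringKrullDim A ≤ 1 := by
  classical
  let Ah := EGA4.Cpl A
  have : IsNoetherianRing Ah := Cohen12.isNoetherianRing_completion (A := A)
  have : Module.Flat A Ah := inferInstanceAs (Module.Flat A (AdicCompletion (maximalIdeal A) A))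
  let mh := maximalIdeal Ah
  have hmh : mh = (maximalIdeal A).map (algebraMap A Ah) := AdicCompletion.maximalIdeal_eq_map
  have hPA : P.comap (algebraMap A Ah) = ⊥ := by
    have h := (comap_minimal_of_flat (A' := Ah) (P := P) (⊥ : Ideal A) (by rw [Ideal.map_bot]; exact hP)).1
    exact le_bot_iff.1 (h.2 ⟨Ideal.isPrime_bot, le_rfl⟩ bot_le)
  -- primes strictly above `P` are the maximal ideal
  have habove : ∀ Q : Ideal Ah, Q.IsPrime → P < Q → Q = mh := by
    intro Q hQ hPQ
    by_contra hne
    have hlt : Q < mh := lt_of_le_of_ne (le_maximalIdeal hQ.ne_top) hne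
    let x0 : PrimeSpectrum.zeroLocus (P : Set Ah) := ⟨⟨P, ‹_›⟩, le_refl P⟩
    let x1 : PrimeSpectrum.zeroLocus (P : Set Ah) := ⟨⟨Q, hQ⟩, hPQ.le⟩
    let x2 : PrimeSpectrum.zeroLocus (P : Set Ah) := ⟨⟨mh, inferInstance⟩, (hPQ.trans hlt).le⟩
    let l : LTSeries (PrimeSpectrum.zeroLocus (P : Set Ah)) :=
      ⟨2, ![x0, x1, x2], fun i => match i with
        | ⟨0, _⟩ => hPQ
        | ⟨1, _⟩ => hlt⟩
    have := Order.LTSeries.length_le_krullDim l
    rw [← ringKrullDim_quotient, hd] at this
    exact absurd (show (2 : ℕ) ≤ 1 by exact_mod_cast this) (by norm_num)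
  have hPm : P ≠ mh := by
    intro h
    subst h
    have : Nontrivial (Ah ⧸ mh) := Ideal.Quotient.nontrivial_iff.2 (maximalIdeal.isMaximal Ah).ne_top
    have hf : IsField (Ah ⧸ mh) := Ideal.Quotient.maximal_ideal_iff_isField_quotient mh |>.1 (maximalIdeal.isMaximal Ah)
    rw [ringKrullDim_eq_zero_of_isField hf] at hd
    exact zero_ne_one hd
  obtain ⟨e, heP, heo⟩ := VarDim1.exists_notMem_forall_mem_of_ne hP
  obtain ⟨u0, hu0, hu0P⟩ := SetLike.exists_of_lt (lt_of_le_of_ne (le_maximalIdeal (Ideal.IsPrime.ne_top ‹_›)) hPm)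
  let v0 := u0 * e
  have hv0m : v0 ∈ mh := mh.mul_mem_right e hu0
  have hv0P : v0 ∉ P := fun h => (Ideal.IsPrime.mem_or_mem ‹P.IsPrime› h).elim hu0P heP
  have hv0o : ∀ P' ∈ minimalPrimes Ah, P' ≠ P → v0 ∈ P' := fun P' h1 h2 => P'.mul_mem_left u0 (heo P' h1 h2)
  obtain ⟨c, hc⟩ : ∃ c, mh ^ c ≤ Ideal.span {v0} ⊔ P := by
    refine Ideal.exists_pow_le_of_le_radical_of_fg ?_ (IsNoetherian.noetherian mh)
    rw [Ideal.radical_eq_sInf]
    refine le_sInf fun Q hQ => ?_
    have hPQ : P < Q := lt_of_le_of_ne (le_sup_right.trans hQ.1) fun h =>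
      hv0P (h ▸ hQ.1 (Ideal.mem_sup_left (Ideal.mem_span_singleton_self v0)))
    exact (habove Q hQ.2 hPQ).ge
  let q : Ideal A := maximalIdeal A ^ (c + 1)
  have hqmap : q.map (algebraMap A Ah) = mh ^ (c + 1) := by rw [Ideal.map_pow, hmh]
  obtain ⟨y, hy⟩ := Cohen12.exists_sub_mem_pow (A := A) (c + 2) v0
  let D := Ah ⧸ P
  let π : Ah →+* D := Ideal.Quotient.mk P
  have : Nontrivial D := Ideal.Quotient.nontrivial_iff.2 (Ideal.IsPrime.ne_top ‹_›)
  have : IsLocalRing D := IsLocalRing.of_surjective' π Ideal.Quotient.mk_surjective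
  have hπmax : ∀ x ∈ mh, π x ∈ maximalIdeal D := fun x hx h => by
    obtain ⟨x', hx'⟩ := h.exists_right_inv
    obtain ⟨x', rfl⟩ := Ideal.Quotient.mk_surjective x'
    rw [← map_mul, ← map_one π, Ideal.Quotient.eq] at hx'
    have h1 := sub_mem (mh.mul_mem_right x' hx) (le_maximalIdeal (Ideal.IsPrime.ne_top ‹P.IsPrime›) hx')
    exact (mh.ne_top_iff_one.1 (maximalIdeal.isMaximal Ah).ne_top) (by simpa using h1)
  have hdiv : ∀ w ∈ mh ^ (c + 1), ∃ r ∈ maximalIdeal D, π w = π v0 * r := by
    intro w hw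
    rw [pow_succ'] at hw
    induction hw using Submodule.mul_induction_on' with
    | mem_mul_mem a ha b hb =>
      obtain ⟨b1, hb1, b2, hb2, rfl⟩ := Submodule.mem_sup.1 (hc hb)
      obtain ⟨s, rfl⟩ := Ideal.mem_span_singleton'.1 hb1
      refine ⟨π a * π s, Ideal.mul_mem_right _ _ (hπmax a ha), ?_⟩
      rw [map_mul, map_add, map_mul, Ideal.Quotient.eq_zero_iff_mem.2 hb2, add_zero]
      ring
    | add a _ b _ ha hb =>
      obtain ⟨r, hr, hra⟩ := ha
      obtain ⟨s, hs, hsb⟩ := hb
      exact ⟨r + s, add_mem hr hs, by rw [map_add, hra, hsb, mul_add]⟩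
  obtain ⟨yu, hyu, hyeq⟩ : ∃ r : D, IsUnit r ∧ π (algebraMap A Ah y) = π v0 * r := by
    obtain ⟨r, hr, hreq⟩ := hdiv _ (Ideal.pow_le_pow_right (by omega) hy)
    refine ⟨1 + (-r), isUnit_one_add_of_mem (neg_mem hr), ?_⟩
    rw [map_sub] at hreq
    rw [mul_add, mul_one, mul_neg, ← hreq]
    ring
  have hyP : algebraMap A Ah y ∉ P := fun h => hv0P (by
    rw [← Ideal.Quotient.eq_zero_iff_mem] at h ⊢
    exact (hyu.mul_left_eq_zero).1 (hyeq.symm.trans h))
  have hy0 : y ≠ 0 := fun h => hyP (by rw [h, map_zero]; exact P.zero_mem)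
  let K := FractionRing A
  let L := FractionRing D
  have hinjD : Function.Injective (π.comp (algebraMap A Ah)) := by
    rw [injective_iff_map_eq_zero]
    intro a ha
    have : a ∈ P.comap (algebraMap A Ah) := Ideal.mem_comap.2 (Ideal.Quotient.eq_zero_iff_mem.1 ha)
    rwa [hPA, Ideal.mem_bot] at this
  have hinjL : Function.Injective ((algebraMap D L).comp (π.comp (algebraMap A Ah))) :=
    (IsFractionRing.injective D L).comp hinjD
  let ι : K →+* L := IsFractionRing.lift hinjL
  have hιA : ∀ a : A, ι (algebraMap A K a) = algebraMap D L (π (algebraMap A Ah a)) := fun a =>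
    IsFractionRing.lift_algebraMap hinjL a
  obtain ⟨G, hG⟩ := IsNoetherian.noetherian q
  have hyK : algebraMap A K y ≠ 0 := (map_ne_zero_iff _ (IsFractionRing.injective A K)).2 hy0
  let B : Subalgebra A K := Algebra.adjoin A ((fun z => algebraMap A K z / algebraMap A K y) '' (G : Set A))
  have hBft : Algebra.FiniteType A B :=
    ⟨(Subalgebra.fg_top _).2 ⟨G.image fun z => algebraMap A K z / algebraMap A K y, by rw [Finset.coe_image]⟩⟩
  have hqdiv : ∀ z ∈ q, ∃ r ∈ maximalIdeal D, ι (algebraMap A K z / algebraMap A K y) = algebraMap D L r := by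
    intro z hz
    obtain ⟨r, hr, hreq⟩ := hdiv _ (hqmap ▸ Ideal.mem_map_of_mem _ hz)
    obtain ⟨v, hv⟩ := hyu.exists_right_inv
    refine ⟨r * v, Ideal.mul_mem_right _ _ hr, ?_⟩
    rw [map_div₀, hιA, hιA, hreq, hyeq, div_eq_iff, ← map_mul]
    · congr 1
      rw [mul_assoc r v, mul_comm (π v0) yu, ← mul_assoc v, mul_comm v yu, hv, one_mul, mul_comm]
    · rw [← hyeq, map_ne_zero_iff _ (IsFractionRing.injective D L)]
      exact fun h => hyP (Ideal.Quotient.eq_zero_iff_mem.1 h)
  have hrange : ∀ b ∈ B, ∃ r : D, algebraMap D L r = ι b := by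
    intro b hb
    induction hb using Algebra.adjoin_induction with
    | mem x hx =>
      obtain ⟨z, hz, rfl⟩ := hx
      obtain ⟨r, -, hr⟩ := hqdiv z (hG ▸ Submodule.subset_span hz)
      exact ⟨r, hr.symm⟩
    | algebraMap a => exact ⟨_, (hιA a).symm⟩
    | add u v _ _ hu hv => obtain ⟨r, hr⟩ := hu; obtain ⟨s, hs⟩ := hv; exact ⟨r + s, by rw [map_add, map_add, hr, hs]⟩
    | mul u v _ _ hu hv => obtain ⟨r, hr⟩ := hu; obtain ⟨s, hs⟩ := hv; exact ⟨r * s, by rw [map_mul, map_mul, hr, hs]⟩
  choose ψ0 hψ0 using fun b : B => hrange b b.2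
  have hinjDL := IsFractionRing.injective D L
  let ψ : B →ₐ[A] D :=
    { toFun := ψ0
      map_one' := hinjDL (by rw [hψ0, map_one]; exact map_one ι)
      map_mul' := fun u v => hinjDL (by rw [map_mul, hψ0, hψ0, hψ0]; exact map_mul ι _ _)
      map_zero' := hinjDL (by rw [hψ0, map_zero]; exact map_zero ι)
      map_add' := fun u v => hinjDL (by rw [map_add, hψ0, hψ0, hψ0]; exact map_add ι _ _)
      commutes' := fun a => hinjDL (by rw [hψ0]; exact hιA a) }
  have hψy : ψ (algebraMap A B y) = π (algebraMap A Ah y) := ψ.commutes y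
  let M : Ideal B := (maximalIdeal D).comap ψ.toRingHom
  have : M.IsPrime := Ideal.IsPrime.comap _
  have hMA : M.comap (algebraMap A B) = maximalIdeal A := by
    refine ((maximalIdeal.isMaximal A).eq_of_le (Ideal.IsPrime.comap _).ne_top fun a ha => ?_).symm
    rw [Ideal.mem_comap, Ideal.mem_comap]
    show ψ (algebraMap A B a) ∈ maximalIdeal D
    rw [ψ.commutes, show algebraMap A D a = π (algebraMap A Ah a) from rfl]
    exact hπmax _ (hmh ▸ Ideal.mem_map_of_mem _ ha)
  have : M.LiesOver (maximalIdeal A) := ⟨hMA.symm⟩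
  have hMres : ∀ b : B, ∃ a : A, b - algebraMap A B a ∈ M := by
    intro b
    obtain ⟨w, hw⟩ := Ideal.Quotient.mk_surjective (ψ b)
    obtain ⟨a, ha⟩ := Cohen12.exists_sub_mem_pow (A := A) 1 w
    refine ⟨a, ?_⟩
    rw [Ideal.mem_comap]
    show ψ (b - algebraMap A B a) ∈ maximalIdeal D
    rw [map_sub, ψ.commutes, ← hw, show algebraMap A D a = π (algebraMap A Ah a) from rfl, ← map_sub]
    exact hπmax _ (by rw [pow_one] at ha; exact ha)
  -- the dimension formula
  have hMheight : (M.height : Cardinal.{u}) = ((maximalIdeal A).height : Cardinal.{u}) := by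
    have hinjB : Function.Injective (algebraMap A B) := fun a b h =>
      IsFractionRing.injective A K (congrArg Subtype.val h)
    have : FaithfulSMul A B := (faithfulSMul_iff_algebraMap_injective _ _).2 hinjB
    have h := Cyc90.height_add_trdeg_eq A hA B (maximalIdeal A) M
    have : Algebra.IsAlgebraic A K := IsLocalization.isAlgebraic K (nonZeroDivisors A)
    have : Algebra.IsAlgebraic A B := ⟨fun b =>
      (isAlgebraic_algHom_iff B.val Subtype.val_injective).1 (Algebra.IsAlgebraic.isAlgebraic (R := A) (b : K))⟩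
    have : Module.Finite (A ⧸ maximalIdeal A) (B ⧸ M) := Module.Finite.of_surjective
      (Algebra.linearMap (A ⧸ maximalIdeal A) (B ⧸ M)) fun x => by
        obtain ⟨b, rfl⟩ := Ideal.Quotient.mk_surjective x
        obtain ⟨a, ha⟩ := hMres b
        exact ⟨Ideal.Quotient.mk _ a, ((Ideal.Quotient.eq).2 ha).symm⟩
    have : Algebra.IsAlgebraic (A ⧸ maximalIdeal A) (B ⧸ M) := Algebra.IsAlgebraic.of_finite _ _
    rwa [_root_.trdeg_eq_zero, _root_.trdeg_eq_zero, add_zero, add_zero] at h
  -- the completed chart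
  let Bh := B ⊗[A] Ah
  letI iBh : CommRing Bh := Algebra.TensorProduct.instCommRing
  have : IsNoetherianRing (Ah ⊗[A] B) := Algebra.FiniteType.isNoetherianRing Ah _
  have : IsNoetherianRing Bh := isNoetherianRing_of_ringEquiv _ (Algebra.TensorProduct.comm A Ah B).toRingEquiv
  have : IsNoetherianRing B := Algebra.FiniteType.isNoetherianRing A _
  let jR : Ah →ₐ[A] Bh := Algebra.TensorProduct.includeRight
  let πA : Ah →ₐ[A] D := Ideal.Quotient.mkₐ A P
  let ψh : Bh →ₐ[A] D := Algebra.TensorProduct.lift ψ πA fun _ _ => Commute.all _ _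
  have hψhR : ∀ w, ψh (jR w) = π w := fun w => by
    show ψh (1 ⊗ₜ w) = _
    rw [Algebra.TensorProduct.lift_tmul, map_one, one_mul]
    rfl
  let Mh : Ideal Bh := (maximalIdeal D).comap ψh.toRingHom
  have : Mh.IsPrime := Ideal.IsPrime.comap _
  have hMhM : Mh.comap (algebraMap B Bh) = M := by
    ext b
    rw [Ideal.mem_comap, Ideal.mem_comap, Ideal.mem_comap]
    show ψh (b ⊗ₜ 1) ∈ _ ↔ ψ b ∈ _
    rw [Algebra.TensorProduct.lift_tmul, map_one, mul_one]
  let Y : Bh := algebraMap A Bh y
  have hYR : jR (algebraMap A Ah y) = Y := jR.commutes y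
  let K0 : Ideal Bh := RingHom.ker ψh.toRingHom
  have hψY : ψh Y = π (algebraMap A Ah y) := by rw [← hYR, hψhR]
  have hpow : ∀ x : Bh, ∃ (k : ℕ) (w : Ah), Y ^ k * x = jR w := by
    have hB : ∀ b ∈ B, ∃ (k : ℕ) (a : A), algebraMap A K y ^ k * b = algebraMap A K a := by
      intro b hb
      induction hb using Algebra.adjoin_induction with
      | mem x hx =>
        obtain ⟨z, -, rfl⟩ := hx
        exact ⟨1, z, by rw [pow_one, mul_div_cancel₀ _ hyK]⟩
      | algebraMap a => exact ⟨0, a, by rw [pow_zero, one_mul]⟩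
      | add u v _ _ hu hv =>
        obtain ⟨i, a, ha⟩ := hu; obtain ⟨j, b, hb⟩ := hv
        refine ⟨i + j, y ^ j * a + y ^ i * b, ?_⟩
        rw [map_add, map_mul, map_mul, map_pow, map_pow, ← ha, ← hb]; ring
      | mul u v _ _ hu hv =>
        obtain ⟨i, a, ha⟩ := hu; obtain ⟨j, b, hb⟩ := hv
        exact ⟨i + j, a * b, by rw [map_mul, ← ha, ← hb]; ring⟩
    intro x
    induction x using TensorProduct.induction_on with
    | zero => exact ⟨0, 0, by rw [mul_zero, map_zero]⟩
    | tmul b w =>
      obtain ⟨k, a, ha⟩ := hB b b.2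
      have hba : algebraMap A B y ^ k * b = algebraMap A B a := Subtype.ext (by simpa using ha)
      refine ⟨k, algebraMap A Ah a * w, ?_⟩
      rw [show Y ^ k = ((algebraMap A B y ^ k) ⊗ₜ[A] (1 : Ah) : Bh) by
        rw [show Y = algebraMap A Bh y from rfl, Algebra.TensorProduct.algebraMap_apply, Algebra.TensorProduct.tmul_pow, one_pow],
        Algebra.TensorProduct.tmul_mul_tmul, one_mul, hba, map_mul, jR.commutes,
        Algebra.TensorProduct.algebraMap_apply]
      show _ = (algebraMap A B a ⊗ₜ[A] (1 : Ah)) * ((1 : B) ⊗ₜ[A] w)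
      rw [Algebra.TensorProduct.tmul_mul_tmul, mul_one, one_mul]
    | add u v hu hv =>
      obtain ⟨i, a, ha⟩ := hu; obtain ⟨j, b, hb⟩ := hv
      refine ⟨i + j, algebraMap A Ah y ^ j * a + algebraMap A Ah y ^ i * b, ?_⟩
      rw [map_add, map_mul, map_mul, map_pow, map_pow, hYR, ← ha, ← hb]; ring
  have hYreg : Y ∈ nonZeroDivisors Bh := by
    have h0 : algebraMap A B y ≠ 0 := fun h => hyK (congrArg Subtype.val h)
    have h1 : IsSMulRegular Bh (algebraMap B Bh (algebraMap A B y)) := (IsSMulRegular.of_ne_zero h0).of_flat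
    rw [← IsScalarTower.algebraMap_apply A B Bh] at h1
    exact mem_nonZeroDivisors_iff_left.2 fun x hx => h1 (by simpa using hx)
  -- elements of `m q` are multiples of `y` by elements of the maximal ideal of the chart
  have hqM : ∀ w ∈ mh ^ (c + 2), ∃ μ ∈ Mh, jR w = Y * μ := by
    intro w hw
    rw [show c + 2 = 1 + (c + 1) by omega, pow_add, pow_one, ← hqmap] at hw
    induction hw using Submodule.mul_induction_on' with
    | mem_mul_mem a ha b hb =>
      have haM : jR a ∈ Mh := by
        rw [Ideal.mem_comap]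
        show ψh (jR a) ∈ _
        rw [hψhR]; exact hπmax a ha
      have hb' : ∃ β : Bh, jR b = Y * β := by
        induction hb using Submodule.span_induction with
        | mem b hb =>
          obtain ⟨z, hz, rfl⟩ := hb
          have hzB : algebraMap A K z / algebraMap A K y ∈ B := by
            rw [SetLike.mem_coe, ← hG] at hz
            induction hz using Submodule.span_induction with
            | mem z hz => exact Algebra.subset_adjoin ⟨z, hz, rfl⟩
            | zero => simp
            | add u v _ _ hu hv => rw [map_add, add_div]; exact add_mem hu hv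
            | smul r u _ hu =>
              rw [smul_eq_mul, map_mul, mul_div_assoc]; exact mul_mem (B.algebraMap_mem r) hu
          refine ⟨algebraMap B Bh ⟨_, hzB⟩, ?_⟩
          rw [jR.commutes, show Y = algebraMap A Bh y from rfl, IsScalarTower.algebraMap_apply A B Bh,
            IsScalarTower.algebraMap_apply A B Bh, ← map_mul]
          congr 1
          exact Subtype.ext (mul_div_cancel₀ _ hyK).symm
        | zero => exact ⟨0, by rw [map_zero, mul_zero]⟩
        | add u v _ _ hu hv =>
          obtain ⟨r, hr⟩ := hu; obtain ⟨s, hs⟩ := hv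
          exact ⟨r + s, by rw [map_add, hr, hs, mul_add]⟩
        | smul r u _ hu =>
          obtain ⟨s, hs⟩ := hu
          exact ⟨jR r * s, by rw [smul_eq_mul, map_mul, hs]; ring⟩
      obtain ⟨β, hβ⟩ := hb'
      exact ⟨jR a * β, Mh.mul_mem_right β haM, by rw [map_mul, hβ]; ring⟩
    | add a _ b _ ha hb =>
      obtain ⟨μ, hμ, hμa⟩ := ha
      obtain ⟨ν, hν, hνb⟩ := hb
      exact ⟨μ + ν, add_mem hμ hν, by rw [map_add, hμa, hνb, mul_add]⟩
  -- the only minimal prime below the maximal ideal
  have hmin : ∀ R ∈ minimalPrimes Bh, R ≤ Mh → R = K0 := by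
    intro R hR hRM
    have := hR.1.1
    have hYR' : Y ∉ R := fun h => Set.disjoint_left.1 (Ideal.disjoint_nonZeroDivisors_of_mem_minimalPrimes hR) h hYreg
    let R0 := R.comap jR.toRingHom
    have : R0.IsPrime := Ideal.IsPrime.comap _
    obtain ⟨P', hP', hP'R⟩ := Ideal.exists_minimalPrimes_le (I := (⊥ : Ideal Ah)) (J := R0) bot_le
    have hP'P : P' = P := by
      by_contra hne
      have hv : jR v0 ∈ R := hP'R (hv0o P' hP' hne)
      obtain ⟨μ, hμ, hμeq⟩ := hqM _ hy
      rw [map_sub, hYR] at hμeq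
      have h1 : Y * (1 + μ) ∈ R := by
        rw [mul_add, mul_one, ← hμeq]
        simpa using hv
      have h2 := hRM ((Ideal.IsPrime.mem_or_mem ‹R.IsPrime› h1).resolve_left hYR')
      exact Mh.ne_top_iff_one.1 (Ideal.IsPrime.ne_top ‹_›) (by simpa using sub_mem h2 hμ)
    have hR0 : R0 = P := by
      rcases (hP'P ▸ hP'R : P ≤ R0).eq_or_lt with h | h
      · exact h.symm
      · have := habove R0 ‹_› h
        exfalso
        apply hYR'
        rw [← hYR]
        show algebraMap A Ah y ∈ R0
        rw [this]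
        have hv : algebraMap A Ah y = v0 - (v0 - algebraMap A Ah y) := by ring
        rw [hv]
        exact sub_mem hv0m (Ideal.pow_le_self (by omega) hy)
    ext x
    obtain ⟨k, w, hkw⟩ := hpow x
    have h1 : x ∈ R ↔ w ∈ P := by
      rw [← hR0]
      show _ ↔ jR w ∈ R
      rw [← hkw]
      exact ⟨fun h => R.mul_mem_left _ h, fun h =>
        (Ideal.IsPrime.mem_or_mem ‹R.IsPrime› h).resolve_left fun h' =>
          hYR' (Ideal.IsPrime.mem_of_pow_mem ‹R.IsPrime› k h')⟩
    have h2 : x ∈ K0 ↔ w ∈ P := by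
      rw [RingHom.mem_ker, ← Ideal.Quotient.eq_zero_iff_mem, show Ideal.Quotient.mk P w = ψh (jR w) from (hψhR w).symm,
        ← hkw, map_mul, map_pow, hψY, mul_eq_zero]
      exact ⟨fun h => Or.inr h, fun h => h.resolve_left fun h' =>
        hyP (Ideal.Quotient.eq_zero_iff_mem.1 (eq_zero_of_pow_eq_zero h'))⟩
    rw [h1, h2]
  have hψsurj : Function.Surjective ψh := fun r => by
    obtain ⟨w, rfl⟩ := Ideal.Quotient.mk_surjective r
    exact ⟨jR w, hψhR w⟩
  have hMh1 : Mh.height ≤ 1 := by
    rw [← Nat.cast_one, Ideal.height_le_iff]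
    intro R hR hRM
    obtain ⟨R1, hR1, hR1R⟩ := Ideal.exists_minimalPrimes_le (I := (⊥ : Ideal Bh)) (J := R) bot_le
    have hK0 := hmin R1 hR1 (hR1R.trans hRM.le)
    have hR' : R = R1 := by
      by_contra hne
      have hK0R : K0 ≤ R := hK0 ▸ hR1R
      let R' := R.map ψh.toRingHom
      have : R'.IsPrime := Ideal.map_isPrime_of_surjective hψsurj hK0R
      have hR'c : R'.comap ψh.toRingHom = R := by
        rw [Ideal.comap_map_of_surjective ψh.toRingHom hψsurj, sup_eq_left]
        exact hK0R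
      let R'' := R'.comap π
      have hPR : P < R'' := by
        refine lt_of_le_of_ne (fun w hw => ?_) fun h => hne ?_
        · rw [Ideal.mem_comap, Ideal.Quotient.eq_zero_iff_mem.2 hw]; exact R'.zero_mem
        · have h0 : R' = ⊥ := by
            rw [← Ideal.map_comap_of_surjective π Ideal.Quotient.mk_surjective R', show R'.comap π = P from h.symm,
              Ideal.map_quotient_self]
          rw [← hR'c, h0, ← RingHom.ker_eq_comap_bot, hK0]
      have h1 := habove R'' (Ideal.IsPrime.comap _) hPR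
      have h2 : R' = maximalIdeal D := by
        refine le_antisymm (le_maximalIdeal (Ideal.IsPrime.ne_top ‹_›)) fun r hr => ?_
        obtain ⟨w, rfl⟩ := Ideal.Quotient.mk_surjective r
        show w ∈ R''
        rw [h1]
        by_contra hw
        exact hr (((IsLocalRing.notMem_maximalIdeal).1 hw).map π)
      exact hRM.ne (by rw [← hR'c, h2])
    have := hR1.1.1
    rw [hR', Ideal.height_eq_zero_iff.2 hR1]
    exact zero_lt_one
  have : Mh.LiesOver M := ⟨hMhM.symm⟩
  have hM1 : M.height ≤ 1 := le_trans (le_trans le_self_add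
    (Ideal.height_eq_height_add_of_liesOver_of_hasGoingDown M Mh).ge) hMh1
  rw [← maximalIdeal_height_eq_ringKrullDim]
  have hA1 : (maximalIdeal A).height ≤ 1 := by
    rw [← Cardinal.ofENat_inj.1 hMheight]
    exact hM1
  exact WithBot.coe_le_coe.2 hA1

set_option maxHeartbeats 1600000 in
/-- the inductive step: components of dimension at least two -/
theorem isFormallyEquidim_of_quotients (A : Type u) [CommRing A] [IsDomain A] [IsLocalRing A] [IsNoetherianRing A]
    (hA : CAlg.IsUniversallyCatenary A)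
    (hq : ∀ (q : Ideal A) [q.IsPrime], q ≠ ⊥ → EGA4.IsFormallyEquidim (A ⧸ q)) : EGA4.IsFormallyEquidim A := by
  classical
  let Ah := EGA4.Cpl A
  have : IsNoetherianRing Ah := Cohen12.isNoetherianRing_completion (A := A)
  have : IsAdicComplete (maximalIdeal Ah) Ah := Cohen12.isAdicComplete_completion (A := A)
  have : Module.Flat A Ah := inferInstanceAs (Module.Flat A (AdicCompletion (maximalIdeal A) A))
  let mh := maximalIdeal Ah
  intro P hP
  have := hP.1.1
  have : Nontrivial (Ah ⧸ P) := Ideal.Quotient.nontrivial_iff.2 (Ideal.IsPrime.ne_top ‹_›)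
  have : IsLocalRing (Ah ⧸ P) := IsLocalRing.of_surjective' (Ideal.Quotient.mk P) Ideal.Quotient.mk_surjective
  obtain ⟨d, hd⟩ : ∃ d : ℕ, ringKrullDim (Ah ⧸ P) = d := by
    obtain ⟨n, hn⟩ := ENat.ne_top_iff_exists.mp (Ideal.height_ne_top (I := maximalIdeal (Ah ⧸ P)) (maximalIdeal.isMaximal _).ne_top)
    exact ⟨n, by rw [← maximalIdeal_height_eq_ringKrullDim, ← hn]; rfl⟩
  obtain ⟨n, hn⟩ : ∃ n : ℕ, ringKrullDim A = n := by
    obtain ⟨n, hn⟩ := ENat.ne_top_iff_exists.mp (Ideal.height_ne_top (I := maximalIdeal A) (maximalIdeal.isMaximal _).ne_top)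
    exact ⟨n, by rw [← maximalIdeal_height_eq_ringKrullDim, ← hn]; rfl⟩
  rw [ringKrullDim_cpl, hn, hd]
  have hdn : d ≤ n := by
    have := ringKrullDim_le_of_surjective (Ideal.Quotient.mk P) Ideal.Quotient.mk_surjective
    rw [hd, ringKrullDim_cpl, hn] at this
    exact_mod_cast this
  suffices d = n by rw [this]
  rcases Nat.lt_or_ge d 2 with hd2 | hd2
  · interval_cases d
    · have h0 : Ring.KrullDimLE 0 (Ah ⧸ P) := Ring.krullDimLE_iff.2 (by rw [hd])
      have hPm : P = mh := by
        have h1 : (⊥ : Ideal (Ah ⧸ P)).IsMaximal :=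
          Ring.krullDimLE_zero_iff.1 h0 ⊥ Ideal.isPrime_bot
        have h2 : (Ah ⧸ P) ≃+* (Ah ⧸ P) := RingEquiv.refl _
        have h3 : P.IsMaximal := by
          have := Ideal.comap_isMaximal_of_surjective (K := (⊥ : Ideal (Ah ⧸ P))) (Ideal.Quotient.mk P) Ideal.Quotient.mk_surjective
          rwa [← RingHom.ker_eq_comap_bot, Ideal.mk_ker] at this
        exact eq_maximalIdeal h3
      have h4 : mh.height = 0 := hPm ▸ Ideal.height_eq_zero_iff.2 hP
      have h5 := maximalIdeal_height_eq_ringKrullDim (R := Ah)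
      rw [show (maximalIdeal Ah).height = 0 from h4, ringKrullDim_cpl, hn] at h5
      exact_mod_cast h5
    · have := dim_le_one_of_component A hA P hP (by rw [hd]; rfl)
      rw [hn] at this
      have : n ≤ 1 := by exact_mod_cast this
      omega
  · -- primes of height one in the component which lie on another one
    let W : Set (Ideal Ah) := ⋃ P' ∈ {P' ∈ minimalPrimes Ah | P' ≠ P}, (P ⊔ P').minimalPrimes
    have hWfin : W.Finite := Set.Finite.biUnion
      ((minimalPrimes.finite_of_isNoetherianRing Ah).subset fun _ h => h.1)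
      fun P' _ => Ideal.finite_minimalPrimes_of_isNoetherianRing Ah _
    let W' : Set (Ideal A) := insert ⊥ ((Ideal.comap (algebraMap A Ah)) '' {Q ∈ W | Q ≠ mh})
    have hW'fin : W'.Finite := Set.Finite.insert _ ((hWfin.subset fun _ h => h.1).image _)
    have hA0 : maximalIdeal A ≠ ⊥ := fun h => by
      have h5 := maximalIdeal_height_eq_ringKrullDim (R := A)
      rw [hn, h, Ideal.height_bot] at h5
      have : (0 : ℕ) = n := by exact_mod_cast h5
      omega
    have hWp : ∀ w ∈ W', w.IsPrime ∧ ¬ maximalIdeal A ≤ w := by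
      rintro w (rfl | ⟨Q, ⟨hQW, hQm⟩, rfl⟩)
      · exact ⟨Ideal.isPrime_bot, fun h => hA0 (le_bot_iff.1 h)⟩
      · have hQp : Q.IsPrime := by
          obtain ⟨P', hP', hQ⟩ := Set.mem_iUnion₂.1 hQW
          exact hQ.1.1
        refine ⟨Ideal.IsPrime.comap _, fun h => hQm (le_antisymm (le_maximalIdeal hQp.ne_top) ?_)⟩
        rw [show mh = (maximalIdeal A).map (algebraMap A Ah) from AdicCompletion.maximalIdeal_eq_map]
        exact Ideal.map_le_iff_le_comap.2 h
    obtain ⟨a, ham, haW⟩ : ∃ a ∈ maximalIdeal A, ∀ w ∈ W', a ∉ w := by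
      by_contra H
      push Not at H
      have hsub : (maximalIdeal A : Set A) ⊆ ⋃ w ∈ (hW'fin.toFinset : Set (Ideal A)), (w : Set A) := fun a ha => by
        obtain ⟨w, hw, haw⟩ := H a ha
        exact Set.mem_iUnion₂.2 ⟨w, hW'fin.mem_toFinset.2 hw, haw⟩
      obtain ⟨w, hw, hle⟩ := (Ideal.subset_union_prime (f := id) ⊥ ⊥ fun w hw _ _ =>
        (hWp w (hW'fin.mem_toFinset.1 hw)).1).1 hsub
      exact (hWp w (hW'fin.mem_toFinset.1 hw)).2 hle
    let ā := algebraMap A Ah a
    obtain ⟨Q', hQ'⟩ := Ideal.nonempty_minimalPrimes (I := P ⊔ Ideal.span {ā}) (fun h => by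
      have hle : P ⊔ Ideal.span {ā} ≤ mh := sup_le (le_maximalIdeal (Ideal.IsPrime.ne_top ‹_›))
        ((Ideal.span_singleton_le_iff_mem _).2 (by
          rw [show mh = (maximalIdeal A).map (algebraMap A Ah) from AdicCompletion.maximalIdeal_eq_map]
          exact Ideal.mem_map_of_mem _ ham))
      exact (maximalIdeal.isMaximal Ah).ne_top (top_le_iff.1 (h ▸ hle)))
    have := hQ'.1.1
    have hPQ' : P ≤ Q' := le_sup_left.trans hQ'.1.2
    have haQ' : ā ∈ Q' := hQ'.1.2 (Ideal.mem_sup_right (Ideal.mem_span_singleton_self _))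
    let f := Ideal.Quotient.mk P
    have hcomap : ∀ Q : Ideal Ah, P ≤ Q → (Q.map f).comap f = Q := fun Q h => by
      rw [Ideal.comap_map_quotientMk, sup_eq_right.2 h]
    have : (Q'.map f).IsPrime := Ideal.isPrime_map_quotientMk_of_isPrime hPQ'
    have hQ'1 : (Q'.map f).height ≤ 1 := by
      refine Ideal.height_le_one_of_isPrincipal_of_mem_minimalPrimes (Ideal.span {f ā}) _ ⟨⟨inferInstance, ?_⟩, fun S hS hle => ?_⟩
      · exact (Ideal.span_singleton_le_iff_mem _).2 (Ideal.mem_map_of_mem _ haQ')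
      · have := hS.1
        refine Ideal.map_le_iff_le_comap.2 (hQ'.2 ⟨Ideal.IsPrime.comap _, sup_le (fun w hw => ?_) ?_⟩ ?_)
        · rw [Ideal.mem_comap, Ideal.Quotient.eq_zero_iff_mem.2 hw]; exact S.zero_mem
        · exact (Ideal.span_singleton_le_iff_mem _).2 (hS.2 (Ideal.mem_span_singleton_self _))
        · exact (Ideal.comap_mono hle).trans (hcomap Q' hPQ').le
    have hA0' : a ≠ 0 := fun h => haW ⊥ (Set.mem_insert _ _) (by rw [h]; exact zero_mem _)
    have hQ'm : Q' ≠ mh := by
      intro h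
      have h1 : maximalIdeal (Ah ⧸ P) = Q'.map f := by
        have : Q'.IsMaximal := h ▸ maximalIdeal.isMaximal Ah
        exact (eq_maximalIdeal (Ideal.IsMaximal.map_of_surjective_of_ker_le Ideal.Quotient.mk_surjective
          (by rw [Ideal.mk_ker]; exact hPQ'))).symm
      have h2 := maximalIdeal_height_eq_ringKrullDim (R := Ah ⧸ P)
      rw [h1, hd] at h2
      have h3 : ((d : ℕ∞) : WithBot ℕ∞) ≤ ((1 : ℕ∞) : WithBot ℕ∞) := by
        rw [show ((d : ℕ∞) : WithBot ℕ∞) = (d : WithBot ℕ∞) from rfl, ← h2]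
        exact WithBot.coe_le_coe.2 hQ'1
      have : d ≤ 1 := by exact_mod_cast h3
      omega
    -- `Q'` lies on no other component
    have honly : ∀ P' ∈ minimalPrimes Ah, P' ≤ Q' → P' = P := by
      intro P' hP' hle
      by_contra hne
      obtain ⟨Q, hQ, hQle⟩ := Ideal.exists_minimalPrimes_le (I := P ⊔ P') (J := Q') (sup_le hPQ' hle)
      have := hQ.1.1
      have hPQ : P < Q := lt_of_le_of_ne (le_sup_left.trans hQ.1.2) fun h =>
        hne (le_antisymm (h ▸ le_sup_right.trans hQ.1.2) (hP.2 ⟨hP'.1.1, bot_le⟩ (h ▸ le_sup_right.trans hQ.1.2)))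
      have hQQ' : Q = Q' := by
        rcases hQle.eq_or_lt with h | h
        · exact h
        exfalso
        have : (Q.map f).IsPrime := Ideal.isPrime_map_quotientMk_of_isPrime hPQ.le
        have h1 : Q.map f < Q'.map f := lt_of_le_of_ne (Ideal.map_mono hQle) fun he => h.ne (by
          rw [← hcomap Q hPQ.le, he, hcomap Q' hPQ'])
        have h2 := (Ideal.height_strict_mono_of_isPrime h1).trans_le hQ'1
        rw [Order.lt_one_iff, Ideal.height_eq_zero_iff_eq_bot, Ideal.map_eq_bot_iff_le_ker, Ideal.mk_ker] at h2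
        exact hPQ.not_ge h2
      refine haW (Q'.comap (algebraMap A Ah)) (Or.inr ⟨Q', ⟨?_, hQ'm⟩, rfl⟩) haQ'
      exact Set.mem_iUnion₂.2 ⟨P', ⟨hP', hne⟩, hQQ' ▸ hQ⟩
    let q := Q'.comap (algebraMap A Ah)
    obtain ⟨Q2, hQ2p, hQ2le, hQ2c, hQ2min, hQ2h⟩ := exists_minimal_over (A := A) (A' := Ah) q q le_rfl Q' rfl
    have hPQ2 : P ≤ Q2 := by
      obtain ⟨P', hP', hle⟩ := Ideal.exists_minimalPrimes_le (I := (⊥ : Ideal Ah)) (J := Q2) bot_le
      exact honly P' hP' (hle.trans hQ2le) ▸ hle
    have hq0 : q ≠ ⊥ := fun h => hA0' (by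
      have : a ∈ q := haQ'
      rwa [h, Ideal.mem_bot] at this)
    -- dimensions in `A` and in the component
    have hcatA : CoverSucc A := coverSucc_of_catenary_equidim (isCatenary_of_universallyCatenary hA) (isEquidim_of_isDomain A)
    have hcatP : CoverSucc (Ah ⧸ P) := coverSucc_of_catenary_equidim
      (isCatenary_of_universallyCatenary (Ega11.UCDim.isUniversallyCatenary_of_surjective f Ideal.Quotient.mk_surjective
        (isUniversallyCatenary_cpl A))) (isEquidim_of_isDomain _)
    have : (Q2.map f).IsPrime := Ideal.isPrime_map_quotientMk_of_isPrime hPQ2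
    have e1 := dim_quotient_add_height hcatP (Q2.map f)
    have e2 := dim_quotient_add_height hcatA q
    rw [← dim_quotient_comap f Ideal.Quotient.mk_surjective, hcomap Q2 hPQ2, hd] at e1
    rw [hn] at e2
    have hheight : (Q2.map f).height = Q2.height := by
      refine le_antisymm ?_ ?_
      · show (⟨Q2.map f, inferInstance⟩ : PrimeSpectrum (Ah ⧸ P)).asIdeal.height ≤ (⟨Q2, hQ2p⟩ : PrimeSpectrum Ah).asIdeal.height
        rw [PrimeSpectrum.height_eq_orderHeight, PrimeSpectrum.height_eq_orderHeight]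
        refine Order.height_le fun l hl => ?_
        let l' : LTSeries (PrimeSpectrum Ah) := l.map (PrimeSpectrum.comap f)
          (Monotone.strictMono_of_injective (fun _ _ h => Ideal.comap_mono h) (PrimeSpectrum.comap_injective_of_surjective f Ideal.Quotient.mk_surjective))
        refine le_trans (le_of_eq rfl) (Order.length_le_height (p := l') ?_)
        show (PrimeSpectrum.comap f l.last).asIdeal ≤ Q2
        rw [hl]
        exact (hcomap Q2 hPQ2).le
      · show (⟨Q2, hQ2p⟩ : PrimeSpectrum Ah).asIdeal.height ≤ (⟨Q2.map f, inferInstance⟩ : PrimeSpectrum (Ah ⧸ P)).asIdeal.height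
        rw [PrimeSpectrum.height_eq_orderHeight, PrimeSpectrum.height_eq_orderHeight]
        refine Order.height_le fun l hl => ?_
        have hle : ∀ i, P ≤ (l i).asIdeal := fun i => by
          obtain ⟨P', hP', hP'le⟩ := Ideal.exists_minimalPrimes_le (I := (⊥ : Ideal Ah)) (J := (l i).asIdeal) bot_le
          have h1 : (l i).asIdeal ≤ Q2 := (show (l i).asIdeal ≤ l.last.asIdeal from l.monotone (Fin.le_last i)).trans
            (by rw [hl])
          exact honly P' hP' ((hP'le.trans h1).trans hQ2le) ▸ hP'le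
        let l' : LTSeries (PrimeSpectrum (Ah ⧸ P)) :=
          ⟨l.length, fun i => ⟨(l i).asIdeal.map f, Ideal.isPrime_map_quotientMk_of_isPrime (hle i)⟩, fun i =>
            lt_of_le_of_ne (show _ ≤ _ from Ideal.map_mono (l.step i).le) fun he => (l.step i).ne (PrimeSpectrum.ext (by
              have := congrArg (Ideal.comap f) he
              simpa only [hcomap _ (hle _)] using this))⟩
        refine Order.length_le_height (p := l') ?_
        show (l.last.asIdeal).map f ≤ Q2.map f
        rw [hl]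
    have hdim : ringKrullDim (Ah ⧸ Q2) = ringKrullDim (A ⧸ q) := by
      have : Nontrivial (A ⧸ q) := Ideal.Quotient.nontrivial_iff.2 (Ideal.IsPrime.ne_top inferInstance)
      have : IsLocalRing (A ⧸ q) := IsLocalRing.of_surjective' (Ideal.Quotient.mk q) Ideal.Quotient.mk_surjective
      let e := (Ideal.quotEquivOfEq (congrArg (Ideal.map (algebraMap A Ah)) (Ideal.mk_ker (I := q)).symm)).trans
        (cplQuotEquiv A (A ⧸ q) Ideal.Quotient.mk_surjective)
      let I := q.map (algebraMap A Ah)
      have hEq : EGA4.IsEquidim (Ah ⧸ I) := isEquidim_of_ringEquiv e.symm (hq q hq0)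
      have hIQ : I ≤ Q2 := hQ2min.1.2
      have hmem : Q2.map (Ideal.Quotient.mk I) ∈ minimalPrimes (Ah ⧸ I) := by
        have h1 : Q2 ∈ (Ideal.comap (Ideal.Quotient.mk I)) '' minimalPrimes (Ah ⧸ I) :=
          Ideal.minimalPrimes_eq_comap (I := I) ▸ hQ2min
        obtain ⟨Q3, hQ3, rfl⟩ := h1
        rwa [Ideal.map_comap_of_surjective _ Ideal.Quotient.mk_surjective]
      have h3 := hEq _ hmem
      rw [← dim_quotient_comap (Ideal.Quotient.mk I) Ideal.Quotient.mk_surjective, Ideal.comap_map_quotientMk,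
        sup_eq_right.2 hIQ] at h3
      rw [h3, ringKrullDim_eq_of_ringEquiv e, ringKrullDim_cpl]
    rw [hheight, hQ2h, hdim] at e1
    exact_mod_cast (e1.symm.trans e2)

theorem isFormallyCatenary_of_universallyCatenary (A : Type u) [CommRing A] [IsLocalRing A] [IsNoetherianRing A]
    (hA : CAlg.IsUniversallyCatenary A) : EGA4.IsFormallyCatenary A := by
  intro p
  induction p using WellFoundedGT.induction with
  | ind p ih =>
  intro hp
  refine isFormallyEquidim_of_quotients (A ⧸ p)
    (Ega11.UCDim.isUniversallyCatenary_of_surjective (Ideal.Quotient.mk p) Ideal.Quotient.mk_surjective hA)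
    fun q _ hq0 => ?_
  let p' := q.comap (Ideal.Quotient.mk p)
  have hlt : p < p' := lt_of_le_of_ne (fun x hx => by
      rw [Ideal.mem_comap, Ideal.Quotient.eq_zero_iff_mem.2 hx]; exact q.zero_mem) fun h => hq0 (by
    rw [← Ideal.map_comap_of_surjective _ Ideal.Quotient.mk_surjective q, show q.comap (Ideal.Quotient.mk p) = p from h.symm,
      Ideal.map_quotient_self])
  have : p'.IsPrime := Ideal.IsPrime.comap _
  have h := ih p' hlt
  let g : A →+* (A ⧸ p) ⧸ q := (Ideal.Quotient.mk q).comp (Ideal.Quotient.mk p)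
  have hg : Function.Surjective g := Ideal.Quotient.mk_surjective.comp Ideal.Quotient.mk_surjective
  have hk : p' = RingHom.ker g := by rw [← RingHom.comap_ker, Ideal.mk_ker]
  exact isFormallyEquidim_of_ringEquiv ((Ideal.quotEquivOfEq hk).trans (RingHom.quotientKerEquivOfSurjective hg)) h

end Groth.Agent.EGA4H10
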