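import Groth.Prelude.Def_EGA4b
import Mathlib.RingTheory.Localization.LocalizationLocalization
import Mathlib.RingTheory.Localization.AtPrime.Basic
import Mathlib.RingTheory.Ideal.Height
import Mathlib.RingTheory.Ideal.MinimalPrime.Noetherian
import Mathlib.RingTheory.Spectrum.Prime.Noetherian

set_option autoImplicit false
universe u

namespace Groth.Agent.EGA4H10

theorem isOpen_of_upward {A : Type u} [CommRing A] (S : Set (PrimeSpectrum A)) (hS : S.Finite) :
    IsOpen {p : PrimeSpectrum A | ∀ q ∈ S, ¬ q ≤ p} := by
  have : {p : PrimeSpectrum A | ∀ q ∈ S, ¬ q ≤ p} =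
      ⋂ q ∈ S, (PrimeSpectrum.zeroLocus (q.asIdeal : Set A))ᶜ := by
    ext p; simp [PrimeSpectrum.mem_zeroLocus, SetLike.coe_subset_coe]
  rw [this]
  exact hS.isOpen_biInter fun q _ => (PrimeSpectrum.isClosed_zeroLocus _).isOpen_compl

theorem hasRkAt_iff {A : Type u} [CommRing A] (n : ℕ) (p : Ideal A) [p.IsPrime] :
    EGA4.HasRkAt n A p ↔ ∀ q : PrimeSpectrum A, q.asIdeal ≤ p → q.asIdeal.height ≤ n → q ∈ EGA4.regLocus A := by
  constructor
  · intro h q hq hht
    let P := q.asIdeal.map (algebraMap A (Localization.AtPrime p))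
    have hP : P.IsPrime := Ideal.isPrime_map_of_isLocalizationAtPrime p hq
    have hcomap : P.comap (algebraMap A (Localization.AtPrime p)) = q.asIdeal :=
      Ideal.under_map_of_isLocalizationAtPrime p hq
    have hh : P.height ≤ n := by
      rw [← IsLocalization.height_under p.primeCompl P, Ideal.under_def, hcomap]; exact hht
    have := h P hh
    have e := IsLocalization.localizationLocalizationAtPrimeIsoLocalization p.primeCompl P
    have e' := IsRegularLocalRing.of_ringEquiv e.symm.toRingEquiv
    simp only [EGA4.regLocus, Set.mem_ofPred_eq]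
    convert e' <;> exact hcomap.symm
  · intro h P _ hh
    let q : PrimeSpectrum A := ⟨P.comap (algebraMap A (Localization.AtPrime p)), inferInstance⟩
    have hq : q.asIdeal ≤ p := by
      intro x hx
      by_contra hxp
      exact Ideal.IsPrime.ne_top ‹P.IsPrime› (P.eq_top_of_isUnit_mem hx (IsLocalization.map_units _ (⟨x, hxp⟩ : p.primeCompl)))
    have hht : q.asIdeal.height ≤ n := by
      simp only [q]; rw [← Ideal.under_def, IsLocalization.height_under p.primeCompl P]; exact hh
    have := h q hq hht
    simp only [EGA4.regLocus, Set.mem_ofPred_eq] at this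
    exact IsRegularLocalRing.of_ringEquiv (IsLocalization.localizationLocalizationAtPrimeIsoLocalization p.primeCompl P).toRingEquiv

end Groth.Agent.EGA4H10
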