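import Groth.Agent.EGA4H10.FlatSk
import Groth.Agent.EGA4H10.RkLocus
import Groth.Agent.CAlg1.SerreNormal
import Groth.Agent.S2609
import Groth.Agent.S2608
import Mathlib

/-!
# Normality along flat maps with normal fibres
-/

set_option autoImplicit false
universe u
open IsLocalRing
open Groth.Agent.EGA4Alg4

namespace Groth.Agent.EGA4H10

/-- `(S_k)` only depends on the module up to isomorphism -/
theorem hasSk_congr {R : Type u} [CommRing R] [IsNoetherianRing R] {M N : Type u} [AddCommGroup M] [Module R M]
    [Module.Finite R M] [AddCommGroup N] [Module R N] (e : M ≃ₗ[R] N) (k : ℕ)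
    (h : LocCoh.HasSk k R M) : LocCoh.HasSk k R N := by
  intro p _
  have : Module.Finite R N := Module.Finite.equiv e
  have h1 : EGA4.HasSkAt k R M p := by rw [hasSkAt_iff]; intro q _; exact h q.asIdeal
  have h2 := hasSkAt_congr e k p h1
  rw [hasSkAt_iff] at h2
  exact h2 ⟨p, inferInstance⟩ le_rfl

/-- an integrally closed domain is normal at all primes -/
theorem normal_of_domain (R : Type u) [CommRing R] [IsDomain R] [IsIntegrallyClosed R] :
    EGA4.IsNormalRing R := fun p _ =>
  ⟨IsLocalization.isDomain_localization p.primeCompl_le_nonZeroDivisors,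
    isIntegrallyClosed_of_isLocalization _ p.primeCompl p.primeCompl_le_nonZeroDivisors⟩

/-- a local ring with normal localizations is a normal domain -/
theorem domain_of_normal_local (R : Type u) [CommRing R] [IsLocalRing R] (h : EGA4.IsNormalRing R) :
    IsDomain R ∧ IsIntegrallyClosed R := by
  obtain ⟨hd, hi⟩ := h (maximalIdeal R)
  let e := IsLocalization.atUnits R (maximalIdeal R).primeCompl (S := Localization.AtPrime (maximalIdeal R))
    (fun x hx => by
      have h2 : x ∉ maximalIdeal R := hx
      rw [mem_maximalIdeal, mem_nonunits_iff, not_not] at h2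
      exact h2)
  exact ⟨e.toRingEquiv.toMulEquiv.isDomain _, IsIntegrallyClosed.of_equiv e.toRingEquiv.symm⟩

theorem normal_localization_of_flat (A B : Type u) [CommRing A] [CommRing B] [IsNoetherianRing A]
    [IsNoetherianRing B] [Algebra A B] [Module.Flat A B]
    (hfib : ∀ (q : Ideal B) [q.IsPrime], IsDomain (EGA4.FibLocRing A B q) ∧ IsIntegrallyClosed (EGA4.FibLocRing A B q))
    (q : Ideal B) [q.IsPrime]
    (hA : IsDomain (Localization.AtPrime (q.comap (algebraMap A B))))
    (hA' : IsIntegrallyClosed (Localization.AtPrime (q.comap (algebraMap A B)))) :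
    IsDomain (Localization.AtPrime q) ∧ IsIntegrallyClosed (Localization.AtPrime q) := by
  let p := q.comap (algebraMap A B)
  let L := Localization.AtPrime q
  let Ap := Localization.AtPrime p
  have : IsNoetherianRing L := IsLocalization.isNoetherianRing q.primeCompl _ inferInstance
  have : IsNoetherianRing Ap := IsLocalization.isNoetherianRing p.primeCompl _ inferInstance
  have hfibRS : ∀ (r : Ideal B) [r.IsPrime], LocCoh.HasRk 1 (EGA4.FibLocRing A B r) ∧
      LocCoh.HasSk 2 (EGA4.FibLocRing A B r) (EGA4.FibLocRing A B r) := by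
    intro r _
    obtain ⟨_, _⟩ := hfib r
    have : IsNoetherianRing (Localization.AtPrime r) := IsLocalization.isNoetherianRing r.primeCompl _ inferInstance
    exact CAlg1.serre_normal.mp (normal_of_domain _)
  have hA1 := CAlg1.serre_normal.mp (normal_of_domain Ap)
  have hR : EGA4.HasRkAt 1 B q :=
    S2609.result 1 A B (fun r _ => (hfibRS r).1) q hA1.1
  have : Module.Finite Ap (LocalizedModule p.primeCompl A) := Module.Finite.equiv (CAlg1.locSelfEquiv p).symm
  have hAS : EGA4.HasSkAt 2 A A p := hasSk_congr (CAlg1.locSelfEquiv p).symm 2 hA1.2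
  have hS : EGA4.HasSkAt 2 B (TensorProduct A B A) q := by
    refine hasSkAt_tensor (A := A) B A 2 (fun r _ _ => ?_) q hAS
    let R := EGA4.FibLocRing A B r
    let Br := Localization.AtPrime r
    have : IsNoetherianRing Br := IsLocalization.isNoetherianRing r.primeCompl _ inferInstance
    obtain ⟨_, _⟩ := hfib r
    have : IsLocalRing R := EGA4.isLocalRing_quotient _ _
    have : IsLocalHom (algebraMap Br R) := Function.Surjective.isLocalHom _ Ideal.Quotient.mk_surjective
    let eM : EGA4.FibLocMod A B r B ≃ₗ[Br] R :=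
      Submodule.Quotient.equiv _ _ (CAlg1.locSelfEquiv r) (by
        rw [Submodule.map_smul'', Submodule.map_top, LinearEquiv.range, Ideal.smul_eq_mul, Ideal.mul_top])
    have h := (hfibRS r).2 (maximalIdeal R)
    rw [(invariants_at_maximal R).1, (invariants_at_maximal R).2,
      ← depth_eq_of_finite (A := Br) (B := R) R, ← supportDim_eq_of_finite_restrictScalars Br R R] at h
    rw [depth_eq_of_equiv eM, Module.supportDim_eq_of_equiv eM]
    exact h
  let e : TensorProduct A B A ≃ₗ[B] B := TensorProduct.AlgebraTensorModule.rid A B B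
  have : Module.Finite B (TensorProduct A B A) := Module.Finite.equiv e.symm
  have : Module.Finite L (LocalizedModule q.primeCompl B) := Module.Finite.equiv (CAlg1.locSelfEquiv q).symm
  have hS' : LocCoh.HasSk 2 L L := hasSk_congr (CAlg1.locSelfEquiv q) 2 (hasSkAt_congr e 2 q hS)
  exact domain_of_normal_local L (CAlg1.serre_normal.mpr ⟨hR, hS'⟩)

/-- descent of normality along a flat map -/
theorem normal_base_of_flat (A B : Type u) [CommRing A] [CommRing B] [IsNoetherianRing A]
    [IsNoetherianRing B] [Algebra A B] [Module.Flat A B] (q : Ideal B) [q.IsPrime]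
    (hB : IsDomain (Localization.AtPrime q)) (hB' : IsIntegrallyClosed (Localization.AtPrime q)) :
    IsDomain (Localization.AtPrime (q.comap (algebraMap A B))) ∧
      IsIntegrallyClosed (Localization.AtPrime (q.comap (algebraMap A B))) := by
  let p := q.comap (algebraMap A B)
  let L := Localization.AtPrime q
  let Ap := Localization.AtPrime p
  have : IsNoetherianRing L := IsLocalization.isNoetherianRing q.primeCompl _ inferInstance
  have : IsNoetherianRing Ap := IsLocalization.isNoetherianRing p.primeCompl _ inferInstance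
  obtain ⟨hR, hS⟩ := CAlg1.serre_normal.mp (normal_of_domain L)
  have hR' : EGA4.HasRkAt 1 A p := S2608.result 1 A B q hR
  have : Module.Finite L (LocalizedModule q.primeCompl B) := Module.Finite.equiv (CAlg1.locSelfEquiv q).symm
  let e : TensorProduct A B A ≃ₗ[B] B := TensorProduct.AlgebraTensorModule.rid A B B
  have h1 : EGA4.HasSkAt 2 B B q := hasSk_congr (CAlg1.locSelfEquiv q).symm 2 hS
  have hsupp : (⟨q, inferInstance⟩ : PrimeSpectrum B) ∈ Module.support B B := by
    rw [Module.mem_support_iff_of_finite]
    intro x hx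
    have := Module.mem_annihilator.mp hx 1
    simp only [smul_eq_mul, mul_one] at this
    rw [this]; exact zero_mem _
  have hAS := hasSkAt_base (A := A) B A 2 ⟨q, inferInstance⟩ hsupp (hasSkAt_congr e.symm 2 q h1)
  have : Module.Finite Ap (LocalizedModule p.primeCompl A) := Module.Finite.equiv (CAlg1.locSelfEquiv p).symm
  exact domain_of_normal_local Ap (CAlg1.serre_normal.mpr ⟨hR', hasSk_congr (CAlg1.locSelfEquiv p) 2 hAS⟩)

/-- the local rings of the fibres are localizations of the fibre rings -/
theorem exists_fiber_equiv {A B : Type u} [CommRing A] [CommRing B] [Algebra A B] (q : Ideal B) [q.IsPrime] :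
    ∃ Q : PrimeSpectrum ((q.comap (algebraMap A B)).Fiber B),
      Nonempty (Localization.AtPrime Q.asIdeal ≃+* EGA4.FibLocRing A B q) := by
  let p := q.comap (algebraMap A B)
  let s : PrimeSpectrum.comap (algebraMap A B) ⁻¹' {(⟨p, inferInstance⟩ : PrimeSpectrum A)} :=
    ⟨⟨q, inferInstance⟩, rfl⟩
  let Q := PrimeSpectrum.preimageEquivFiber A B ⟨p, inferInstance⟩ s
  refine ⟨Q, ?_⟩
  have hQ : Q.asIdeal.comap (Algebra.TensorProduct.includeRight : B →ₐ[A] p.Fiber B) = q :=
    congrArg (fun x => x.1.asIdeal) ((PrimeSpectrum.preimageEquivFiber A B ⟨p, inferInstance⟩).left_inv s)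
  have : (Q.asIdeal.comap (Algebra.TensorProduct.includeRight : B →ₐ[A] p.Fiber B)).LiesOver p :=
    ⟨by rw [hQ]⟩
  let := Localization.AtPrime.algebraOfLiesOver p (Q.asIdeal.comap (Algebra.TensorProduct.includeRight : B →ₐ[A] p.Fiber B))
  have e0 := (Ideal.Fiber.localizationAlgEquivQuotient p Q.asIdeal).toRingEquiv
  have key : ∀ (r : Ideal B) [r.IsPrime], r = q →
      Nonempty ((Localization.AtPrime r ⧸ p.map (algebraMap A (Localization.AtPrime r))) ≃+* EGA4.FibLocRing A B q) := by
    intro r _ hr
    subst hr
    exact ⟨RingEquiv.refl _⟩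
  obtain ⟨e1⟩ := key _ hQ
  exact ⟨e0.trans e1⟩

/-- normality is invariant under isomorphisms -/
theorem isNormalRing_of_ringEquiv {R S : Type u} [CommRing R] [CommRing S] (e : R ≃+* S)
    (h : EGA4.IsNormalRing R) : EGA4.IsNormalRing S := by
  intro P _
  obtain ⟨hd, hi⟩ := h (P.comap e.toRingHom)
  have hmap : Submonoid.map e.toMonoidHom (P.comap e.toRingHom).primeCompl = P.primeCompl := by
    ext x
    refine ⟨?_, fun hx => ⟨e.symm x, ?_, e.apply_symm_apply x⟩⟩
    · rintro ⟨y, hy, rfl⟩; exact hy
    · show e (e.symm x) ∉ P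
      rw [e.apply_symm_apply]; exact hx
  let e' : Localization.AtPrime (P.comap e.toRingHom) ≃+* Localization.AtPrime P :=
    IsLocalization.ringEquivOfRingEquiv (M := (P.comap e.toRingHom).primeCompl) (T := P.primeCompl) _ _ e hmap
  exact ⟨e'.symm.toMulEquiv.isDomain _, IsIntegrallyClosed.of_equiv e'⟩

/-- geometrically normal fibres have normal local rings -/
theorem fibLocRing_normal {A B : Type u} [CommRing A] [CommRing B] [Algebra A B]
    (h : ∀ (p : Ideal A) [p.IsPrime], EGA4.IsGeomNormal p.ResidueField (p.Fiber B))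
    (q : Ideal B) [q.IsPrime] :
    IsDomain (EGA4.FibLocRing A B q) ∧ IsIntegrallyClosed (EGA4.FibLocRing A B q) := by
  let p := q.comap (algebraMap A B)
  obtain ⟨Q, ⟨e⟩⟩ := exists_fiber_equiv (A := A) q
  let k := p.ResidueField
  have hN := h p k (Module.Finite.self k)
  obtain ⟨hd, hi⟩ := isNormalRing_of_ringEquiv (Algebra.TensorProduct.lid k (p.Fiber B)).toRingEquiv hN Q.asIdeal
  exact ⟨e.symm.toMulEquiv.isDomain _, @IsIntegrallyClosed.of_equiv (Localization.AtPrime Q.asIdeal) (EGA4.FibLocRing A B q) _ _ e hi⟩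

end Groth.Agent.EGA4H10
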