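import Groth.Agent.EGA4H10.SepFamily
import Groth.Agent.PBasis12.Field
import Mathlib

/-!
# The family of subrings `k_F[[T^p]]` of `k[[T]]`
-/

set_option autoImplicit false
set_option linter.style.haveILetI false
universe u

open EGA41 MvPowerSeries

namespace Groth.Agent.EGA4H10

variable (p : ℕ) [Fact p.Prime] (k : Type u) [Field k] [CharP k p]

theorem finite_of_compl {k₀ : Type u} [Field k₀] [Algebra k₀ k] (Γ : Set k)
    (hgen : ∀ x : k, x ∈ Algebra.adjoin k₀ Γ)
    (M : IntermediateField k₀ k) (hM : ∀ x, x ^ p ∈ M) (F : Finset k) (hΓ : ∀ γ ∈ Γ, γ ∉ F → γ ∈ M) :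
    Module.Finite M k := by
  let A : Subalgebra M k := Algebra.adjoin M (F : Set k)
  have htop : A = ⊤ := eq_top_iff.2 fun x _ => by
    suffices h : ∀ y ∈ Algebra.adjoin k₀ Γ, y ∈ A from h x (hgen x)
    intro y hy
    induction hy using Algebra.adjoin_induction with
    | mem γ hγ =>
      by_cases hF : γ ∈ F
      · exact Algebra.subset_adjoin hF
      · exact A.algebraMap_mem (⟨γ, hΓ γ hγ hF⟩ : M)
    | algebraMap a => exact A.algebraMap_mem (⟨algebraMap k₀ k a, M.algebraMap_mem a⟩ : M)
    | add _ _ _ _ h1 h2 => exact add_mem h1 h2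
    | mul _ _ _ _ h1 h2 => exact mul_mem h1 h2
  have hint : ∀ x : k, IsIntegral M x := fun x =>
    IsIntegral.of_pow (Fact.out : p.Prime).pos
      ((isIntegral_algebraMap : IsIntegral M (algebraMap M k (⟨x ^ p, hM x⟩ : M))))
  have hfg : A.toSubmodule.FG := fg_adjoin_of_finite F.finite_toSet fun x _ => hint x
  rw [htop, Algebra.top_toSubmodule] at hfg
  exact Module.finite_def.2 hfg

/-- A directed family of subfields of finite index with intersection the `p`-th powers. -/
theorem exists_field_family :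
    ∃ (ι : Type u) (_ : Nonempty ι) (kF : ι → Subfield k),
      (∀ a b, ∃ c, kF c ≤ kF a ⊓ kF b) ∧ (∀ i, Module.Finite (kF i) k) ∧
      (∀ i x, x ^ p ∈ kF i) ∧ (∀ x, (∀ i, x ∈ kF i) → ∃ y, y ^ p = x) := by
  classical
  let k₀ : Subfield k := (frobenius k p).fieldRange
  have hk₀ : ∀ x : k, x ^ p ∈ k₀ := fun x => ⟨x, rfl⟩
  have hbot : pPowerSubalgebra p k₀ k = ⊥ :=
    PBasis12.pPower_eq_bot fun x => ⟨⟨x ^ p, hk₀ x⟩, rfl⟩
  obtain ⟨Γ, -, -, hΓ⟩ := PBasis12.exists_pBasis_between (p := p) (k := k₀) (K := k)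
    Set.univ ∅ (Set.empty_subset _) PBasis12.isPGenerating_univ PBasis12.isPIndependent_empty
  have hindep : ∀ γ ∈ Γ, γ ∉ Algebra.adjoin k₀ (Γ \ {γ}) := fun γ hγ hmem =>
    (PBasis12.isPIndependent_iff _).1 hΓ.1 ⟨γ, hγ⟩ (by
      have hle : Algebra.adjoin k₀ (Γ \ {γ}) ≤
          (Algebra.adjoin (pPowerSubalgebra p k₀ k) ((Subtype.val : Γ → k) '' {b | b ≠ ⟨γ, hγ⟩})).restrictScalars k₀ :=
        Algebra.adjoin_le (by
          rintro x ⟨hx1, hx2⟩
          refine (Subalgebra.mem_restrictScalars k₀).mpr (Algebra.subset_adjoin ?_)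
          exact ⟨(⟨x, hx1⟩ : Γ), fun h => hx2 (congrArg Subtype.val h), rfl⟩)
      exact hle hmem)
  have hgen : ∀ x : k, x ∈ Algebra.adjoin k₀ Γ := fun x => by
    have h : x ∈ Algebra.adjoin (pPowerSubalgebra p k₀ k) (Set.range (Subtype.val : Γ → k)) := by
      rw [(PBasis12.aeval_surjective_iff _).2 hΓ.2]; trivial
    rw [Subtype.range_coe] at h
    induction h using Algebra.adjoin_induction with
    | mem y hy => exact Algebra.subset_adjoin hy
    | algebraMap a =>
      obtain ⟨b, hb⟩ := Algebra.mem_bot.1 (hbot ▸ a.2 : (a : k) ∈ (⊥ : Subalgebra k₀ k))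
      show (a : k) ∈ _
      rw [← hb]
      exact Subalgebra.algebraMap_mem _ b
    | add y z _ _ hy hz => exact add_mem hy hz
    | mul y z _ _ hy hz => exact mul_mem hy hz
  have : Algebra.IsAlgebraic k₀ k := ⟨fun x => ⟨Polynomial.X ^ p - Polynomial.C ⟨x ^ p, hk₀ x⟩,
    Polynomial.X_pow_sub_C_ne_zero (Fact.out : p.Prime).pos _, by rw [map_sub, map_pow, Polynomial.aeval_X, Polynomial.aeval_C]; exact sub_self _⟩⟩
  let kI : Finset k → IntermediateField k₀ k := fun F => IntermediateField.adjoin k₀ (Γ \ (F : Set k))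
  have hkI : ∀ F x, x ^ p ∈ kI F := fun F x => (kI F).algebraMap_mem ⟨x ^ p, hk₀ x⟩
  refine ⟨Finset k, inferInstance, fun F => (kI F).toSubfield, fun F G => ⟨F ∪ G, ?_⟩, fun F => ?_, hkI, ?_⟩
  · refine le_inf ?_ ?_ <;>
      exact IntermediateField.adjoin.mono k₀ _ _ (Set.sdiff_subset_sdiff_right (by simp))
  · exact finite_of_compl p k Γ hgen (kI F) (hkI F) F fun γ h1 h2 =>
      IntermediateField.subset_adjoin _ _ ⟨h1, h2⟩
  · -- the intersection
    intro x hx
    suffices key : ∀ F₀ : Finset k, (F₀ : Set k) ⊆ Γ → ∀ z ∈ Algebra.adjoin k₀ (F₀ : Set k),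
        (∀ γ ∈ F₀, z ∈ kI {γ}) → z ∈ k₀ by
      obtain ⟨U, hU, hxU⟩ : ∃ U : Finset k, (U : Set k) ⊆ Γ ∧ x ∈ Algebra.adjoin k₀ (U : Set k) := by
        have h := hgen x
        clear hx
        induction h using Algebra.adjoin_induction with
        | mem y hy => exact ⟨{y}, by simpa using hy, Algebra.subset_adjoin (by simp)⟩
        | algebraMap a => exact ⟨∅, by simp, Subalgebra.algebraMap_mem _ a⟩
        | add y z _ _ hy hz =>
          obtain ⟨U, hU, hy⟩ := hy
          obtain ⟨V, hV, hz⟩ := hz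
          exact ⟨U ∪ V, by simp [hU, hV], add_mem (Algebra.adjoin_mono (by simp) hy) (Algebra.adjoin_mono (by simp) hz)⟩
        | mul y z _ _ hy hz =>
          obtain ⟨U, hU, hy⟩ := hy
          obtain ⟨V, hV, hz⟩ := hz
          exact ⟨U ∪ V, by simp [hU, hV], mul_mem (Algebra.adjoin_mono (by simp) hy) (Algebra.adjoin_mono (by simp) hz)⟩
      exact key U hU x hxU fun γ _ => hx {γ}
    intro F₀
    induction F₀ using Finset.induction_on with
    | empty =>
      intro _ z hz _
      rw [Finset.coe_empty, Algebra.adjoin_empty, Algebra.mem_bot] at hz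
      obtain ⟨a, rfl⟩ := hz
      exact a.2
    | @insert γ F' hγF' ih =>
      intro hsub z hz hmem
      have hγ : γ ∈ Γ := hsub (Finset.mem_insert_self _ _)
      have hsub' : (F' : Set k) ⊆ Γ := (Finset.coe_subset.2 (Finset.subset_insert _ _)).trans hsub
      refine ih hsub' z ?_ fun δ hδ => hmem δ (Finset.mem_insert_of_mem hδ)
      let A' := Algebra.adjoin k₀ (F' : Set k)
      let M := kI {γ}
      have hA'M : ∀ a ∈ A', a ∈ M := fun a ha =>
        (IntermediateField.algebra_adjoin_le_adjoin k₀ _) (Algebra.adjoin_mono (fun δ hδ =>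
          show δ ∈ Γ \ (({γ} : Finset k) : Set k) from
            ⟨hsub' hδ, by simpa using fun h : δ = γ => hγF' (h ▸ hδ)⟩) ha)
      have hγM : γ ∉ M := by
        intro h
        apply hindep γ hγ
        have : M.toSubalgebra = Algebra.adjoin k₀ (Γ \ (({γ} : Finset k) : Set k)) :=
          IntermediateField.adjoin_toSubalgebra_of_isAlgebraic fun y _ => Algebra.IsAlgebraic.isAlgebraic y
        rw [← Finset.coe_singleton, ← this]
        exact h
      rw [Finset.coe_insert, Set.insert_eq, Set.union_comm,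
        Algebra.adjoin_union_eq_adjoin_adjoin, Subalgebra.mem_restrictScalars,
        Algebra.adjoin_singleton_eq_range_aeval] at hz
      obtain ⟨g, rfl⟩ := hz
      let c : A' := ⟨γ ^ p, A'.algebraMap_mem ⟨γ ^ p, hk₀ γ⟩⟩
      let f : Polynomial A' := Polynomial.X ^ p - Polynomial.C c
      have hf : f.Monic := Polynomial.monic_X_pow_sub_C _ (Fact.out : p.Prime).ne_zero
      have hg : Polynomial.aeval γ g = Polynomial.aeval γ (g %ₘ f) := by
        conv_lhs => rw [← Polynomial.modByMonic_add_div g f]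
        rw [map_add, map_mul]
        have h0 : Polynomial.aeval γ f = 0 := by simp [f, c]
        rw [h0, zero_mul, add_zero]
      let ι' : A' →+* M := (Subalgebra.val A').toRingHom.codRestrict M fun a => hA'M a a.2
      let m : Polynomial M := Polynomial.X ^ p - Polynomial.C (ι' c)
      have hirr : Irreducible m := X_pow_sub_C_irreducible_of_prime Fact.out fun b hb => hγM (by
        have : (b : k) ^ p = γ ^ p := congrArg Subtype.val hb
        rw [show γ = (b : k) from (frobenius_inj k p this).symm]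
        exact b.2)
      have hzM : Polynomial.aeval γ g ∈ M := hmem γ (Finset.mem_insert_self _ _)
      let r : Polynomial M := (g %ₘ f).map ι' - Polynomial.C ⟨_, hzM⟩
      have hrdeg : r.degree < m.degree := by
        rw [Polynomial.degree_X_pow_sub_C (Fact.out : p.Prime).pos]
        refine lt_of_le_of_lt (Polynomial.degree_sub_le _ _) (max_lt ?_ ?_)
        · refine lt_of_le_of_lt Polynomial.degree_map_le ((Polynomial.degree_modByMonic_lt g hf).trans_le ?_)
          rw [Polynomial.degree_X_pow_sub_C (Fact.out : p.Prime).pos]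
        · exact lt_of_le_of_lt Polynomial.degree_C_le (by exact_mod_cast (Fact.out : p.Prime).pos)
      have hr : r = 0 := by
        have hmin : minpoly M γ = m := (minpoly.eq_of_irreducible_of_monic hirr (by simp [m, ι', c])
          (Polynomial.monic_X_pow_sub_C _ (Fact.out : p.Prime).ne_zero)).symm
        refine Polynomial.eq_zero_of_dvd_of_degree_lt (hmin ▸ minpoly.dvd M γ ?_) hrdeg
        rw [map_sub, Polynomial.aeval_C, Polynomial.aeval_def, Polynomial.eval₂_map, ← sub_eq_zero.2 hg.symm]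
        rfl
      have h0 := congrArg (fun q => ((Polynomial.coeff q 0 : M) : k)) hr
      simp only [r, Polynomial.coeff_sub, Polynomial.coeff_map, Polynomial.coeff_C_zero, Polynomial.coeff_zero] at h0
      have : ((g %ₘ f).coeff 0 : k) = Polynomial.aeval γ g := sub_eq_zero.1 h0
      show Polynomial.aeval γ g ∈ A'
      rw [← this]
      exact ((g %ₘ f).coeff 0).2

variable (n : ℕ)

/-- power series with coefficients in `k₁` and exponents divisible by `p` -/
def psSub (k₁ : Subfield k) : Subring (MvPowerSeries (Fin n) k) where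
  carrier := {f | ∀ m, coeff m f ∈ k₁ ∧ (coeff m f ≠ 0 → ∀ i, p ∣ m i)}
  zero_mem' m := by simp
  one_mem' m := by
    classical
    rw [coeff_one]
    split_ifs with h
    · exact ⟨one_mem _, fun _ i => by simp [h]⟩
    · exact ⟨zero_mem _, fun h' => absurd rfl h'⟩
  add_mem' {a b} ha hb m := ⟨by rw [map_add]; exact add_mem (ha m).1 (hb m).1, fun h i => by
    by_cases h1 : coeff m a = 0
    · exact (hb m).2 (by simpa [h1] using h) i
    · exact (ha m).2 h1 i⟩
  neg_mem' {a} ha m := ⟨by rw [map_neg]; exact neg_mem (ha m).1, fun h => (ha m).2 (by simpa using h)⟩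
  mul_mem' {a b} ha hb m := by
    classical
    rw [coeff_mul]
    refine ⟨sum_mem fun x _ => mul_mem (ha x.1).1 (hb x.2).1, fun h i => ?_⟩
    obtain ⟨x, hx, hne⟩ := Finset.exists_ne_zero_of_sum_ne_zero h
    rw [← Finset.HasAntidiagonal.mem_antidiagonal.1 hx, Finsupp.add_apply]
    exact dvd_add ((ha x.1).2 (left_ne_zero_of_mul hne) i) ((hb x.2).2 (right_ne_zero_of_mul hne) i)

theorem mem_psSub {k₁ : Subfield k} {f : MvPowerSeries (Fin n) k} :
    f ∈ psSub p k n k₁ ↔ ∀ m, coeff m f ∈ k₁ ∧ (coeff m f ≠ 0 → ∀ i, p ∣ m i) := Iff.rfl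

theorem finite_psSub (k₁ : Subfield k) [Module.Finite k₁ k] :
    Module.Finite (psSub p k n k₁) (MvPowerSeries (Fin n) k) := by
  classical
  have hp : 0 < p := (Fact.out : p.Prime).pos
  let b := Module.finBasis k₁ k
  let ex : (Fin n → Fin p) → Fin n →₀ ℕ := fun e => Finsupp.equivFunOnFinite.symm fun i => (e i : ℕ)
  refine ⟨⟨Finset.univ.image fun x : (Fin n → Fin p) × Fin (Module.finrank k₁ k) =>
    monomial (ex x.1) (b x.2), ?_⟩⟩
  rw [eq_top_iff, Finset.coe_image, Finset.coe_univ, Set.image_univ]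
  intro f _
  rw [Submodule.mem_span_range_iff_exists_fun]
  let g : (Fin n → Fin p) × Fin (Module.finrank k₁ k) → MvPowerSeries (Fin n) k := fun x m =>
    if ∀ i, p ∣ m i then (b.repr (coeff (m + ex x.1) f) x.2 : k) else 0
  have hg : ∀ x m, coeff m (g x) = if ∀ i, p ∣ m i then (b.repr (coeff (m + ex x.1) f) x.2 : k) else 0 :=
    fun _ _ => rfl
  refine ⟨fun x => ⟨g x, fun m => ⟨?_, fun h => ?_⟩⟩, ?_⟩
  · rw [hg]
    split_ifs
    · exact SetLike.coe_mem _
    · exact zero_mem _
  · by_contra hc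
    exact h (by rw [hg, if_neg hc])
  ext m
  let e₀ : Fin n → Fin p := fun i => ⟨m i % p, Nat.mod_lt _ hp⟩
  have hle : ex e₀ ≤ m := fun i => Nat.mod_le _ _
  simp only [map_sum, Subring.smul_def, smul_eq_mul, mul_comm (g _), coeff_monomial_mul, hg]
  rw [Fintype.sum_prod_type, Finset.sum_eq_single e₀ _ (fun h => absurd (Finset.mem_univ _) h)]
  · have hd : ∀ i, p ∣ (m - ex e₀) i := fun i => by simpa [ex, e₀] using Nat.dvd_sub_mod (n := p) (m i)
    simp only [if_pos hle, if_pos hd, tsub_add_cancel_of_le hle]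
    conv_rhs => rw [← b.sum_repr (coeff m f)]
    exact Finset.sum_congr rfl fun l _ => by rw [Subfield.smul_def, smul_eq_mul, mul_comm]
  · intro e _ hne
    refine Finset.sum_eq_zero fun l _ => ?_
    dsimp only
    split_ifs with h1 h2
    · refine absurd (funext fun i => Fin.ext ?_) hne
      obtain ⟨a, ha⟩ := h2 i
      have h1i : (e i : ℕ) ≤ m i := h1 i
      simp only [ex, Finsupp.tsub_apply, Finsupp.coe_equivFunOnFinite_symm] at ha
      show (e i : ℕ) = m i % p
      rw [show m i = e i + p * a by omega, Nat.add_mul_mod_self_left, Nat.mod_eq_of_lt (e i).isLt]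
    · simp
    · rfl

theorem saturated_psSub (k₁ : Subfield k) (h v : MvPowerSeries (Fin n) k) (hv : v ∈ psSub p k n k₁)
    (hv0 : v ≠ 0) (hhv : h * v ∈ psSub p k n k₁) : h ∈ psSub p k n k₁ := by
  classical
  obtain ⟨lam, hlam⟩ := (Algebra.linearMap k₁ k).exists_leftInverse_of_injective
    (LinearMap.ker_eq_bot.2 Subtype.val_injective)
  let Φ : MvPowerSeries (Fin n) k → MvPowerSeries (Fin n) k := fun f m =>
    if ∀ i, p ∣ m i then (lam (coeff m f) : k) else 0
  have hΦ : ∀ f m, coeff m (Φ f) = if ∀ i, p ∣ m i then (lam (coeff m f) : k) else 0 := fun _ _ => rfl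
  have hfix : ∀ x ∈ k₁, (lam x : k) = x := fun x hx =>
    congrArg Subtype.val (LinearMap.congr_fun hlam ⟨x, hx⟩)
  have hmem : ∀ f, Φ f ∈ psSub p k n k₁ := fun f m => by
    rw [hΦ]
    split_ifs with hd
    · exact ⟨SetLike.coe_mem _, fun _ => hd⟩
    · exact ⟨zero_mem _, fun h => absurd rfl h⟩
  have hmul : Φ (h * v) = Φ h * v := by
    ext m
    rw [hΦ, coeff_mul, coeff_mul]
    have hlin : ∀ x : (Fin n →₀ ℕ) × (Fin n →₀ ℕ), (lam (coeff x.1 h * coeff x.2 v) : k) = lam (coeff x.1 h) * coeff x.2 v := by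
      intro x
      rw [mul_comm, show coeff x.2 v * coeff x.1 h = (⟨coeff x.2 v, (hv x.2).1⟩ : k₁) • coeff x.1 h from rfl,
        map_smul, smul_eq_mul, Subfield.coe_mul, mul_comm]
    split_ifs with hd
    · rw [map_sum, AddSubmonoidClass.coe_finsetSum]
      refine Finset.sum_congr rfl fun x hx => ?_
      rw [hlin, hΦ]
      by_cases h2 : coeff x.2 v = 0
      · simp [h2]
      · rw [if_pos fun i => ?_]
        have h3 := hd i
        rw [← Finset.HasAntidiagonal.mem_antidiagonal.1 hx, Finsupp.add_apply] at h3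
        exact (Nat.dvd_add_iff_left ((hv x.2).2 h2 i)).2 h3
    · symm
      refine Finset.sum_eq_zero fun x hx => ?_
      rw [hΦ]
      split_ifs with h1
      · by_cases h2 : coeff x.2 v = 0
        · simp [h2]
        · refine absurd (fun i => ?_) hd
          rw [← Finset.HasAntidiagonal.mem_antidiagonal.1 hx, Finsupp.add_apply]
          exact dvd_add (h1 i) ((hv x.2).2 h2 i)
      · rw [zero_mul]
  have hΦhv : Φ (h * v) = h * v := by
    ext m
    rw [hΦ]
    split_ifs with hd
    · exact hfix _ (hhv m).1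
    · by_contra hc
      exact hd ((hhv m).2 (Ne.symm hc))
  rw [← mul_right_cancel₀ hv0 (hmul.symm.trans hΦhv)]
  exact hmem h

theorem pow_eq_expand (f : MvPowerSeries (Fin n) k) :
    f ^ p = MvPowerSeries.map (frobenius k p) (f.expand p (Fact.out : p.Prime).ne_zero) :=
  (MvPowerSeries.map_frobenius_expand p (Fact.out : p.Prime).ne_zero).symm

theorem exists_psSepFamily : Nonempty (SepFamily p (MvPowerSeries (Fin n) k)) := by
  classical
  have hp0 : p ≠ 0 := (Fact.out : p.Prime).ne_zero
  obtain ⟨ι, hι, kF, hdir, hfin, hpow, hroot⟩ := exists_field_family p k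
  refine ⟨{ ι := ι, nonempty := hι, S := fun i => psSub p k n (kF i), directed := fun a b => ?_,
            finite := fun i => have := hfin i; finite_psSub p k n (kF i), pow_mem := fun i r m => ?_,
            saturated := fun i h v => saturated_psSub p k n (kF i) h v, exists_pow := fun h hh => ?_ }⟩
  · obtain ⟨c, hc⟩ := hdir a b
    exact ⟨c, le_inf (fun f hf m => ⟨(hc.trans inf_le_left) (hf m).1, (hf m).2⟩)
      (fun f hf m => ⟨(hc.trans inf_le_right) (hf m).1, (hf m).2⟩)⟩
  · rw [pow_eq_expand p k n r, coeff_map]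
    refine ⟨hpow i _, fun hne j => ?_⟩
    by_contra hj
    exact hne (by rw [coeff_expand_of_not_dvd p hp0 r hj, map_zero])
  · choose g hg using fun m : Fin n →₀ ℕ => hroot (coeff (p • m) h) fun i => (hh i _).1
    let G : MvPowerSeries (Fin n) k := fun m => g m
    refine ⟨G, ?_⟩
    ext m
    rw [pow_eq_expand p k n G, coeff_map]
    by_cases hd : ∀ i, p ∣ m i
    · obtain ⟨q, rfl⟩ : ∃ q, p • q = m :=
        ⟨m.mapRange (· / p) (by simp), by ext i; simp [Nat.mul_div_cancel' (hd i)]⟩
      rw [coeff_expand_smul]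
      exact hg q
    · obtain ⟨j, hj⟩ := not_forall.1 hd
      obtain ⟨i⟩ := hι
      rw [coeff_expand_of_not_dvd p hp0 _ hj, map_zero]
      by_contra hc
      exact hj ((hh i m).2 (Ne.symm hc) j)

end Groth.Agent.EGA4H10
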