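import Groth.Agent.EGA4H10.GenRegular
import Groth.Agent.EGA4H10.PSFamily
import Groth.Agent.EGA4H10.CompleteUC
import Groth.Agent.Cohen12.Finite
import Groth.Agent.Cohen12.Field
import Groth.Agent.SGA3a.FiniteComplete
import Groth.Agent.CAlg1.Complete
import Groth.Agent.Frg27.RigClosed
import Mathlib

/-!
# Complete Noetherian local rings are J-2
-/

set_option autoImplicit false
set_option linter.style.haveILetI false
universe u

open IsLocalRing

namespace Groth.Agent.EGA4H10

theorem charP_mvPowerSeries (p : ℕ) (k : Type u) [Field k] [CharP k p] (n : ℕ) :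
    CharP (MvPowerSeries (Fin n) k) p :=
  charP_of_injective_ringHom (f := (MvPowerSeries.C : k →+* MvPowerSeries (Fin n) k)) MvPowerSeries.C_injective p

theorem regAway_one (R : Type u) [CommRing R] [IsRegularLocalRing R] : RegAway R 1 :=
  fun P _ _ => regular_localization R P

/-- Noether normalisation: complete local domains are finite over complete regular local domains. -/
theorem exists_finite_regular (A : Type u) [CommRing A] [IsDomain A] [IsLocalRing A] [IsNoetherianRing A]
    [IsAdicComplete (maximalIdeal A) A] :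
    ∃ (R : Type u) (_ : CommRing R) (_ : IsDomain R) (_ : IsRegularLocalRing R) (_ : Algebra R A),
      Module.Finite R A ∧ Function.Injective (algebraMap R A) ∧
      ∀ p : ℕ, p.Prime → CharP A p → Nonempty (SepFamily p R) := by
  classical
  obtain ⟨q, hq⟩ := CharP.exists (ResidueField A)
  by_cases hq0 : (q : A) = 0
  · -- equal characteristic
    obtain ⟨k, _, ρ, hρ⟩ : ∃ (k : Type u) (_ : Field k) (ρ : k →+* A), Function.Bijective ((residue A).comp ρ) := by
      obtain ⟨σ, hσ⟩ := Cohen12.exists_coefficientField A q hq0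
      exact ⟨ResidueField A, inferInstance, σ, RingHom.injective _, fun z => ⟨z, hσ z⟩⟩
    letI : Algebra k A := ρ.toAlgebra
    have : Module.Finite k (ResidueField A) := Module.Finite.of_surjective (Algebra.linearMap k (ResidueField A)) hρ.2
    obtain ⟨n, w, -, hw, -, hwfin⟩ := Cohen12.exists_finite_powerSeries (k₀ := k) (A := A)
    have : IsRegularLocalRing (MvPowerSeries (Fin n) k) := CAlg6.isRegularLocalRing_mvPowerSeries
    letI : Algebra (MvPowerSeries (Fin n) k) A := w.toRingHom.toAlgebra
    refine ⟨MvPowerSeries (Fin n) k, inferInstance, NoZeroDivisors.to_isDomain _, inferInstance,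
      inferInstance, hwfin, hw, fun p hp hA => ?_⟩
    have : Fact p.Prime := ⟨hp⟩
    have : CharP k p := (RingHom.charP_iff ρ ρ.injective p).2 hA
    exact exists_psSepFamily p k n
  · -- mixed characteristic
    obtain ⟨W, _, _, hW, w, hwl, hsurj⟩ := Cohen12.exists_cohen_hom A
    obtain ⟨hN, hc, hd, hz, q', hq', hm⟩ := Cohen12.cohen_struct hW
    have hqA : (q : A) ∈ maximalIdeal A := by
      rw [← residue_eq_zero_iff, map_natCast]
      exact CharP.cast_eq_zero _ q
    have hWres : CharP (ResidueField A) q' := (RingHom.charP_iff_charP (ResidueField.map w) q').1 hq'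
    obtain rfl : q' = q := CharP.eq (ResidueField A) hWres hq
    have : IsPrincipalIdealRing W :=
      ((tfae_of_isNoetherianRing_of_isLocalRing_of_isDomain W).out 4 0).mp (⟨⟨(q' : W), hm⟩⟩ : (maximalIdeal W).IsPrincipal)
    have hqW : (q' : W) ≠ 0 := fun h => hq0 (by rw [← map_natCast w, h, map_zero])
    let I : Ideal A := Ideal.span {(q' : A)}
    have hI : I ≠ ⊥ := by simpa [I, Ideal.span_singleton_eq_bot] using hq0
    have hIle : I ≤ maximalIdeal A := (Ideal.span_singleton_le_iff_mem _).2 hqA
    have : Nontrivial (A ⧸ I) := Ideal.Quotient.nontrivial_iff.2 fun h =>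
      (maximalIdeal.isMaximal A).ne_top (top_le_iff.1 (h ▸ hIle))
    have : IsLocalRing (A ⧸ I) := .of_surjective' _ Ideal.Quotient.mk_surjective
    obtain ⟨s, hs, hcard⟩ := (maximalIdeal (A ⧸ I)).exists_finset_card_eq_height_of_isNoetherianRing
    have hdimI : ringKrullDim (A ⧸ I) = (s.card : WithBot ℕ∞) := by
      rw [← IsLocalRing.maximalIdeal_height_eq_ringKrullDim, ← hcard]; rfl
    have hsucc : ((s.card + 1 : ℕ) : WithBot ℕ∞) ≤ ringKrullDim A := by
      push_cast
      rw [← hdimI]
      exact CAlg1.ringKrullDim_quotient_succ_le_of_domain hI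
    let σ : A ⧸ I → A := Function.surjInv Ideal.Quotient.mk_surjective
    have hσ : ∀ z, Ideal.Quotient.mk I (σ z) = z := Function.surjInv_eq _
    let y : Fin s.card → A := fun i => σ (s.equivFin.symm i)
    have hy : ∀ i, y i ∈ maximalIdeal A := fun i hu =>
      (hs.1.2 (Ideal.subset_span (s.equivFin.symm i).2)) (hσ (s.equivFin.symm i : A ⧸ I) ▸ hu.map (Ideal.Quotient.mk I))
    obtain ⟨φ, hC, hX⟩ := LA18.exists_powerSeries_hom (maximalIdeal A) w y hy
    let R := MvPowerSeries (Fin s.card) W
    obtain ⟨hRreg, hRdim⟩ := Cohen12.regular_powerSeries (W := W) s.card (q' : W) hm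
    rw [if_neg hqW] at hRdim
    letI : Algebra R A := φ.toAlgebra
    have : IsAdicComplete (maximalIdeal R) R := Cohen12.isAdicComplete_powerSeries s.card
    let J := (maximalIdeal R).map (algebraMap R A)
    have hJle : J ≤ maximalIdeal A := by
      refine Ideal.map_le_iff_le_comap.2 ?_
      rw [Cohen12.maximalIdeal_powerSeries, hm, Ideal.map_span, Set.image_singleton, ← Ideal.span_union,
        Ideal.span_le]
      rintro f (rfl | ⟨i, rfl⟩)
      · rw [SetLike.mem_coe, Ideal.mem_comap]
        show φ _ ∈ _
        rw [hC, map_natCast]; exact hqA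
      · rw [SetLike.mem_coe, Ideal.mem_comap]
        show φ _ ∈ _
        rw [hX]; exact hy i
    have hIJ : I ≤ J := (Ideal.span_singleton_le_iff_mem _).2 (by
      have h1 : φ (MvPowerSeries.C (q' : W)) ∈ J :=
        Ideal.mem_map_of_mem φ ((Cohen12.mem_maximalIdeal_powerSeries _).2 (by
          rw [MvPowerSeries.constantCoeff_C, hm]; exact Ideal.mem_span_singleton_self _))
      rwa [hC, map_natCast] at h1)
    have hrad : maximalIdeal A ≤ J.radical := by
      rw [Ideal.radical_eq_sInf]
      refine le_sInf fun P ⟨hP, hPp⟩ => ?_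
      have hPI : I ≤ P := hIJ.trans hP
      have hPb : (P.map (Ideal.Quotient.mk I)).IsPrime := Ideal.isPrime_map_quotientMk_of_isPrime hPI
      have hsP : Ideal.span (s : Set (A ⧸ I)) ≤ P.map (Ideal.Quotient.mk I) := by
        refine Ideal.span_le.2 fun z hz => ?_
        have : y (s.equivFin ⟨z, hz⟩) ∈ P := hP (hX (s.equivFin ⟨z, hz⟩) ▸
          Ideal.mem_map_of_mem φ ((Cohen12.mem_maximalIdeal_powerSeries _).2 (by simp)))
        have h2 := Ideal.mem_map_of_mem (Ideal.Quotient.mk I) this
        simp only [y, hσ, Equiv.symm_apply_apply] at h2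
        exact h2
      intro z hz
      have hzI : Ideal.Quotient.mk I z ∈ maximalIdeal (A ⧸ I) := fun hu => hz (by
        have : IsLocalHom (Ideal.Quotient.mk I) := .of_surjective _ Ideal.Quotient.mk_surjective
        exact isUnit_of_map_unit (Ideal.Quotient.mk I) z hu)
      have := hs.2 ⟨hPb, hsP⟩ (le_maximalIdeal hPb.ne_top) hzI
      rwa [← Ideal.mem_comap, Ideal.comap_map_quotientMk, sup_eq_right.2 hPI] at this
    have hres : ∀ b : A, ∃ x ∈ Submodule.span R (({1} : Finset A) : Set A), b - x ∈ maximalIdeal A := by
      intro b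
      obtain ⟨c, hc'⟩ := hsurj (residue A b)
      refine ⟨(MvPowerSeries.C c : R) • (1 : A), Submodule.smul_mem _ _ (Submodule.subset_span (by simp)), ?_⟩
      rw [← residue_eq_zero_iff, map_sub, Algebra.smul_def, mul_one, RingHom.algebraMap_toAlgebra, hC]
      exact sub_eq_zero.2 hc'.symm
    have hfin : Module.Finite R A := Cohen12.finite_of_residue R (maximalIdeal R) hJle {1} hres
      (Ideal.exists_pow_le_of_le_radical_of_fg hrad (IsNoetherian.noetherian _))
    refine ⟨R, inferInstance, NoZeroDivisors.to_isDomain _, hRreg, inferInstance, hfin, ?_, fun p hp hA => ?_⟩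
    · have h2 : φ.range.subtype.Finite := RingHom.Finite.of_comp_finite (f := φ.rangeRestrict) hfin
      have : Module.Finite φ.range A := h2
      have : Algebra.IsIntegral φ.range A := Algebra.IsIntegral.of_finite _ _
      have hrange : ringKrullDim φ.range = ((s.card + 1 : ℕ) : WithBot ℕ∞) :=
        le_antisymm ((ringKrullDim_le_of_surjective φ.rangeRestrict φ.rangeRestrict_surjective).trans hRdim.le)
          (hsucc.trans (EGA4Alg4.ringKrullDim_le_of_integral φ.range A))
      have : IsDomain R := NoZeroDivisors.to_isDomain _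
      have hinj := CAlg6.injective_of_surjective_of_ringKrullDim_eq φ.rangeRestrict φ.rangeRestrict_surjective
        (s.card + 1) hRdim hrange
      exact fun a b hab => hinj (Subtype.ext hab)
    · exfalso
      refine hq0 ?_
      have h1 : (p : ResidueField A) = 0 := by rw [← map_natCast (residue A), CharP.cast_eq_zero A p, map_zero]
      obtain ⟨c, hc'⟩ : q' ∣ p := (CharP.cast_eq_zero_iff (ResidueField A) q' p).1 h1
      rcases hp.eq_one_or_self_of_dvd q' ⟨c, hc'⟩ with h | h
      · exact absurd h (CharP.char_ne_one (ResidueField A) q')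
      · rw [h]; exact CharP.cast_eq_zero A p

/-- complete Noetherian local domains are regular on a nonempty open -/
theorem regAway_of_complete (A : Type u) [CommRing A] [IsDomain A] [IsLocalRing A] [IsNoetherianRing A]
    [IsAdicComplete (maximalIdeal A) A] : ∃ g : A, g ≠ 0 ∧ RegAway A g := by
  classical
  obtain ⟨R, _, _, hR, _, hfin, hinj, hfam⟩ := exists_finite_regular A
  have : FaithfulSMul R A := (faithfulSMul_iff_algebraMap_injective R A).2 hinj
  obtain ⟨p, hp⟩ := CharP.exists A
  rcases CharP.char_is_prime_or_zero A p with hpp | rfl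
  · have : Fact p.Prime := ⟨hpp⟩
    obtain ⟨F⟩ := hfam p hpp hp
    have : CharP R p := (RingHom.charP_iff _ hinj p).2 hp
    exact regAway_of_derivations p 1 one_ne_zero (regAway_one R) (fun C _ _ _ _ _ a ha => F.exists_derivation C a ha) A
  · have : CharZero A := CharP.charP_to_charZero A
    let L := FractionRing A
    have hinjL : Function.Injective (algebraMap R L) := by
      rw [IsScalarTower.algebraMap_eq R A L]
      exact (IsFractionRing.injective A L).comp hinj
    have : FaithfulSMul R L := (faithfulSMul_iff_algebraMap_injective R L).2 hinjL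
    letI := FractionRing.liftAlgebra R L
    have : IsScalarTower R (FractionRing R) L := FractionRing.isScalarTower_liftAlgebra R L
    have : CharP R 0 := (RingHom.charP_iff _ hinj 0).2 hp
    have : CharZero R := CharP.charP_to_charZero R
    have : CharZero (FractionRing R) := charZero_of_injective_algebraMap (IsFractionRing.injective R (FractionRing R))
    have : Module.Finite (FractionRing R) L := OmegaHat14.finite_fractionRing R A
    obtain ⟨T, hT⟩ := (Module.Finite.fg_top : (⊤ : Submodule R A).FG)
    let X := T.image (algebraMap A L)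
    obtain ⟨h, h0, hh⟩ := exists_regAway_adjoin 1 one_ne_zero (regAway_one R) X fun x _ => Algebra.IsSeparable.isSeparable _ x
    have heq : Algebra.adjoin R (X : Set L) = (IsScalarTower.toAlgHom R A L).range := by
      rw [show (X : Set L) = IsScalarTower.toAlgHom R A L '' (T : Set A) from Finset.coe_image, ← AlgHom.map_adjoin,
        ← Algebra.map_top]
      congr 1
      refine top_le_iff.1 fun z _ => ?_
      exact (Submodule.span_le.2 Algebra.subset_adjoin : Submodule.span R (T : Set A) ≤ (Algebra.adjoin R (T : Set A)).toSubmodule)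
        (hT ▸ Submodule.mem_top)
    let e : Algebra.adjoin R (X : Set L) ≃+* A :=
      ((Subalgebra.equivOfEq _ _ heq).trans
        (AlgEquiv.ofInjective (IsScalarTower.toAlgHom R A L) (IsFractionRing.injective A L)).symm).toRingEquiv
    exact ⟨e h, (map_ne_zero_iff _ e.injective).2 h0, hh.of_equiv e⟩

/-- finite local algebras over complete Noetherian local rings are complete -/
theorem isAdicComplete_maximalIdeal_of_finite (A B : Type u) [CommRing A] [IsLocalRing A] [IsNoetherianRing A]
    [IsAdicComplete (maximalIdeal A) A] [CommRing B] [IsLocalRing B] [IsNoetherianRing B] [Algebra A B]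
    [Module.Finite A B] : IsAdicComplete (maximalIdeal B) B := by
  let J := (maximalIdeal A).map (algebraMap A B)
  have : IsAdicComplete J B := SGA3a.isAdicComplete_map_of_finite B
  have hrad : maximalIdeal B ≤ J.radical := by
    rw [Ideal.radical_eq_sInf]
    refine le_sInf fun P ⟨hP, hPp⟩ => ?_
    have hle : maximalIdeal A ≤ P.comap (algebraMap A B) := Ideal.map_le_iff_le_comap.1 hP
    have : (P.comap (algebraMap A B)).IsMaximal :=
      ((maximalIdeal.isMaximal A).eq_of_le (Ideal.IsPrime.comap _).ne_top hle) ▸ maximalIdeal.isMaximal A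
    exact (IsLocalRing.eq_maximalIdeal (Ideal.isMaximal_of_isIntegral_of_isMaximal_comap (R := A) P this)).ge
  obtain ⟨N, hN⟩ := Ideal.exists_pow_le_of_le_radical_of_fg hrad (IsNoetherian.noetherian _)
  have : IsAdicComplete (maximalIdeal B ^ (N + 1)) B :=
    CAlg1.isAdicComplete_of_le (J := J) ((Ideal.pow_le_pow_right N.le_succ).trans hN) (IsNoetherian.noetherian _)
  exact Frg27.isAdicComplete_of_pow (N := N)

theorem isJ2_of_complete (A : Type u) [CommRing A] [IsNoetherianRing A] [IsLocalRing A]
    [IsAdicComplete (maximalIdeal A) A] : EGA4.IsJ2 A := by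
  rw [isJ2_iff]
  intro B _ _ _ _
  have hloc : IsLocalRing B := by
    by_contra h
    obtain ⟨e, he, h0, h1⟩ := SGA3a.exists_nontrivial_idempotent (A := A) (C := B) h
    rcases IsIdempotentElem.iff_eq_zero_or_one.1 he with h' | h'
    · exact h0 h'
    · exact h1 h'
  have : IsNoetherianRing B := isNoetherian_of_tower A inferInstance
  have : IsAdicComplete (maximalIdeal B) B := isAdicComplete_maximalIdeal_of_finite A B
  obtain ⟨g, hg0, hg⟩ := regAway_of_complete B
  exact ⟨PrimeSpectrum.basicOpen g, (PrimeSpectrum.basicOpen g).2,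
    ⟨⟨⊥, Ideal.isPrime_bot⟩, hg0⟩, fun P hP => hg P.asIdeal hP⟩

end Groth.Agent.EGA4H10
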