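import Groth.Agent.EGA4H10.FormalDer
import Groth.Agent.EGA4Alg4.RegCompletion
import Mathlib

/-!
# Generic formal fibres of a regular ring with enough derivations are geometrically regular
-/

set_option autoImplicit false
set_option linter.style.haveILetI false
universe u

open IsLocalRing TensorProduct Polynomial

namespace Groth.Agent.EGA4H10

theorem exists_derivation_of_addHom {X : Type u} [CommRing X] (D : X →+ X)
    (h : ∀ a b, D (a * b) = a * D b + b * D a) : ∃ Δ : Derivation ℤ X X, ∀ x, Δ x = D x :=
  ⟨Derivation.mk' (AddMonoidHom.toIntLinearMap D) h, fun _ => rfl⟩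

/-- derivations of a domain extend to its fraction field -/
theorem exists_derivation_frac {C L : Type u} [CommRing C] [IsDomain C] [Field L] [Algebra C L] [IsFractionRing C L]
    (D : Derivation ℤ C C) : ∃ δ : Derivation ℤ L L, ∀ c, δ (algebraMap C L c) = algebraMap C L (D c) := by
  obtain ⟨h, hh1, hh2⟩ := exists_dualHom (T := L) (M := L) ((Algebra.linearMap C L).compDer D)
  have hu : ∀ s : nonZeroDivisors C, IsUnit (h s) := fun s => by
    rw [TrivSqZeroExt.isUnit_iff_isUnit_fst, hh1]
    exact IsLocalization.map_units L s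
  let ψ : L →+* TrivSqZeroExt L L := IsLocalization.lift hu
  have hfst : ∀ l, (ψ l).fst = l := by
    intro l
    have : (fstRing L L).comp ψ = RingHom.id L := by
      refine IsLocalization.ringHom_ext (nonZeroDivisors C) (RingHom.ext fun c => ?_)
      simp [ψ, hh1, IsLocalization.lift_eq, fstRing_apply]
    exact RingHom.congr_fun this l
  obtain ⟨d', hl, hd'⟩ := exists_der_of_dual ψ hfst
  obtain ⟨δ, hδ⟩ := exists_derivation_of_addHom d' hl
  refine ⟨δ, fun c => ?_⟩
  rw [hδ, hd', IsLocalization.lift_eq, hh2]
  rfl

theorem isRegularRing_of_regAway_one {X : Type u} [CommRing X] [IsNoetherianRing X] (h : RegAway X 1) :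
    IsRegularRing X :=
  isRegularRing_iff.2 fun P _ => h P (P.ne_top_iff_one.1 ‹P.IsPrime›.ne_top)

theorem regular_atPrime_of_isRegularRing {X : Type u} [CommRing X] [IsRegularRing X] (P : Ideal X) [P.IsPrime] :
    IsRegularLocalRing (Localization.AtPrime P) :=
  isRegularRing_iff.1 inferInstance P

/-- localizations of regular rings are regular -/
theorem isRegularRing_localization {X : Type u} [CommRing X] [IsRegularRing X] (M : Submonoid X) (Y : Type u)
    [CommRing Y] [Algebra X Y] [IsLocalization M Y] : IsRegularRing Y := by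
  have : IsNoetherianRing Y := IsLocalization.isNoetherianRing M Y inferInstance
  refine isRegularRing_iff.2 fun P _ => ?_
  have := regular_atPrime_of_isRegularRing (P.comap (algebraMap X Y))
  have : IsLocalization.AtPrime (Localization.AtPrime P) (P.comap (algebraMap X Y)) :=
    IsLocalization.isLocalization_isLocalization_atPrime_isLocalization M (Localization.AtPrime P) P
  exact IsRegularLocalRing.of_ringEquiv (IsLocalization.algEquiv (P.comap (algebraMap X Y)).primeCompl
    (Localization.AtPrime (P.comap (algebraMap X Y))) (Localization.AtPrime P)).toRingEquiv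

/-- étale algebras over regular rings are regular -/
theorem isRegularRing_of_etale {X Y : Type u} [CommRing X] [IsRegularRing X] [CommRing Y] [Algebra X Y]
    [Algebra.Etale X Y] : IsRegularRing Y := by
  have : IsNoetherianRing Y := Algebra.FiniteType.isNoetherianRing X Y
  refine isRegularRing_iff.2 fun Q _ => ?_
  have : Algebra.IsEtaleAt X Q := inferInstance
  have := regular_atPrime_of_isRegularRing (Q.comap (algebraMap X Y))
  exact regular_of_etaleAt (R := X) Q

/-- adjoining a root of `Y ^ q - A` with `D A` a unit -/
theorem isRegularRing_of_root {X Y : Type u} [CommRing X] [IsRegularRing X] [CommRing Y] (φ : X →+* Y) (y : Y) (A : X)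
    {q : ℕ} (hq : 0 < q) (hy : y ^ q = φ A) (D0 : X →+ X) (hleib : ∀ a b, D0 (a * b) = a * D0 b + b * D0 a)
    (hA : IsUnit (D0 A)) (hsurj : Function.Surjective (Polynomial.eval₂RingHom φ y))
    (hπ : ∀ i < q, ∃ π : Y →+ X, ∀ x, ∀ j < q, π (φ x * y ^ j) = if j = i then x else 0) : IsRegularRing Y := by
  classical
  rcases subsingleton_or_nontrivial Y with hY | hY
  · have : IsNoetherianRing Y := inferInstance
    exact isRegularRing_iff.2 fun P hP => absurd (Subsingleton.elim P ⊤) hP.ne_top
  have : Nontrivial X := φ.domain_nontrivial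
  let F : X[X] := Polynomial.X ^ q - Polynomial.C A
  have hFm : F.Monic := monic_X_pow_sub_C _ hq.ne'
  let f : X[X] →+* Y := Polynomial.eval₂RingHom φ y
  have hFy : f F = 0 := by simp [f, F, hy]
  have hker : RingHom.ker f = Ideal.span {F} := by
    refine le_antisymm (fun g hg => ?_) ((Ideal.span_singleton_le_iff_mem _).2 hFy)
    rw [Ideal.mem_span_singleton]
    refine (Polynomial.modByMonic_eq_zero_iff_dvd hFm).1 ?_
    have hr0 : f (g %ₘ F) = 0 := by
      have h1 : f g = 0 := hg
      rwa [← Polynomial.modByMonic_add_div g F, map_add, map_mul, hFy, zero_mul, add_zero] at h1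
    have hdeg : (g %ₘ F).degree < q := (degree_modByMonic_lt g hFm).trans_le (by rw [degree_X_pow_sub_C hq])
    ext i
    rw [coeff_zero]
    by_cases hi : i < q
    · obtain ⟨π, hπ⟩ := hπ i hi
      rcases eq_or_ne (g %ₘ F) 0 with h0 | h0
      · simp [h0]
      · have hn : (g %ₘ F).natDegree < q := (natDegree_lt_iff_degree_lt h0).2 hdeg
        have h2 := congrArg π hr0
        rw [show f (g %ₘ F) = (g %ₘ F).eval₂ φ y from rfl, eval₂_eq_sum_range' φ hn, map_sum, map_zero,
          Finset.sum_eq_single i (fun j hj hne => by rw [hπ _ j (Finset.mem_range.1 hj), if_neg hne])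
            (fun h => absurd (Finset.mem_range.2 hi) h), hπ _ i hi, if_pos rfl] at h2
        exact h2
    · exact coeff_eq_zero_of_degree_lt (hdeg.trans_le (by exact_mod_cast not_lt.1 hi))
  obtain ⟨D, hD⟩ := exists_derivation_of_addHom D0 hleib
  have : IsNoetherianRing Y := isNoetherianRing_of_surjective _ _ f hsurj
  refine isRegularRing_iff.2 fun Q _ => ?_
  have hXP : RegAway X 1 := fun P _ _ => regular_atPrime_of_isRegularRing P
  have := regAway_polynomial 1 hXP (Q.comap f) (by
    rw [map_one]; exact (Ideal.ne_top_iff_one _).1 (Ideal.IsPrime.comap f).ne_top)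
  letI : Differential X := ⟨D⟩
  refine regular_quotient_of_derivation f hsurj F hker Differential.mapCoeffs Q ?_
  have hΔ : Differential.mapCoeffs F = -Polynomial.C (D0 A) := by
    rw [show F = Polynomial.X ^ q - Polynomial.C A from rfl, map_sub, Derivation.leibniz_pow,
      Differential.mapCoeffs_X, smul_zero, smul_zero, zero_sub, Differential.mapCoeffs_C, ← hD]
    rfl
  rw [hΔ, neg_mem_iff]
  exact fun hm => (Ideal.IsPrime.comap f).ne_top (Ideal.eq_top_of_isUnit_mem _ hm (hA.map Polynomial.C))

section

variable {R : Type u} [CommRing R] [IsDomain R] [IsRegularRing R] (p : Ideal R) [p.IsPrime]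

theorem isRegularRing_cplAt : IsRegularRing (EGA4.Cpl (Localization.AtPrime p)) :=
  have : IsRegularRing (Localization.AtPrime p) := isRegularRing_localization p.primeCompl _
  EGA4Alg4.RegCompletion13.isRegularRing_adicCompletion (A := Localization.AtPrime p) (maximalIdeal _)

variable (L : Type u) [Field L] [Algebra R L]

/-- the separable case -/
theorem isRegularRing_tensor_separable [FaithfulSMul R L] [Algebra (FractionRing R) L]
    [IsScalarTower R (FractionRing R) L] [Module.Finite (FractionRing R) L] [Algebra.IsSeparable (FractionRing R) L] :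
    IsRegularRing (L ⊗[R] EGA4.Cpl (Localization.AtPrime p)) := by
  let K := FractionRing R
  let T := EGA4.Cpl (Localization.AtPrime p)
  have := isRegularRing_cplAt p
  have hTK : IsRegularRing (T ⊗[R] K) :=
    isRegularRing_localization (Algebra.algebraMapSubmonoid T (nonZeroDivisors R)) _
  have : Algebra.FormallyEtale K L := Algebra.FormallyEtale.of_isSeparable K L
  have : Algebra.FinitePresentation K L := Algebra.FinitePresentation.of_finiteType.mp inferInstance
  have : Algebra.Etale K L := {}
  let X0 := K ⊗[R] T
  have : IsRegularRing X0 := IsRegularRing.of_ringEquiv (Algebra.TensorProduct.comm R T K).toRingEquiv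
  have : IsRegularRing (X0 ⊗[K] L) := isRegularRing_of_etale (X := X0)
  let e1 := (Algebra.TensorProduct.comm K L X0).toRingEquiv
  let e2 := (Algebra.TensorProduct.cancelBaseChange R K L L T).toRingEquiv
  exact IsRegularRing.of_ringEquiv (R := X0 ⊗[K] L) (e1.symm.trans e2)

variable {L}

/-- one purely inseparable step -/
theorem isRegularRing_tensor_step {E : Type u} [Field E] [Algebra R E] [Algebra E L] [IsScalarTower R E L]
    (q : ℕ) [Fact q.Prime] (δ : Derivation ℤ E E) (N : Submodule R E) [Module.Finite R N]
    (hN : ∀ r : R, δ (algebraMap R E r) ∈ N) (y : L) (a : E) (hy : y ^ q = algebraMap E L a) (ha : δ a ≠ 0)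
    [CharP E q] (hgen : IntermediateField.adjoin E {y} = ⊤) (hnot : ∀ b : E, b ^ q ≠ a)
    [IsRegularRing (E ⊗[R] EGA4.Cpl (Localization.AtPrime p))] :
    IsRegularRing (L ⊗[R] EGA4.Cpl (Localization.AtPrime p)) := by
  classical
  let T := EGA4.Cpl (Localization.AtPrime p)
  let X := E ⊗[R] T
  let Y := L ⊗[R] T
  have hq : 0 < q := (Fact.out : q.Prime).pos
  let φ : X →+* Y := (Algebra.TensorProduct.map (IsScalarTower.toAlgHom R E L) (AlgHom.id R T)).toRingHom
  have hφ : ∀ (e : E) (t : T), φ (e ⊗ₜ t) = algebraMap E L e ⊗ₜ t := fun e t => rfl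
  have hirr : Irreducible (Polynomial.X ^ q - Polynomial.C a) := X_pow_sub_C_irreducible_of_prime Fact.out hnot
  have hint : IsIntegral E y := ⟨Polynomial.X ^ q - Polynomial.C a, monic_X_pow_sub_C _ hq.ne', by simp [hy]⟩
  have hmin : minpoly E y = Polynomial.X ^ q - Polynomial.C a :=
    (minpoly.eq_of_irreducible_of_monic hirr (by simp [hy]) (monic_X_pow_sub_C _ hq.ne')).symm
  let pb : PowerBasis E L :=
    (IntermediateField.adjoin.powerBasis hint).map ((IntermediateField.equivOfEq hgen).trans IntermediateField.topEquiv)
  have hdim : pb.dim = q := by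
    simp [pb, hmin, natDegree_X_pow_sub_C]
  have hpgen : pb.gen = y := by simp [pb]
  have hbasis : ∀ i : Fin pb.dim, pb.basis i = y ^ (i : ℕ) := fun i => by rw [pb.basis_eq_pow, hpgen]
  obtain ⟨D0, hleib, hD0⟩ := exists_derivation_tensor p E δ N hN
  refine isRegularRing_of_root φ (y ⊗ₜ[R] (1 : T)) (a ⊗ₜ[R] (1 : T)) hq ?_ D0 hleib ?_ ?_ ?_
  · rw [Algebra.TensorProduct.tmul_pow, one_pow, hy, hφ]
  · rw [hD0]
    exact IsUnit.map (Algebra.TensorProduct.includeLeft : E →ₐ[R] X) ha.isUnit
  · intro z
    induction z using TensorProduct.induction_on with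
    | zero => exact ⟨0, map_zero _⟩
    | add z z' hz hz' =>
      obtain ⟨g, rfl⟩ := hz; obtain ⟨g', rfl⟩ := hz'
      exact ⟨g + g', map_add _ g g'⟩
    | tmul l t =>
      refine ⟨∑ i : Fin pb.dim, Polynomial.C (pb.basis.repr l i ⊗ₜ[R] t) * Polynomial.X ^ (i : ℕ), ?_⟩
      rw [map_sum]
      conv_rhs => rw [← pb.basis.sum_repr l, TensorProduct.sum_tmul]
      refine Finset.sum_congr rfl fun i _ => ?_
      rw [coe_eval₂RingHom, eval₂_mul, eval₂_C, eval₂_X_pow, hφ, Algebra.TensorProduct.tmul_pow, one_pow,
        Algebra.TensorProduct.tmul_mul_tmul, mul_one, hbasis, Algebra.smul_def]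
  · intro i hi
    let i' : Fin pb.dim := ⟨i, by omega⟩
    refine ⟨(TensorProduct.map ((pb.basis.coord i').restrictScalars R) (LinearMap.id : T →ₗ[R] T)).toAddMonoidHom,
      fun x j hj => ?_⟩
    let j' : Fin pb.dim := ⟨j, by omega⟩
    show TensorProduct.map ((pb.basis.coord i').restrictScalars R) LinearMap.id (φ x * (y ⊗ₜ[R] (1 : T)) ^ j) = _
    induction x using TensorProduct.induction_on with
    | zero => simp
    | add x x' hx hx' => rw [map_add, add_mul, map_add, hx, hx']; split_ifs <;> simp
    | tmul e t =>
      rw [hφ, Algebra.TensorProduct.tmul_pow, one_pow, Algebra.TensorProduct.tmul_mul_tmul, mul_one,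
        show y ^ j = pb.basis j' from (hbasis j').symm, ← Algebra.smul_def, TensorProduct.map_tmul,
        LinearMap.restrictScalars_apply, Module.Basis.coord_apply, map_smul, Module.Basis.repr_self,
        Finsupp.smul_apply, Finsupp.single_apply]
      simp only [j', i', Fin.mk.injEq]
      split_ifs <;> simp

theorem exists_generators (E : Type u) [Field E] [Algebra R E] [FaithfulSMul R E] [Algebra (FractionRing R) E]
    [IsScalarTower R (FractionRing R) E] [Module.Finite (FractionRing R) E] (a : E) :
    ∃ (C : Subalgebra R E) (c : C) (s : R), s ≠ 0 ∧ Module.Finite R C ∧ IsFractionRing C E ∧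
      (c : E) = algebraMap R E s * a := by
  classical
  have halg : Algebra.IsAlgebraic R E := (IsFractionRing.comap_isAlgebraic_iff (A := R) (K := FractionRing R)).2
    inferInstance
  let b := Module.finBasis (FractionRing R) E
  choose t ht using fun x : E => (Algebra.IsAlgebraic.isAlgebraic (R := R) x).exists_integral_multiple
  let G : Finset E := insert (t a • a) (Finset.univ.image fun i => t (b i) • b i)
  have hG : ∀ x ∈ G, IsIntegral R x := fun x hx => by
    rcases Finset.mem_insert.1 hx with rfl | hx
    · exact (ht a).2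
    · obtain ⟨i, -, rfl⟩ := Finset.mem_image.1 hx; exact (ht _).2
  let C := Algebra.adjoin R (G : Set E)
  have hfin : Module.Finite R C := Module.Finite.iff_fg.2 (fg_adjoin_of_finite G.finite_toSet hG)
  refine ⟨C, ⟨t a • a, Algebra.subset_adjoin (Finset.mem_insert_self _ _)⟩, t a, (ht a).1, hfin, ?_, Algebra.smul_def _ _⟩
  have : FaithfulSMul C E := (faithfulSMul_iff_algebraMap_injective C E).2 Subtype.val_injective
  refine IsFractionRing.of_field C E fun z => ?_
  let V : Submodule R E := C.toSubmodule
  have hz : z ∈ Submodule.span (FractionRing R) (V : Set E) := by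
    have : Submodule.span (FractionRing R) (Set.range b) ≤ Submodule.span (FractionRing R) (V : Set E) := by
      refine Submodule.span_le.2 ?_
      rintro _ ⟨i, rfl⟩
      have h0 : algebraMap R (FractionRing R) (t (b i)) ≠ 0 :=
        (map_ne_zero_iff _ (IsFractionRing.injective R _)).2 (ht _).1
      rw [show b i = (algebraMap R (FractionRing R) (t (b i)))⁻¹ • (t (b i) • b i) by
        rw [← algebraMap_smul (FractionRing R) (t (b i)), smul_smul, inv_mul_cancel₀ h0, one_smul]]
      exact Submodule.smul_mem _ _ (Submodule.subset_span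
        (Algebra.subset_adjoin (Finset.mem_insert_of_mem (Finset.mem_image_of_mem _ (Finset.mem_univ i)))))
    exact this (b.span_eq ▸ Submodule.mem_top)
  obtain ⟨n, w, hw, hnz⟩ : ∃ n : R, ∃ w ∈ V, n ≠ 0 ∧ n • z = w := by
    induction hz using Submodule.span_induction with
    | mem x hx => exact ⟨1, x, hx, one_ne_zero, one_smul _ _⟩
    | zero => exact ⟨1, 0, V.zero_mem, one_ne_zero, smul_zero _⟩
    | add x x' _ _ hx hx' =>
      obtain ⟨n, w, hw, hn, h⟩ := hx
      obtain ⟨n', w', hw', hn', h'⟩ := hx'
      refine ⟨n * n', n' • w + n • w', V.add_mem (V.smul_mem _ hw) (V.smul_mem _ hw'), mul_ne_zero hn hn', ?_⟩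
      rw [smul_add, ← h, ← h', smul_smul, smul_smul, mul_comm n n']
    | smul k x _ hx =>
      obtain ⟨n, w, hw, hn, h⟩ := hx
      obtain ⟨u, v, hv, rfl⟩ := IsFractionRing.div_surjective (A := R) k
      refine ⟨n * v, u • w, V.smul_mem _ hw, mul_ne_zero hn (nonZeroDivisors.ne_zero hv), ?_⟩
      rw [← h, smul_smul, ← algebraMap_smul (FractionRing R) (n * v), ← algebraMap_smul (FractionRing R) (u * n), smul_smul]
      congr 1
      rw [map_mul, map_mul, mul_assoc, mul_div_cancel₀ _ (IsFractionRing.to_map_ne_zero_of_mem_nonZeroDivisors hv), mul_comm]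
  refine ⟨⟨w, hw⟩, algebraMap R C n, ?_⟩
  show z = w / algebraMap R E n
  rw [eq_div_iff ((map_ne_zero_iff _ (FaithfulSMul.algebraMap_injective R E)).2 hnz.1), mul_comm, ← Algebra.smul_def, hnz.2]

/-- generic formal fibres are geometrically regular -/
theorem isRegularRing_tensor_cpl (q : ℕ) [Fact q.Prime] [CharP R q]
    (hder : ∀ (C : Type u) [CommRing C] [IsDomain C] [Algebra R C] [Module.Finite R C] [FaithfulSMul R C]
      (a : C), (∀ y : FractionRing C, y ^ q ≠ algebraMap C (FractionRing C) a) → ∃ D : Derivation ℤ C C, D a ≠ 0) :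
    ∀ (d : ℕ) (L : Type u) [Field L] [Algebra R L] [FaithfulSMul R L] [Algebra (FractionRing R) L]
      [IsScalarTower R (FractionRing R) L] [Module.Finite (FractionRing R) L],
      Module.finrank (FractionRing R) L ≤ d → IsRegularRing (L ⊗[R] EGA4.Cpl (Localization.AtPrime p)) := by
  intro d
  induction d with
  | zero => intro L _ _ _ _ _ _ hd; exact absurd hd (not_le.2 Module.finrank_pos)
  | succ d ih =>
    intro L _ _ _ _ _ _ hd
    classical
    let K := FractionRing R
    have : CharP L q := charP_of_injective_algebraMap (FaithfulSMul.algebraMap_injective R L) q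
    have : CharP K q := charP_of_injective_algebraMap (IsFractionRing.injective R K) q
    have : ExpChar K q := .prime Fact.out
    by_cases hsep : separableClosure K L = ⊤
    · have : Algebra.IsSeparable K L := ⟨fun x => mem_separableClosure_iff.1 (hsep ▸ IntermediateField.mem_top)⟩
      exact isRegularRing_tensor_separable p L
    · -- a maximal proper intermediate field containing the separable closure
      have hex : ∃ n, ∃ M : IntermediateField K L, separableClosure K L ≤ M ∧ M ≠ ⊤ ∧
          Module.finrank K L - Module.finrank K M = n := ⟨_, _, le_rfl, hsep, rfl⟩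
      obtain ⟨M, hM, hMtop, hMn⟩ := Nat.find_spec hex
      have hmax : ∀ M' : IntermediateField K L, M < M' → M' = ⊤ := by
        intro M' h
        by_contra hne
        have h1 := Nat.find_min' hex ⟨M', hM.trans h.le, hne, rfl⟩
        have h2 : Module.finrank K M < Module.finrank K M' :=
          Submodule.finrank_lt_finrank_of_lt (SetLike.lt_iff_le_and_exists.2
            ⟨fun x hx => h.le hx, SetLike.exists_of_lt h⟩ : M.toSubmodule < M'.toSubmodule)
        have h3 : Module.finrank K M' ≤ Module.finrank K L := Submodule.finrank_le M'.toSubmodule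
        omega
      obtain ⟨x, -, hx⟩ := SetLike.exists_of_lt (lt_top_iff_ne_top.2 hMtop)
      have hpow : ∃ m, x ^ q ^ m ∈ M := by
        obtain ⟨m, z, hz⟩ := IsPurelyInseparable.pow_mem (F := separableClosure K L) q x
        exact ⟨m, hM (hz ▸ z.2)⟩
      have hm0 : Nat.find hpow ≠ 0 := fun h => hx (by simpa [h] using Nat.find_spec hpow)
      let y := x ^ q ^ (Nat.find hpow - 1)
      have hyM : y ∉ M := Nat.find_min hpow (by omega)
      have hyq : y ^ q ∈ M := by
        rw [show y ^ q = x ^ q ^ Nat.find hpow by rw [← pow_mul, ← pow_succ, Nat.sub_add_cancel (Nat.one_le_iff_ne_zero.2 hm0)]]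
        exact Nat.find_spec hpow
      let a : M := ⟨y ^ q, hyq⟩
      have hnot : ∀ b : M, b ^ q ≠ a := fun b hb => hyM (by
        have h : (b : L) ^ q = y ^ q := congrArg Subtype.val hb
        rw [← frobenius_inj L q h]
        exact b.2)
      have hgen : IntermediateField.adjoin M {y} = ⊤ := by
        have hlt : M < (IntermediateField.adjoin M {y}).restrictScalars K :=
          SetLike.lt_iff_le_and_exists.2 ⟨fun z hz => (IntermediateField.adjoin M {y}).algebraMap_mem ⟨z, hz⟩,
            y, IntermediateField.mem_adjoin_simple_self M y, hyM⟩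
        exact IntermediateField.restrictScalars_eq_top_iff.1 (hmax _ hlt)
      have : FaithfulSMul R M := (faithfulSMul_iff_algebraMap_injective R M).2 fun r r' h =>
        FaithfulSMul.algebraMap_injective R L (congrArg Subtype.val h)
      have hMd : Module.finrank K M ≤ d := by
        have : Module.finrank K M < Module.finrank K L :=
          Submodule.finrank_lt (s := M.toSubmodule) fun h => hMtop (IntermediateField.toSubalgebra_injective
            (Subalgebra.toSubmodule.injective (h.trans Algebra.top_toSubmodule.symm)))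
        have hd' : Module.finrank K L ≤ d + 1 := hd
        omega
      have : IsScalarTower R M L := IsScalarTower.of_algebraMap_eq fun r => rfl
      have := ih M hMd
      have : CharP M q := charP_of_injective_algebraMap (algebraMap K M).injective q
      obtain ⟨C, c, s, hs, hC, hCfrac, hcs⟩ := exists_generators (R := R) M a
      have : FaithfulSMul R C := (faithfulSMul_iff_algebraMap_injective R C).2 fun r r' h =>
        FaithfulSMul.algebraMap_injective R M (congrArg Subtype.val h)
      let c' : C := algebraMap R C (s ^ (q - 1)) * c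
      have hc' : (c' : M) = algebraMap R M s ^ q * a := by
        show algebraMap R M (s ^ (q - 1)) * (c : M) = _
        rw [hcs, map_pow, ← mul_assoc, ← pow_succ, Nat.sub_add_cancel (Fact.out : q.Prime).one_le]
      have hsM : algebraMap R M s ≠ 0 := (map_ne_zero_iff _ (FaithfulSMul.algebraMap_injective R M)).2 hs
      obtain ⟨D, hD⟩ := hder C c' fun w hw => hnot
        ((IsLocalization.algEquiv (nonZeroDivisors C) (FractionRing C) M w) / algebraMap R M s) (by
          rw [div_pow, ← map_pow, hw, AlgEquiv.commutes, div_eq_iff (pow_ne_zero _ hsM), mul_comm]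
          exact hc')
      obtain ⟨δ, hδ⟩ := exists_derivation_frac (L := M) D
      have : Module.Finite R (Subalgebra.toSubmodule C) := hC
      refine isRegularRing_tensor_step p q δ (Subalgebra.toSubmodule C) (fun r => ?_) y a rfl ?_ hgen hnot
      · rw [IsScalarTower.algebraMap_apply R C M, hδ]
        exact (D (algebraMap R C r)).2
      · intro h0
        refine hD (Subtype.val_injective ?_)
        have h1 : δ (algebraMap C M c') = algebraMap C M (D c') := hδ c'
        rw [show algebraMap C M c' = algebraMap R M s ^ q * a from hc', Derivation.leibniz, h0, Derivation.leibniz_pow,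
          ← Nat.cast_smul_eq_nsmul M q, CharP.cast_eq_zero M q, smul_zero, zero_smul, smul_zero, add_zero] at h1
        exact h1.symm

end

end Groth.Agent.EGA4H10
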