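import Groth.Prelude.Def_EGA4b
import Groth.Prelude.Def_Found
import Groth.Agent.CAlg1.Catenary
import Groth.Agent.EGA4H10.CplQuot
import Mathlib

/-!
# Regular homomorphisms under ring isomorphisms; localization of J-2 rings
-/

set_option autoImplicit false
universe u
open TensorProduct

namespace Groth.Agent.EGA4H10

theorem isRegularHom_of_algEquiv {R S S' : Type u} [CommRing R] [CommRing S] [CommRing S'] [Algebra R S] [Algebra R S']
    (f : S ≃ₐ[R] S') (h : CAlg.IsRegularHom R S) : CAlg.IsRegularHom R S' := by
  refine ⟨have := h.1; Module.Flat.of_linearEquiv f.symm.toLinearEquiv, fun p _ => ?_⟩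
  obtain ⟨hN, hG⟩ := h.2 p
  let e : p.Fiber S ≃ₐ[p.ResidueField] p.Fiber S' := Algebra.TensorProduct.congr AlgEquiv.refl f
  refine ⟨isNoetherianRing_of_ringEquiv _ e.toRingEquiv, fun k' _ _ hk => ?_⟩
  have := hG k' hk
  exact IsRegularRing.of_ringEquiv (R := k' ⊗[p.ResidueField] p.Fiber S)
    (Algebra.TensorProduct.congr (AlgEquiv.refl (R := k') (A₁ := k')) e).toRingEquiv

theorem isRegularHom_of_surjective_base {R R' S : Type u} [CommRing R] [CommRing R'] [CommRing S] [Algebra R R']
    [Algebra R S] [Algebra R' S] [IsScalarTower R R' S] (hb : Function.Bijective (algebraMap R R'))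
    (h : CAlg.IsRegularHom R S) : CAlg.IsRegularHom R' S := by
  have : IsLocalization (⊥ : Submonoid R) R := IsLocalization.self bot_le
  have : IsLocalization (⊥ : Submonoid R) R' :=
    IsLocalization.isLocalization_of_algEquiv ⊥ (AlgEquiv.ofBijective (Algebra.ofId R R') hb)
  refine ⟨(Module.flat_iff_of_isLocalization R' (⊥ : Submonoid R) S).mpr h.1, fun p' _ => ?_⟩
  let p := p'.comap (algebraMap R R')
  obtain ⟨hN, hG⟩ := h.2 p
  let g : p.ResidueField →ₐ[R] p'.ResidueField := Ideal.ResidueField.mapₐ p p' (Algebra.ofId R R') rfl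
  have : TensorProduct.CompatibleSMul R R' p'.ResidueField S := ⟨fun r' x y => by
    obtain ⟨r, rfl⟩ := hb.2 r'
    rw [algebraMap_smul, algebraMap_smul, TensorProduct.smul_tmul]⟩
  let : Algebra p.ResidueField p'.ResidueField := g.toRingHom.toAlgebra
  have : IsScalarTower R p.ResidueField p'.ResidueField := .of_algebraMap_eq fun r => (g.commutes r).symm
  have hgsurj : Function.Surjective g := by
    intro x
    obtain ⟨a, b, hb', rfl⟩ := IsFractionRing.div_surjective (A := R' ⧸ p') x
    obtain ⟨a, rfl⟩ := Ideal.Quotient.mk_surjective a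
    obtain ⟨b, rfl⟩ := Ideal.Quotient.mk_surjective b
    obtain ⟨a, rfl⟩ := hb.2 a
    obtain ⟨b, rfl⟩ := hb.2 b
    refine ⟨algebraMap R _ a / algebraMap R _ b, ?_⟩
    rw [map_div₀, g.commutes, g.commutes, ← Ideal.Quotient.algebraMap_eq,
      ← IsScalarTower.algebraMap_apply, ← IsScalarTower.algebraMap_apply,
      ← IsScalarTower.algebraMap_apply, ← IsScalarTower.algebraMap_apply]
  let mp : p.ResidueField ⊗[R] S →ₐ[R] p'.ResidueField ⊗[R] S := Algebra.TensorProduct.map g (AlgHom.id R S)
  let G : p.Fiber S →+* p'.Fiber S :=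
    (Algebra.TensorProduct.equivOfCompatibleSMul R R' R p'.ResidueField S).symm.toRingEquiv.toRingHom.comp mp.toRingHom
  have hG' : Function.Surjective G := by
    refine (Algebra.TensorProduct.equivOfCompatibleSMul R R' R p'.ResidueField S).symm.surjective.comp ?_
    exact TensorProduct.map_surjective hgsurj Function.surjective_id
  refine ⟨isNoetherianRing_of_surjective _ _ G hG', fun k' _ _ hk => ?_⟩
  let : Algebra p.ResidueField k' := ((algebraMap p'.ResidueField k').comp g.toRingHom).toAlgebra
  have : IsScalarTower p.ResidueField p'.ResidueField k' := .of_algebraMap_eq fun _ => rfl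
  have hk0 : Module.Finite p.ResidueField p'.ResidueField :=
    Module.Finite.of_surjective (Algebra.linearMap p.ResidueField p'.ResidueField) hgsurj
  have hk2 : Module.Finite p.ResidueField k' := Module.Finite.trans p'.ResidueField k'
  have := hG k' hk2
  let : Algebra R' k' := ((algebraMap p'.ResidueField k').comp (algebraMap R' p'.ResidueField)).toAlgebra
  have : IsScalarTower R' p'.ResidueField k' := .of_algebraMap_eq fun _ => rfl
  let : Algebra R k' := ((algebraMap R' k').comp (algebraMap R R')).toAlgebra
  have : IsScalarTower R R' k' := .of_algebraMap_eq fun _ => rfl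
  have : IsScalarTower R p.ResidueField k' := .of_algebraMap_eq fun r => by
    show algebraMap p'.ResidueField k' (algebraMap R' p'.ResidueField (algebraMap R R' r)) =
      algebraMap p'.ResidueField k' (g (algebraMap R p.ResidueField r))
    rw [g.commutes, ← IsScalarTower.algebraMap_apply R R' p'.ResidueField]
  have : TensorProduct.CompatibleSMul R R' k' S := ⟨fun r' x y => by
    obtain ⟨r, rfl⟩ := hb.2 r'
    rw [algebraMap_smul, algebraMap_smul, TensorProduct.smul_tmul]⟩
  let e1 := (Algebra.TensorProduct.cancelBaseChange R p.ResidueField k' k' S).toRingEquiv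
  let e2 := (Algebra.TensorProduct.cancelBaseChange R' p'.ResidueField k' k' S).toRingEquiv
  let e3 := (Algebra.TensorProduct.equivOfCompatibleSMul R R' R k' S).toRingEquiv
  exact IsRegularRing.of_ringEquiv (e1.trans (e3.symm.trans e2.symm))

theorem isRegularHom_of_ringEquiv {R R' S S' : Type u} [CommRing R] [CommRing R'] [CommRing S] [CommRing S']
    [Algebra R S] [Algebra R' S'] (e : R ≃+* R') (f : S ≃+* S')
    (hcomm : ∀ r, f (algebraMap R S r) = algebraMap R' S' (e r)) (h : CAlg.IsRegularHom R S) :
    CAlg.IsRegularHom R' S' := by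
  let : Algebra R R' := e.toRingHom.toAlgebra
  let : Algebra R S' := ((algebraMap R' S').comp e.toRingHom).toAlgebra
  have : IsScalarTower R R' S' := .of_algebraMap_eq fun _ => rfl
  exact isRegularHom_of_surjective_base e.bijective
    (isRegularHom_of_algEquiv (AlgEquiv.ofRingEquiv (f := f) hcomm) h)

/-- functoriality of completion in ring isomorphisms, compatible with the structure maps -/
theorem exists_cpl_equiv {R R' : Type u} [CommRing R] [CommRing R'] [IsNoetherianRing R] [IsLocalRing R]
    [IsLocalRing R'] (e : R ≃+* R') :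
    ∃ f : AdicCompletion (IsLocalRing.maximalIdeal R) R ≃+* AdicCompletion (IsLocalRing.maximalIdeal R') R',
      ∀ r, f (algebraMap R _ r) = algebraMap R' _ (e r) := by
  let : Algebra R R' := e.toRingHom.toAlgebra
  have hs : Function.Surjective (algebraMap R R') := e.surjective
  have hk : RingHom.ker (cplMap R R' hs) = ⊥ := by
    rw [ker_cplMap, show RingHom.ker (algebraMap R R') = ⊥ from (RingHom.injective_iff_ker_eq_bot e.toRingHom).mp e.injective,
      Ideal.map_bot]
  exact ⟨RingEquiv.ofBijective (cplMap R R' hs) ⟨(RingHom.injective_iff_ker_eq_bot _).mpr hk, cplMap_surjective R R' hs⟩,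
    fun r => cplMap_algebraMap R R' hs r⟩

/-- finite type algebras over a localization are localizations of finite type algebras -/
theorem exists_model {A B : Type u} [CommRing A] [CommRing B] [Algebra A B] (M : Submonoid A) [IsLocalization M B]
    (S : Type u) [CommRing S] [Algebra B S] (hS : Algebra.FiniteType B S) :
    ∃ (S' : Type u) (_ : CommRing S') (_ : Algebra A S') (_ : Algebra.FiniteType A S') (_ : Algebra S' S)
      (N : Submonoid S'), IsLocalization N S := by
  obtain ⟨s, hs⟩ := hS.1
  let : Algebra A S := ((algebraMap B S).comp (algebraMap A B)).toAlgebra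
  have : IsScalarTower A B S := IsScalarTower.of_algebraMap_eq' rfl
  let S' : Subalgebra A S := Algebra.adjoin A (s : Set S)
  have hft : Algebra.FiniteType A S' := Subalgebra.fg_iff_finiteType S' |>.mp ⟨s, rfl⟩
  let N : Submonoid S' := Algebra.algebraMapSubmonoid S' M
  have hN : IsLocalization N S := by
    refine ⟨?_, ?_, ?_⟩
    · rintro ⟨_, m, hm, rfl⟩
      show IsUnit (algebraMap A S m)
      rw [IsScalarTower.algebraMap_apply A B S]
      exact (IsLocalization.map_units B (⟨m, hm⟩ : M)).map _
    · intro z
      have hz : z ∈ Algebra.adjoin B (s : Set S) := hs ▸ trivial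
      suffices h : ∃ m ∈ M, algebraMap A S m * z ∈ S' by
        obtain ⟨m, hm, hmz⟩ := h
        refine ⟨⟨⟨_, hmz⟩, ⟨algebraMap A S' m, m, hm, rfl⟩⟩, ?_⟩
        show z * algebraMap A S m = algebraMap A S m * z
        rw [mul_comm]
      induction hz using Algebra.adjoin_induction with
      | mem x hx => exact ⟨1, M.one_mem, by rw [map_one, one_mul]; exact Algebra.subset_adjoin hx⟩
      | algebraMap b =>
        obtain ⟨⟨a, m⟩, hb⟩ := IsLocalization.surj M b
        refine ⟨m, m.2, ?_⟩
        rw [IsScalarTower.algebraMap_apply A B S, ← map_mul, mul_comm, hb,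
          ← IsScalarTower.algebraMap_apply A B S]
        exact S'.algebraMap_mem a
      | add x y _ _ hx hy =>
        obtain ⟨m, hm, hx⟩ := hx; obtain ⟨n, hn, hy⟩ := hy
        refine ⟨m * n, M.mul_mem hm hn, ?_⟩
        have e : algebraMap A S (m * n) * (x + y) =
            algebraMap A S n * (algebraMap A S m * x) + algebraMap A S m * (algebraMap A S n * y) := by
          rw [map_mul]; ring
        rw [e]
        exact add_mem (mul_mem (S'.algebraMap_mem _) hx) (mul_mem (S'.algebraMap_mem _) hy)
      | mul x y _ _ hx hy =>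
        obtain ⟨m, hm, hx⟩ := hx; obtain ⟨n, hn, hy⟩ := hy
        refine ⟨m * n, M.mul_mem hm hn, ?_⟩
        have e : algebraMap A S (m * n) * (x * y) =
            (algebraMap A S m * x) * (algebraMap A S n * y) := by
          rw [map_mul]; ring
        rw [e]
        exact mul_mem hx hy
    · intro x y h
      exact ⟨1, by rw [Subtype.ext h]⟩
  exact ⟨S', inferInstance, inferInstance, hft, inferInstance, N, hN⟩

theorem isJ2_localization {A : Type u} [CommRing A] (h : EGA4.IsJ2 A) (M : Submonoid A) :
    EGA4.IsJ2 (Localization M) := by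
  intro S _ _ hS
  obtain ⟨S', _, _, hft, _, N, hN⟩ := exists_model M S hS
  have heq : EGA4.regLocus S = PrimeSpectrum.comap (algebraMap S' S) ⁻¹' EGA4.regLocus S' := by
    ext P
    have := IsLocalization.isLocalization_isLocalization_atPrime_isLocalization N (Localization.AtPrime P.asIdeal) P.asIdeal
    let e := (IsLocalization.algEquiv (P.asIdeal.comap (algebraMap S' S)).primeCompl
      (Localization.AtPrime (P.asIdeal.comap (algebraMap S' S))) (Localization.AtPrime P.asIdeal)).toRingEquiv
    simp only [EGA4.regLocus, Set.mem_ofPred_eq, Set.mem_preimage, PrimeSpectrum.comap_asIdeal]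
    exact ⟨fun hh => (have := hh; IsRegularLocalRing.of_ringEquiv e.symm), fun hh => (have : IsRegularLocalRing (Localization.AtPrime (Ideal.comap (algebraMap S' S) P.asIdeal)) := hh; IsRegularLocalRing.of_ringEquiv e)⟩
  rw [heq]
  exact (h S' hft).preimage (PrimeSpectrum.continuous_comap _)

theorem isGRing_localization {A : Type u} [CommRing A] (h : CAlg.IsGRing A) (M : Submonoid A) :
    CAlg.IsGRing (Localization M) := by
  obtain ⟨hN, hreg⟩ := h
  refine ⟨IsLocalization.isNoetherianRing M _ hN, fun P _ => ?_⟩
  let p := P.comap (algebraMap A (Localization M))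
  have := IsLocalization.isLocalization_isLocalization_atPrime_isLocalization M (Localization.AtPrime P) P
  let e : Localization.AtPrime p ≃+* Localization.AtPrime P :=
    (IsLocalization.algEquiv p.primeCompl (Localization.AtPrime p) (Localization.AtPrime P)).toRingEquiv
  have : IsNoetherianRing (Localization.AtPrime p) := IsLocalization.isNoetherianRing p.primeCompl _ hN
  obtain ⟨f, hf⟩ := exists_cpl_equiv e
  exact isRegularHom_of_ringEquiv e f hf (hreg p)

end Groth.Agent.EGA4H10
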