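import Groth.Agent.EGA4H10.FCatenary
import Groth.Agent.EGA4H10.CplQuot
import Mathlib

/-!
# Formally equidimensional local rings
-/

set_option autoImplicit false
universe u
open IsLocalRing

namespace Groth.Agent.EGA4H10

variable {A : Type u} [CommRing A] [IsNoetherianRing A] [IsLocalRing A]

theorem coverSucc_cpl (h : EGA4.IsFormallyEquidim A) : CoverSucc (EGA4.Cpl A) :=
  have := Cohen12.isNoetherianRing_completion (A := A)
  coverSucc_of_catenary_equidim (isCatenary_of_universallyCatenary (isUniversallyCatenary_cpl A)) h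

theorem coverSucc_of_formallyEquidim (h : EGA4.IsFormallyEquidim A) : CoverSucc A := by
  have := Cohen12.isNoetherianRing_completion (A := A)
  have : Module.Flat A (EGA4.Cpl A) := inferInstanceAs (Module.Flat A (AdicCompletion (maximalIdeal A) A))
  exact coverSucc_of_flat_local A (EGA4.Cpl A) (coverSucc_cpl h)

theorem isEquidim_quotient_iff_map {B : Type u} [CommRing B] [IsNoetherianRing B] [IsLocalRing B] [Algebra A B]
    [IsLocalHom (algebraMap A B)] [Module.Flat A B] (hA : CoverSucc A) (hB : CoverSucc B) (a : Ideal A) :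
    EGA4.IsEquidim (A ⧸ a) ↔ EGA4.IsEquidim (B ⧸ a.map (algebraMap A B)) := by
  have : Module.FaithfullyFlat A B := Module.FaithfullyFlat.of_flat_of_isLocalHom
  have key : ∀ P ∈ (a.map (algebraMap A B)).minimalPrimes, ∃ p ∈ a.minimalPrimes, P.height = p.height := by
    intro P hP
    obtain ⟨hp, hPmin⟩ := comap_minimal_of_flat a hP
    have := hP.1.1
    have : P.LiesOver (P.comap (algebraMap A B)) := ⟨rfl⟩
    refine ⟨_, hp, ?_⟩
    rw [Ideal.height_eq_height_add_of_liesOver_of_hasGoingDown (P.comap (algebraMap A B)) P,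
      height_map_quotient_of_minimal hPmin, add_zero]
  rw [isEquidim_quotient_iff, isEquidim_quotient_iff]
  constructor
  · intro h P hP Q hQ
    have := hP.1.1
    have := hQ.1.1
    obtain ⟨p, hp, hPp⟩ := key P hP
    obtain ⟨q, hq, hQq⟩ := key Q hQ
    have := hp.1.1
    have := hq.1.1
    rw [dim_quotient_eq_iff hB, hPp, hQq, ← dim_quotient_eq_iff hA]
    exact h p hp q hq
  · intro h p hp q hq
    have := hp.1.1
    have := hq.1.1
    obtain ⟨Q1, hQ1⟩ := PrimeSpectrum.comap_surjective_of_faithfullyFlat (B := B) ⟨p, hp.1.1⟩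
    obtain ⟨P, hPp, -, hPc, hPmin, hPh⟩ := exists_minimal_over p p le_rfl Q1.asIdeal (congrArg PrimeSpectrum.asIdeal hQ1)
    obtain ⟨Q2, hQ2⟩ := PrimeSpectrum.comap_surjective_of_faithfullyFlat (B := B) ⟨q, hq.1.1⟩
    obtain ⟨Q, hQq, -, hQc, hQmin, hQh⟩ := exists_minimal_over q q le_rfl Q2.asIdeal (congrArg PrimeSpectrum.asIdeal hQ2)
    have h1 := h P (minimal_map_of_minimal a hp hPmin hPc) Q (minimal_map_of_minimal a hq hQmin hQc)
    rw [dim_quotient_eq_iff hB, hPh, hQh, ← dim_quotient_eq_iff hA] at h1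
    exact h1

theorem isEquidim_quotient_iff_formally (h : EGA4.IsFormallyEquidim A) (a : Ideal A) [Nontrivial (A ⧸ a)] :
    EGA4.IsEquidim (A ⧸ a) ↔ EGA4.IsFormallyEquidim (A ⧸ a) := by
  have := Cohen12.isNoetherianRing_completion (A := A)
  have : Module.Flat A (EGA4.Cpl A) := inferInstanceAs (Module.Flat A (AdicCompletion (maximalIdeal A) A))
  have : IsLocalRing (A ⧸ a) := IsLocalRing.of_surjective' (Ideal.Quotient.mk a) Ideal.Quotient.mk_surjective
  let e := cplQuotEquiv A (A ⧸ a) Ideal.Quotient.mk_surjective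
  let e' : (EGA4.Cpl A ⧸ a.map (algebraMap A (EGA4.Cpl A))) ≃+* EGA4.Cpl (A ⧸ a) :=
    (Ideal.quotEquivOfEq (congrArg (Ideal.map (algebraMap A (EGA4.Cpl A))) (Ideal.mk_ker (I := a)).symm)).trans e
  rw [isEquidim_quotient_iff_map (coverSucc_of_formallyEquidim h) (coverSucc_cpl h) a]
  exact ⟨fun hq => isEquidim_of_ringEquiv e' hq, fun hq => isEquidim_of_ringEquiv e'.symm hq⟩

end Groth.Agent.EGA4H10
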