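import Groth.Agent.EGA4H10.GenFormal
import Groth.Agent.Helper62.FlatNil
import Mathlib

/-!
# Complete Noetherian local rings are G-rings
-/

set_option autoImplicit false
set_option linter.style.haveILetI false
universe u

open IsLocalRing TensorProduct

namespace Groth.Agent.EGA4H10

/-- regular rings: a flat quotient is regular -/
theorem isRegularRing_of_surjective_flat {X Y : Type u} [CommRing X] [IsRegularRing X] [CommRing Y] [Algebra X Y]
    [Module.Flat X Y] (hs : Function.Surjective (algebraMap X Y)) : IsRegularRing Y := by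
  have : IsNoetherianRing Y := isNoetherianRing_of_surjective _ _ _ hs
  refine isRegularRing_iff.2 fun Q _ => ?_
  let P := Q.comap (algebraMap X Y)
  have : Q.LiesOver P := ⟨rfl⟩
  have := regular_atPrime_of_isRegularRing P
  let := Localization.AtPrime.algebraOfLiesOver P Q
  let φ := algebraMap (Localization.AtPrime P) (Localization.AtPrime Q)
  have : IsLocalHom φ := by
    simp only [φ, RingHom.algebraMap_toAlgebra]
    exact Localization.isLocalHom_localRingHom P Q (algebraMap X Y) Ideal.LiesOver.over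
  have hsurj : Function.Surjective φ := by
    intro z
    obtain ⟨x, s, rfl⟩ := IsLocalization.exists_mk'_eq Q.primeCompl z
    obtain ⟨x0, rfl⟩ := hs x
    obtain ⟨s0, hs0⟩ := hs s
    have hs0' : s0 ∉ P := fun hm => s.2 (hs0 ▸ (hm : algebraMap X Y s0 ∈ Q))
    refine ⟨IsLocalization.mk' _ x0 (⟨s0, hs0'⟩ : P.primeCompl), ?_⟩
    simp only [φ, RingHom.algebraMap_toAlgebra, Localization.localRingHom_mk']
    congr 1
    exact Subtype.ext hs0
  have hQflat : Module.Flat X (Localization.AtPrime Q) := Module.Flat.trans X Y _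
  have : Module.Flat (Localization.AtPrime P) (Localization.AtPrime Q) :=
    (Module.flat_iff_of_isLocalization (Localization.AtPrime P) P.primeCompl (Localization.AtPrime Q)).2 hQflat
  have : Module.FaithfullyFlat (Localization.AtPrime P) (Localization.AtPrime Q) :=
    Module.FaithfullyFlat.of_flat_of_isLocalHom
  exact IsRegularLocalRing.of_ringEquiv (RingEquiv.ofBijective φ
    ⟨FaithfulSMul.algebraMap_injective (Localization.AtPrime P) (Localization.AtPrime Q), hsurj⟩)

theorem eq_bot_of_le_maximalIdeal_mul {X : Type u} [CommRing X] [IsLocalRing X] [IsNoetherianRing X] (K : Ideal X)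
    (h : K ≤ maximalIdeal X • K) : K = ⊥ :=
  Submodule.eq_bot_of_le_smul_of_le_jacobson_bot (maximalIdeal X) K (IsNoetherian.noetherian _) h
    (IsLocalRing.jacobson_eq_maximalIdeal (⊥ : Ideal X) bot_ne_top).ge

theorem flat_of_quotient {A' Z Y : Type u} [CommRing A'] [CommRing Z] [IsNoetherianRing Z]
    [CommRing Y] [IsLocalRing Y] [Algebra A' Z] [Algebra A' Y] [Module.Flat A' Y] (φ : Z →ₐ[A'] Y)
    (hφ : Function.Surjective φ) (P' : Ideal A') (hP' : ∀ c ∈ P', algebraMap A' Y c ∈ maximalIdeal Y)
    (hred : ∀ z, φ z ∈ maximalIdeal Y → ∃ u, IsUnit (φ u) ∧ u * z ∈ P'.map (algebraMap A' Z)) :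
    φ.toRingHom.Flat := by
  let M : Ideal Z := (maximalIdeal Y).comap φ.toRingHom
  have : M.IsPrime := Ideal.IsPrime.comap _
  let W := Localization.AtPrime M
  have : IsNoetherianRing W := IsLocalization.isNoetherianRing M.primeCompl _ inferInstance
  have hu : ∀ z : M.primeCompl, IsUnit (φ.toRingHom z) := fun z => notMem_maximalIdeal.1 z.2
  let Φ : W →+* Y := IsLocalization.lift hu
  have hΦ : ∀ z, Φ (algebraMap Z W z) = φ z := fun z => IsLocalization.lift_eq hu z
  have hΦA : ∀ c, Φ (algebraMap A' W c) = algebraMap A' Y c := fun c => by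
    rw [IsScalarTower.algebraMap_apply A' Z W, hΦ, AlgHom.commutes]
  have hΦs : Function.Surjective Φ := fun y => by
    obtain ⟨z, rfl⟩ := hφ y
    exact ⟨_, hΦ z⟩
  have hmax : maximalIdeal W ≤ P'.map (algebraMap A' W) := by
    rw [← Localization.AtPrime.map_eq_maximalIdeal, Ideal.map_le_iff_le_comap]
    intro z hz
    obtain ⟨u, hu', huz⟩ := hred z hz
    rw [IsScalarTower.algebraMap_eq A' Z W, ← Ideal.map_map, Ideal.mem_comap,
      IsLocalization.algebraMap_mem_map_algebraMap_iff M.primeCompl]
    exact ⟨u, notMem_maximalIdeal.2 hu', huz⟩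
  let Φl : W →ₗ[A'] Y :=
    { toFun := Φ, map_add' := map_add Φ,
      map_smul' := fun c w => by
        rw [RingHom.id_apply, Algebra.smul_def c w, map_mul, hΦA, ← Algebra.smul_def] }
  have hker : RingHom.ker Φ = ⊥ := by
    refine eq_bot_of_le_maximalIdeal_mul _ ?_
    intro k hk
    have hkm : k ∈ maximalIdeal W := (IsLocalRing.le_maximalIdeal (RingHom.ker_ne_top Φ)) hk
    have hkJ : k ∈ P' • (⊤ : Submodule A' W) := by
      rw [Ideal.smul_top_eq_map]; exact hmax hkm
    have h2 := FlatNil62.mem_smul_of_flat_range Φl hΦs P' (k := k) hk hkJ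
    refine Submodule.smul_induction_on h2 (fun c hc w hw => ?_) (fun _ _ => add_mem)
    rw [Algebra.smul_def c w]
    refine (Submodule.smul_mem_smul ?_ hw : algebraMap A' W c • w ∈ maximalIdeal W • RingHom.ker Φ)
    intro hu'
    have hcu := hu'.map Φ
    rw [hΦA] at hcu
    exact hP' c hc hcu
  let _ : Algebra Z Y := φ.toRingHom.toAlgebra
  let e : W ≃ₐ[Z] Y :=
    AlgEquiv.ofRingEquiv (f := RingEquiv.ofBijective Φ ⟨(RingHom.injective_iff_ker_eq_bot _).2 hker, hΦs⟩) hΦ
  exact Module.Flat.of_linearEquiv e.symm.toLinearEquiv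

section Comparison

variable {R A' Y : Type u} [CommRing R] [IsNoetherianRing R] [CommRing A'] [Algebra R A'] [Module.Finite R A']
  [CommRing Y] [Algebra A' Y] [IsLocalRing Y] [IsNoetherianRing Y] [IsAdicComplete (maximalIdeal Y) Y]
  [Module.Flat A' Y]

set_option maxHeartbeats 1000000 in
/-- The completion of `A'` at a prime over `p` is a flat quotient of `A' ⊗_R Cpl(R_p)`. -/
theorem exists_comparison_cpl (P' : Ideal A') [P'.IsPrime] (hP' : (maximalIdeal Y).comap (algebraMap A' Y) = P')
    (Ap : Type u) [CommRing Ap] [IsLocalRing Ap] [IsNoetherianRing Ap]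
    (π : EGA4.Cpl Ap →+* Y) (hπ : Function.Surjective π) (g : Ap →+* Y)
    (hg : ∀ a, π (algebraMap Ap _ a) = g a)
    (hgA : ∀ a : Ap, ∃ (x s : A'), s ∉ P' ∧ g a * algebraMap A' Y s = algebraMap A' Y x) :
    ∃ φ : A' ⊗[R] EGA4.Cpl (Localization.AtPrime (P'.comap (algebraMap R A'))) →ₐ[A'] Y,
      Function.Surjective φ ∧ φ.toRingHom.Flat := by
  let p := P'.comap (algebraMap R A')
  let Rp := Localization.AtPrime p
  let T := EGA4.Cpl Rp
  let Z := A' ⊗[R] T
  let _ : Algebra R Y := ((algebraMap A' Y).comp (algebraMap R A')).toAlgebra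
  have : IsScalarTower R A' Y := IsScalarTower.of_algebraMap_eq fun _ => rfl
  have hTn : IsNoetherianRing T := Cohen12.isNoetherianRing_completion (A := Rp)
  have hTc : IsAdicComplete (maximalIdeal T) T := Cohen12.isAdicComplete_completion (A := Rp)
  have hmemY : ∀ x : A', algebraMap A' Y x ∈ maximalIdeal Y ↔ x ∈ P' := fun x => by
    rw [← hP', Ideal.mem_comap]
  have hunit : ∀ s : p.primeCompl, IsUnit (algebraMap R Y s) := fun s =>
    notMem_maximalIdeal.1 fun hm => s.2 ((hmemY (algebraMap R A' s)).1 hm)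
  let g0 : Rp →+* Y := IsLocalization.lift hunit
  have hg0 : (maximalIdeal Rp).map g0 ≤ maximalIdeal Y := by
    rw [← Localization.AtPrime.map_eq_maximalIdeal, Ideal.map_map, IsLocalization.lift_comp, Ideal.map_le_iff_le_comap]
    exact fun r hr => (hmemY (algebraMap R A' r)).2 hr
  obtain ⟨ψ0, hψ0⟩ := Cohen12.exists_extension (A := Rp) g0 hg0
  let ψ0' : T →ₐ[R] Y := AlgHom.mk ψ0 fun r => by
    show ψ0 (algebraMap R T r) = _
    rw [IsScalarTower.algebraMap_apply R Rp T, hψ0, IsLocalization.lift_eq]
  let φ : Z →ₐ[A'] Y := Algebra.TensorProduct.lift (Algebra.ofId A' Y) ψ0' fun _ _ => Commute.all _ _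
  have hφtmul : ∀ (x : A') (t : T), φ (x ⊗ₜ t) = algebraMap A' Y x * ψ0 t := fun x t =>
    Algebra.TensorProduct.lift_tmul _ _ _ x t
  -- the image is a finite algebra over `T`
  let _ : Algebra T Y := ψ0.toAlgebra
  have : IsScalarTower R T Y := IsScalarTower.of_algebraMap_eq fun r => (ψ0'.commutes r).symm
  let θ : T ⊗[R] A' →ₐ[T] Y :=
    Algebra.TensorProduct.lift (Algebra.ofId T Y) (IsScalarTower.toAlgHom R A' Y) fun _ _ => Commute.all _ _
  let S := θ.range
  have hSfin : Module.Finite T S := Module.Finite.of_surjective θ.rangeRestrict.toLinearMap θ.rangeRestrict_surjective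
  have hSφ : ∀ y ∈ S, ∃ z, φ z = y := by
    rintro _ ⟨w, rfl⟩
    refine ⟨Algebra.TensorProduct.comm R T A' w, ?_⟩
    induction w using TensorProduct.induction_on with
    | zero => simp
    | add a b ha hb => rw [map_add, map_add, ha, hb, ← map_add]
    | tmul t x =>
      rw [Algebra.TensorProduct.comm_tmul, hφtmul]
      show _ = θ (t ⊗ₜ x)
      rw [Algebra.TensorProduct.lift_tmul, mul_comm]
      rfl
  have hA'S : ∀ x : A', algebraMap A' Y x ∈ S := fun x => ⟨1 ⊗ₜ x, by
    show θ ((1 : T) ⊗ₜ x) = _
    rw [Algebra.TensorProduct.lift_tmul, map_one, one_mul]; rfl⟩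
  have : IsNoetherianRing S := isNoetherian_of_tower T inferInstance
  have : Nontrivial S := ⟨0, 1, fun h => zero_ne_one (congrArg Subtype.val h)⟩
  have : IsLocalRing S := by
    by_contra hS
    obtain ⟨e, he, h0, h1⟩ := SGA3a.exists_nontrivial_idempotent (A := T) (C := S) hS
    rcases IsLocalRing.isUnit_or_isUnit_one_sub_self (e : Y) with hu | hu
    · have h : (e : Y) * (e : Y) = (e : Y) * 1 := by rw [mul_one]; exact congrArg Subtype.val he.eq
      exact h1 (Subtype.ext (hu.mul_left_cancel h))
    · have h : (1 - (e : Y)) * (e : Y) = (1 - (e : Y)) * 0 := by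
        rw [mul_zero, sub_mul, one_mul, sub_eq_zero]; exact (congrArg Subtype.val he.eq).symm
      exact h0 (Subtype.ext (hu.mul_left_cancel h))
  have : IsAdicComplete (maximalIdeal S) S := isAdicComplete_maximalIdeal_of_finite T S
  have hmaxS : (maximalIdeal Y).comap S.val.toRingHom = maximalIdeal S := by
    refine IsLocalRing.eq_maximalIdeal ?_
    refine Ideal.isMaximal_of_isIntegral_of_isMaximal_comap (R := T) _ ?_
    have : ((maximalIdeal Y).comap S.val.toRingHom).comap (algebraMap T S) = maximalIdeal T := by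
      refine le_antisymm (le_maximalIdeal (Ideal.IsPrime.ne_top inferInstance)) ?_
      rw [show maximalIdeal T = _ from AdicCompletion.maximalIdeal_eq_map (R := Rp), Ideal.map_le_iff_le_comap]
      intro a ha
      show ψ0 (algebraMap Rp T a) ∈ maximalIdeal Y
      rw [hψ0]
      exact hg0 (Ideal.mem_map_of_mem g0 ha)
    rw [this]; infer_instance
  -- `π` factors through `S`
  have hgS : ∀ a : Ap, g a ∈ S := fun a => by
    obtain ⟨x, s, hs, hxs⟩ := hgA a
    have hsS : IsUnit (⟨algebraMap A' Y s, hA'S s⟩ : S) := notMem_maximalIdeal.1 fun hm => hs ((hmemY s).1 (by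
      rw [← hmaxS] at hm; exact hm))
    obtain ⟨v, hv⟩ := hsS.exists_right_inv
    have hv' : algebraMap A' Y s * (v : Y) = 1 := congrArg Subtype.val hv
    rw [show g a = algebraMap A' Y x * v by rw [← hxs, mul_assoc, hv', mul_one]]
    exact mul_mem (hA'S x) v.2
  have hlocπ : IsLocalHom π := IsLocalHom.of_surjective π hπ
  have hgmax : (maximalIdeal Ap).map (g.codRestrict S hgS) ≤ maximalIdeal S := by
    rw [Ideal.map_le_iff_le_comap, ← hmaxS]
    intro a ha
    show g a ∈ maximalIdeal Y
    rw [← hg]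
    refine fun hu => ?_
    have := (AdicCompletion.maximalIdeal_eq_map (R := Ap)).ge (Ideal.mem_map_of_mem (algebraMap Ap _) ha)
    exact this (isUnit_of_map_unit π _ hu)
  obtain ⟨γ, hγ⟩ := Cohen12.exists_extension (A := Ap) (g.codRestrict S hgS) hgmax
  have hγπ : ∀ c, (γ c : Y) = π c := by
    intro c
    refine IsHausdorff.eq_iff_smodEq (I := maximalIdeal Y).mpr fun n => ?_
    rw [smul_eq_mul, Ideal.mul_top, SModEq.sub_mem]
    obtain ⟨a, ha⟩ := Cohen12.exists_sub_mem_pow Ap n c
    have hm1 : (maximalIdeal (EGA4.Cpl Ap)).map π ≤ maximalIdeal Y := IsLocalRing.map_maximalIdeal_le π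
    have hm2 : (maximalIdeal (EGA4.Cpl Ap)).map (S.val.toRingHom.comp γ) ≤ maximalIdeal Y := by
      rw [show maximalIdeal (EGA4.Cpl Ap) = _ from AdicCompletion.maximalIdeal_eq_map (R := Ap), Ideal.map_map]
      refine Ideal.map_le_iff_le_comap.2 fun b hb => ?_
      show (γ (algebraMap Ap _ b) : Y) ∈ maximalIdeal Y
      rw [hγ]
      show g b ∈ maximalIdeal Y
      rw [← hg]
      exact hm1 (Ideal.mem_map_of_mem π ((AdicCompletion.maximalIdeal_eq_map (R := Ap)).ge (Ideal.mem_map_of_mem _ hb)))
    have h1 : π (c - algebraMap Ap _ a) ∈ maximalIdeal Y ^ n :=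
      Ideal.pow_right_mono hm1 n (by rw [← Ideal.map_pow]; exact Ideal.mem_map_of_mem π ha)
    have h2 : (γ (c - algebraMap Ap _ a) : Y) ∈ maximalIdeal Y ^ n :=
      Ideal.pow_right_mono hm2 n (by
        rw [← Ideal.map_pow]; exact Ideal.mem_map_of_mem (S.val.toRingHom.comp γ) ha)
    have h3 := sub_mem h2 h1
    have h4 : ((γ (algebraMap Ap _ a) : S) : Y) = π (algebraMap Ap _ a) := by rw [hγ, hg]; rfl
    simp only [map_sub, AddSubgroupClass.coe_sub, h4, sub_sub_sub_cancel_right] at h3
    exact h3
  have hsurj : Function.Surjective φ := fun y => by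
    obtain ⟨c, rfl⟩ := hπ y
    exact hSφ _ (hγπ c ▸ (γ c).2)
  refine ⟨φ, hsurj, ?_⟩
  -- flatness
  let J : Ideal Z := P'.map (algebraMap A' Z)
  have hred : ∀ z : Z, ∃ (s : R) (x : A'), s ∉ p ∧ algebraMap R Z s * z - algebraMap A' Z x ∈ J := by
    intro z
    induction z using TensorProduct.induction_on with
    | zero => exact ⟨1, 0, (Ideal.ne_top_iff_one p).1 (Ideal.IsPrime.ne_top inferInstance), by simp⟩
    | add a b ha hb =>
      obtain ⟨s, x, hs, hx⟩ := ha
      obtain ⟨s', x', hs', hx'⟩ := hb
      refine ⟨s * s', algebraMap R A' s' * x + algebraMap R A' s * x',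
        fun hm => ((Ideal.IsPrime.comap (algebraMap R A') : p.IsPrime).mem_or_mem hm).elim hs hs', ?_⟩
      have h3 := add_mem (Ideal.mul_mem_left J (algebraMap R Z s') hx) (Ideal.mul_mem_left J (algebraMap R Z s) hx')
      convert h3 using 1
      simp only [map_add, map_mul, ← IsScalarTower.algebraMap_apply R A' Z]
      ring
    | tmul x t =>
      obtain ⟨e, he⟩ := Cohen12.exists_sub_mem_pow Rp 1 t
      obtain ⟨r, s, rfl⟩ := IsLocalization.exists_mk'_eq p.primeCompl e
      refine ⟨s, algebraMap R A' r * x, s.2, ?_⟩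
      have hz : algebraMap R Z s * (x ⊗ₜ t) - algebraMap A' Z (algebraMap R A' r * x)
          = x ⊗ₜ[R] (algebraMap R T s * (t - algebraMap Rp T (IsLocalization.mk' Rp r s))) := by
        rw [mul_sub, IsScalarTower.algebraMap_apply R Rp T s, ← map_mul, IsLocalization.mk'_spec', ← IsScalarTower.algebraMap_apply,
          TensorProduct.tmul_sub, ← Algebra.smul_def, TensorProduct.smul_tmul', TensorProduct.smul_tmul]
        congr 1
        · rw [Algebra.smul_def]
        · rw [Algebra.TensorProduct.algebraMap_apply, Algebra.algebraMap_self_apply, ← Algebra.smul_def,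
            TensorProduct.smul_tmul, Algebra.smul_def, mul_one, ← IsScalarTower.algebraMap_apply R Rp T]
      rw [hz]
      have hmT : maximalIdeal T = p.map (algebraMap R T) := by
        rw [show maximalIdeal T = _ from AdicCompletion.maximalIdeal_eq_map (R := Rp), IsScalarTower.algebraMap_eq R Rp T,
          ← Ideal.map_map, Localization.AtPrime.map_eq_maximalIdeal]
      have hmem : algebraMap R T s * (t - algebraMap Rp T (IsLocalization.mk' Rp r s)) ∈ p.map (algebraMap R T) := by
        rw [← hmT]
        exact Ideal.mul_mem_left _ _ (by simpa using he)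
      have hxt : ∀ t' : T, x ⊗ₜ[R] t' = algebraMap A' Z x * Algebra.TensorProduct.includeRight t' := fun t' => by
        rw [Algebra.TensorProduct.algebraMap_apply, Algebra.algebraMap_self_apply,
          Algebra.TensorProduct.includeRight_apply, Algebra.TensorProduct.tmul_mul_tmul, mul_one, one_mul]
      rw [hxt]
      refine Ideal.mul_mem_left _ _ ?_
      have hle : p.map (algebraMap R T) ≤ J.comap (Algebra.TensorProduct.includeRight : T →ₐ[R] Z).toRingHom := by
        rw [Ideal.map_le_iff_le_comap]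
        intro r' hr'
        show Algebra.TensorProduct.includeRight (algebraMap R T r') ∈ J
        rw [AlgHom.commutes, IsScalarTower.algebraMap_apply R A' Z]
        exact Ideal.mem_map_of_mem _ hr'
      exact hle hmem
  have hNTA : IsNoetherianRing (T ⊗[R] A') := isNoetherian_of_tower T inferInstance
  have hNZ : IsNoetherianRing Z :=
    isNoetherianRing_of_ringEquiv (T ⊗[R] A') (Algebra.TensorProduct.comm R T A').toRingEquiv
  refine flat_of_quotient φ hsurj P' (fun c hc => (hmemY c).2 hc) fun z hz => ?_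
  obtain ⟨s, x, hs, hx⟩ := hred z
  refine ⟨algebraMap R Z s, ?_, ?_⟩
  · rw [IsScalarTower.algebraMap_apply R A' Z, AlgHom.commutes]
    exact notMem_maximalIdeal.1 fun hm => hs ((hmemY _).1 hm)
  · have hxP : x ∈ P' := by
      rw [← hmemY]
      have hJ : J ≤ (maximalIdeal Y).comap φ.toRingHom := Ideal.map_le_iff_le_comap.2 fun y hy => by
        show φ (algebraMap A' Z y) ∈ maximalIdeal Y
        rw [AlgHom.commutes]; exact (hmemY y).2 hy
      have h1 : φ (algebraMap R Z s * z - algebraMap A' Z x) ∈ maximalIdeal Y := hJ hx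
      rw [map_sub, AlgHom.commutes, map_mul] at h1
      have hzY : φ (algebraMap R Z s) * φ z ∈ maximalIdeal Y := Ideal.mul_mem_left _ _ hz
      have h2 := sub_mem hzY h1
      rwa [sub_sub_cancel] at h2
    simpa using add_mem hx (Ideal.mem_map_of_mem (algebraMap A' Z) hxP : algebraMap A' Z x ∈ J)

end Comparison

theorem isRegularRing_of_flat_quotient {A A' k' Ah Z : Type u} [CommRing A] [CommRing A'] [CommRing k'] [CommRing Ah]
    [CommRing Z] [Algebra A A'] [Algebra A k'] [Algebra A' k'] [IsScalarTower A A' k'] [Algebra A Ah] [Algebra A' Z]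
    [IsRegularRing (Z ⊗[A'] k')] (φ : Z →ₐ[A'] A' ⊗[A] Ah) (hs : Function.Surjective φ) (hf : φ.toRingHom.Flat) :
    IsRegularRing (k' ⊗[A] Ah) := by
  let Y := A' ⊗[A] Ah
  let X := Z ⊗[A'] k'
  let _ : Algebra Z Y := φ.toRingHom.toAlgebra
  have : IsScalarTower A' Z Y := IsScalarTower.of_algebraMap_eq fun c => (φ.commutes c).symm
  have : Module.Flat Z Y := hf
  have hsX : Function.Surjective (algebraMap X (X ⊗[Z] Y)) := by
    intro w
    induction w using TensorProduct.induction_on with
    | zero => exact ⟨0, map_zero _⟩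
    | add a b ha hb =>
      obtain ⟨c, rfl⟩ := ha; obtain ⟨d, rfl⟩ := hb
      exact ⟨c + d, map_add _ _ _⟩
    | tmul x y =>
      obtain ⟨z, rfl⟩ := hs y
      refine ⟨z • x, ?_⟩
      rw [Algebra.TensorProduct.algebraMap_apply, Algebra.algebraMap_self_apply, TensorProduct.smul_tmul,
        Algebra.smul_def, mul_one]
      rfl
  have : IsRegularRing (X ⊗[Z] Y) := isRegularRing_of_surjective_flat hsX
  exact IsRegularRing.of_ringEquiv (R := X ⊗[Z] Y)
    ((Algebra.TensorProduct.comm Z X Y).toRingEquiv.trans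
      ((Algebra.TensorProduct.cancelBaseChange A' Z Y Y k').toRingEquiv.trans
        ((Algebra.TensorProduct.comm A' Y k').toRingEquiv.trans
          (Algebra.TensorProduct.cancelBaseChange A A' k' k' Ah).toRingEquiv)))

/-- `L ⊗_R Cpl(R_p)` is regular for every finite extension of the fraction field, for the bases produced
by Noether normalisation of complete local domains. -/
theorem isRegularRing_tensor_of_family {R : Type u} [CommRing R] [IsDomain R] [IsRegularLocalRing R]
    (hR : ∀ q : ℕ, q.Prime → CharP R q → Nonempty (SepFamily q R)) (p : Ideal R) [p.IsPrime]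
    (L : Type u) [Field L] [Algebra R L] [FaithfulSMul R L] [Algebra (FractionRing R) L]
    [IsScalarTower R (FractionRing R) L] [Module.Finite (FractionRing R) L] :
    IsRegularRing (L ⊗[R] EGA4.Cpl (Localization.AtPrime p)) := by
  have : IsRegularRing R := isRegularRing_of_regAway_one (regAway_one R)
  obtain ⟨c, hc⟩ := CharP.exists R
  rcases CharP.char_is_prime_or_zero R c with hcp | rfl
  · have : Fact c.Prime := ⟨hcp⟩
    obtain ⟨F⟩ := hR c hcp hc
    exact isRegularRing_tensor_cpl p c (fun C _ _ _ _ _ a ha => F.exists_derivation C a ha) _ L le_rfl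
  · have : CharZero R := CharP.charP_to_charZero R
    have : CharZero (FractionRing R) := charZero_of_injective_algebraMap (IsFractionRing.injective R (FractionRing R))
    exact isRegularRing_tensor_separable p L

theorem exists_cplQuot (A : Type u) [CommRing A] [IsNoetherianRing A] (P : Ideal A) [P.IsPrime]
    (q : Ideal A) (hqP : q ≤ P) :
    IsLocalRing ((A ⧸ q) ⊗[A] EGA4.Cpl (Localization.AtPrime P)) ∧
    Function.Surjective (Algebra.TensorProduct.includeRight :
      EGA4.Cpl (Localization.AtPrime P) →ₐ[A] (A ⧸ q) ⊗[A] EGA4.Cpl (Localization.AtPrime P)) := by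
  let Ah := EGA4.Cpl (Localization.AtPrime P)
  have hs : Function.Surjective (Algebra.TensorProduct.includeRight : Ah →ₐ[A] (A ⧸ q) ⊗[A] Ah) := by
    intro z
    induction z using TensorProduct.induction_on with
    | zero => exact ⟨0, map_zero _⟩
    | add a b ha hb =>
      obtain ⟨c, rfl⟩ := ha; obtain ⟨d, rfl⟩ := hb
      exact ⟨c + d, map_add _ _ _⟩
    | tmul x t =>
      obtain ⟨a, rfl⟩ := Ideal.Quotient.mk_surjective x
      refine ⟨a • t, ?_⟩
      rw [Algebra.TensorProduct.includeRight_apply, TensorProduct.tmul_smul, TensorProduct.smul_tmul',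
        ← Ideal.Quotient.algebraMap_eq, Algebra.algebraMap_eq_smul_one]
  have hker : ∀ a ∈ q, algebraMap A (ResidueField Ah) a = 0 := fun a ha => by
    rw [IsScalarTower.algebraMap_apply A Ah (ResidueField Ah), ResidueField.algebraMap_eq, residue_eq_zero_iff,
      IsScalarTower.algebraMap_apply A (Localization.AtPrime P) Ah]
    exact (AdicCompletion.maximalIdeal_eq_map (R := Localization.AtPrime P)).ge
      (Ideal.mem_map_of_mem _ ((IsLocalization.AtPrime.to_map_mem_maximal_iff _ P a).2 (hqP ha)))
  let f : (A ⧸ q) ⊗[A] Ah →ₐ[A] ResidueField Ah := Algebra.TensorProduct.lift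
    (Ideal.Quotient.liftₐ q (Algebra.ofId A (ResidueField Ah)) hker)
    (IsScalarTower.toAlgHom A Ah (ResidueField Ah)) fun _ _ => Commute.all _ _
  have : Nontrivial ((A ⧸ q) ⊗[A] Ah) := f.toRingHom.domain_nontrivial
  exact ⟨IsLocalRing.of_surjective' (Algebra.TensorProduct.includeRight : Ah →ₐ[A] (A ⧸ q) ⊗[A] Ah).toRingHom hs, hs⟩

/-- regularity of `k' ⊗_A Cpl(A_P)` for finite extensions `k'` of the fraction field of a quotient domain -/
theorem isRegularRing_tensor_formal (A : Type u) [CommRing A] [IsLocalRing A] [IsNoetherianRing A]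
    [IsAdicComplete (maximalIdeal A) A] (P : Ideal A) [P.IsPrime] (q : Ideal A) [q.IsPrime] (hqP : q ≤ P)
    (k' : Type u) [Field k'] [Algebra A k'] [Algebra (A ⧸ q) k'] [IsScalarTower A (A ⧸ q) k']
    [Algebra (FractionRing (A ⧸ q)) k'] [IsScalarTower (A ⧸ q) (FractionRing (A ⧸ q)) k']
    [Module.Finite (FractionRing (A ⧸ q)) k'] :
    IsRegularRing (k' ⊗[A] EGA4.Cpl (Localization.AtPrime P)) := by
  let A' := A ⧸ q
  let Ap := Localization.AtPrime P
  let Ah := EGA4.Cpl Ap
  have : IsNoetherianRing Ah := Cohen12.isNoetherianRing_completion (A := Ap)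
  have : IsAdicComplete (maximalIdeal Ah) Ah := Cohen12.isAdicComplete_completion (A := Ap)
  have : Module.Flat Ap Ah := inferInstanceAs (Module.Flat Ap (AdicCompletion (maximalIdeal Ap) Ap))
  have : Module.Flat A Ah := Module.Flat.trans A Ap Ah
  have : IsAdicComplete (maximalIdeal A') A' := Cohen12.isAdicComplete_quotient q
  obtain ⟨R, _, _, _, _, _, hinj, hfam⟩ := exists_finite_regular A'
  have : IsNoetherianRing R := inferInstance
  have hfamR : ∀ c : ℕ, c.Prime → CharP R c → Nonempty (SepFamily c R) := fun c hc h =>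
    hfam c hc ((RingHom.charP_iff _ hinj c).1 h)
  have : FaithfulSMul R A' := (faithfulSMul_iff_algebraMap_injective R A').2 hinj
  -- the field extension over `Frac R`
  let K := FractionRing R
  let L0 := FractionRing A'
  have hinjL0 : Function.Injective (algebraMap R L0) := by
    rw [IsScalarTower.algebraMap_eq R A' L0]; exact (IsFractionRing.injective A' L0).comp hinj
  have : FaithfulSMul R L0 := (faithfulSMul_iff_algebraMap_injective R L0).2 hinjL0
  letI : Algebra K L0 := FractionRing.liftAlgebra R L0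
  have : IsScalarTower R K L0 := FractionRing.isScalarTower_liftAlgebra R L0
  have : Module.Finite K L0 := OmegaHat14.finite_fractionRing R A'
  letI : Algebra R k' := ((algebraMap A' k').comp (algebraMap R A')).toAlgebra
  have : IsScalarTower R A' k' := IsScalarTower.of_algebraMap_eq fun _ => rfl
  have hinjk : Function.Injective (algebraMap R k') := by
    rw [IsScalarTower.algebraMap_eq R A' k', IsScalarTower.algebraMap_eq A' L0 k']
    exact ((algebraMap L0 k').injective.comp (IsFractionRing.injective A' L0)).comp hinj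
  have : FaithfulSMul R k' := (faithfulSMul_iff_algebraMap_injective R k').2 hinjk
  letI : Algebra K k' := ((algebraMap L0 k').comp (algebraMap K L0)).toAlgebra
  have : IsScalarTower K L0 k' := IsScalarTower.of_algebraMap_eq fun _ => rfl
  have : IsScalarTower R K k' := IsScalarTower.of_algebraMap_eq fun r => by
    show _ = algebraMap L0 k' (algebraMap K L0 (algebraMap R K r))
    rw [← IsScalarTower.algebraMap_apply R K L0, IsScalarTower.algebraMap_apply R A' L0,
      ← IsScalarTower.algebraMap_apply A' L0 k']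
    rfl
  have : Module.Finite K k' := Module.Finite.trans L0 k'
  -- the completion of `A'`
  obtain ⟨hloc, hπ⟩ := exists_cplQuot A P q hqP
  let Y := A' ⊗[A] Ah
  let π : Ah →+* Y := (Algebra.TensorProduct.includeRight : Ah →ₐ[A] Y).toRingHom
  have : IsNoetherianRing Y := isNoetherianRing_of_surjective _ _ π hπ
  let _ : Algebra Ah Y := π.toAlgebra
  have : Module.Finite Ah Y := Module.Finite.of_surjective (Algebra.linearMap Ah Y) hπ
  have : IsAdicComplete (maximalIdeal Y) Y := isAdicComplete_maximalIdeal_of_finite Ah Y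
  have : Module.Flat A' Y := inferInstance
  let P' := P.map (Ideal.Quotient.mk q)
  have : P'.IsPrime := Ideal.isPrime_map_quotientMk_of_isPrime hqP
  have hlocπ : IsLocalHom π := IsLocalHom.of_surjective π hπ
  have halg : ∀ a : A, algebraMap A' Y (Ideal.Quotient.mk q a) = π (algebraMap Ap Ah (algebraMap A Ap a)) := fun a => by
    rw [← IsScalarTower.algebraMap_apply A Ap Ah]
    show _ = (Algebra.TensorProduct.includeRight : Ah →ₐ[A] Y) (algebraMap A Ah a)
    rw [AlgHom.commutes, ← Ideal.Quotient.algebraMap_eq, ← IsScalarTower.algebraMap_apply A A' Y]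
  have hP' : (maximalIdeal Y).comap (algebraMap A' Y) = P' := by
    ext x
    obtain ⟨a, rfl⟩ := Ideal.Quotient.mk_surjective x
    have h1 : algebraMap A' Y (Ideal.Quotient.mk q a) ∈ maximalIdeal Y ↔ a ∈ P := by
      rw [halg, mem_maximalIdeal, mem_nonunits_iff]
      constructor
      · intro h
        by_contra ha
        exact h (((IsLocalization.map_units Ap (⟨a, ha⟩ : P.primeCompl)).map (algebraMap Ap Ah)).map π)
      · intro ha hu
        exact (AdicCompletion.maximalIdeal_eq_map (R := Ap)).ge
          (Ideal.mem_map_of_mem _ ((IsLocalization.AtPrime.to_map_mem_maximal_iff Ap P a).2 ha))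
          (isUnit_of_map_unit π _ hu)
    rw [Ideal.mem_comap, h1, ← Ideal.mem_comap, Ideal.comap_map_quotientMk, sup_eq_right.2 hqP]
  obtain ⟨φ, hφs, hφf⟩ := exists_comparison_cpl (R := R) (Y := Y) P' hP' Ap π hπ (π.comp (algebraMap Ap Ah))
    (fun _ => rfl) (fun a => by
      obtain ⟨x, s, rfl⟩ := IsLocalization.exists_mk'_eq P.primeCompl a
      refine ⟨Ideal.Quotient.mk q x, Ideal.Quotient.mk q s, fun hm => s.2 ?_, ?_⟩
      · rw [← Ideal.mem_comap, Ideal.comap_map_quotientMk, sup_eq_right.2 hqP] at hm; exact hm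
      · rw [halg, halg, RingHom.comp_apply, ← map_mul, ← map_mul, IsLocalization.mk'_spec])
  let Z := A' ⊗[R] EGA4.Cpl (Localization.AtPrime (P'.comap (algebraMap R A')))
  let X := Z ⊗[A'] k'
  have : IsRegularRing (k' ⊗[R] EGA4.Cpl (Localization.AtPrime (P'.comap (algebraMap R A')))) :=
    isRegularRing_tensor_of_family hfamR _ k'
  have : IsRegularRing X := IsRegularRing.of_ringEquiv
    (R := k' ⊗[R] EGA4.Cpl (Localization.AtPrime (P'.comap (algebraMap R A'))))
    ((Algebra.TensorProduct.cancelBaseChange R A' k' k'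
      (EGA4.Cpl (Localization.AtPrime (P'.comap (algebraMap R A'))))).toRingEquiv.symm.trans
      (Algebra.TensorProduct.comm A' k' Z).toRingEquiv)
  exact isRegularRing_of_flat_quotient (A := A) (A' := A') (k' := k') (Ah := Ah) φ hφs hφf


theorem isGRing_of_complete (A : Type u) [CommRing A] [IsLocalRing A] [IsNoetherianRing A]
    [IsAdicComplete (maximalIdeal A) A] : CAlg.IsGRing A := by
  refine ⟨inferInstance, fun P _ => ?_⟩
  let Ap := Localization.AtPrime P
  let Ah := EGA4.Cpl Ap
  show CAlg.IsRegularHom Ap Ah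
  refine ⟨inferInstanceAs (Module.Flat Ap (AdicCompletion (maximalIdeal Ap) Ap)), fun q0 _ => ?_⟩
  suffices key : ∀ (k' : Type u) [Field k'] [Algebra q0.ResidueField k'] [Module.Finite q0.ResidueField k'],
      IsRegularRing (k' ⊗[q0.ResidueField] q0.Fiber Ah) by
    have h0 := key q0.ResidueField
    have : IsRegularRing (q0.Fiber Ah) := IsRegularRing.of_ringEquiv
      (R := q0.ResidueField ⊗[q0.ResidueField] q0.Fiber Ah)
      (Algebra.TensorProduct.lid q0.ResidueField (q0.Fiber Ah)).toRingEquiv
    exact ⟨inferInstance, fun k' _ _ hk => key k'⟩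
  intro k' _ _ _
  let κ := q0.ResidueField
  let q := q0.comap (algebraMap A Ap)
  have hqP : q ≤ P := fun a ha => (IsLocalization.AtPrime.to_map_mem_maximal_iff Ap P a).1
    (le_maximalIdeal (Ideal.IsPrime.ne_top inferInstance) ha)
  letI : Algebra A k' := ((algebraMap κ k').comp (algebraMap A κ)).toAlgebra
  have : IsScalarTower A κ k' := IsScalarTower.of_algebraMap_eq fun _ => rfl
  letI : Algebra Ap k' := ((algebraMap κ k').comp (algebraMap Ap κ)).toAlgebra
  have : IsScalarTower Ap κ k' := IsScalarTower.of_algebraMap_eq fun _ => rfl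
  have : IsScalarTower A Ap k' := IsScalarTower.of_algebraMap_eq fun a => by
    show algebraMap κ k' (algebraMap A κ a) = algebraMap κ k' (algebraMap Ap κ (algebraMap A Ap a))
    rw [← IsScalarTower.algebraMap_apply A Ap κ]
  let ι0 : A ⧸ q →+* κ := Ideal.Quotient.lift q (algebraMap A κ) fun a ha => by
    rw [IsScalarTower.algebraMap_apply A Ap κ, Ideal.algebraMap_residueField_eq_zero]
    exact ha
  have hι0 : Function.Injective ι0 := by
    rw [injective_iff_map_eq_zero]
    intro x hx
    obtain ⟨a, rfl⟩ := Ideal.Quotient.mk_surjective x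
    rw [Ideal.Quotient.lift_mk, IsScalarTower.algebraMap_apply A Ap κ, Ideal.algebraMap_residueField_eq_zero] at hx
    exact Ideal.Quotient.eq_zero_iff_mem.2 hx
  let ι : FractionRing (A ⧸ q) →+* κ := IsFractionRing.lift hι0
  have hι : Function.Surjective ι := by
    intro z
    obtain ⟨u, v, hv, rfl⟩ := IsFractionRing.div_surjective (A := Ap ⧸ q0) z
    obtain ⟨u, rfl⟩ := Ideal.Quotient.mk_surjective u
    obtain ⟨v, rfl⟩ := Ideal.Quotient.mk_surjective v
    have hl : ∀ w : Ap, ∃ f, ι f = algebraMap Ap κ w := fun w => by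
      obtain ⟨a, s, rfl⟩ := IsLocalization.exists_mk'_eq P.primeCompl w
      refine ⟨algebraMap _ _ (Ideal.Quotient.mk q a) / algebraMap _ _ (Ideal.Quotient.mk q (s : A)), ?_⟩
      have hs : algebraMap A κ s ≠ 0 := by
        rw [IsScalarTower.algebraMap_apply A Ap κ]
        exact ((IsLocalization.map_units Ap s).map (algebraMap Ap κ)).ne_zero
      rw [map_div₀, IsFractionRing.lift_algebraMap, IsFractionRing.lift_algebraMap, Ideal.Quotient.lift_mk,
        Ideal.Quotient.lift_mk, div_eq_iff hs, IsScalarTower.algebraMap_apply A Ap κ,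
        IsScalarTower.algebraMap_apply A Ap κ, ← map_mul, IsLocalization.mk'_spec]
    obtain ⟨fu, hfu⟩ := hl u
    obtain ⟨fv, hfv⟩ := hl v
    refine ⟨fu / fv, ?_⟩
    rw [map_div₀, hfu, hfv]
    rfl
  letI : Algebra (A ⧸ q) k' := ((algebraMap κ k').comp ι0).toAlgebra
  have : IsScalarTower A (A ⧸ q) k' := IsScalarTower.of_algebraMap_eq fun _ => rfl
  letI : Algebra (FractionRing (A ⧸ q)) κ := ι.toAlgebra
  letI : Algebra (FractionRing (A ⧸ q)) k' := ((algebraMap κ k').comp ι).toAlgebra
  have : IsScalarTower (FractionRing (A ⧸ q)) κ k' := IsScalarTower.of_algebraMap_eq fun _ => rfl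
  have : IsScalarTower (A ⧸ q) (FractionRing (A ⧸ q)) k' := IsScalarTower.of_algebraMap_eq fun x => by
    show algebraMap κ k' (ι0 x) = algebraMap κ k' (ι (algebraMap _ _ x))
    rw [IsFractionRing.lift_algebraMap]
  have : Module.Finite (FractionRing (A ⧸ q)) κ :=
    Module.Finite.of_surjective (Algebra.linearMap (FractionRing (A ⧸ q)) κ) hι
  have : Module.Finite (FractionRing (A ⧸ q)) k' := Module.Finite.trans κ k'
  have : IsRegularRing (k' ⊗[A] Ah) := isRegularRing_tensor_formal A P q hqP k'
  have : TensorProduct.CompatibleSMul A Ap k' Ah := IsLocalization.tensorProduct_compatibleSMul P.primeCompl Ap k' Ah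
  exact IsRegularRing.of_ringEquiv (R := k' ⊗[A] Ah)
    ((Algebra.TensorProduct.equivOfCompatibleSMul Ap A A k' Ah).toRingEquiv.trans
      (Algebra.TensorProduct.cancelBaseChange Ap κ k' k' Ah).toRingEquiv.symm)

end Groth.Agent.EGA4H10
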