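import Groth.Agent.EGA4H10.Codepth
import Groth.Agent.EGA4H10.NormOpen
import Mathlib

/-!
# Openness of codepth and `(S_n)` loci
-/

set_option autoImplicit false
universe u
open IsLocalRing Module RingTheory.Sequence
open Groth.Agent.EGA4Alg4

namespace Groth.Agent.EGA4H10.Codepth

/-- the generic Cohen–Macaulay hypothesis -/
def CMU (A : Type u) [CommRing A] : Prop :=
  ∀ (p : Ideal A) [p.IsPrime], ∃ U : Set (PrimeSpectrum (A ⧸ p)), IsOpen U ∧ U.Nonempty ∧
    ∀ q ∈ U, LocCoh.IsCohenMacaulayLocalRing (Localization.AtPrime q.asIdeal)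

variable {A : Type u} [CommRing A] [IsNoetherianRing A] {M : Type u} [AddCommGroup M] [Module A M]
  [Module.Finite A M]

theorem isOpen_codepthLE (hCMU : CMU A) (n : ℕ) :
    IsOpen {p : PrimeSpectrum A | CodepthLE M n p.asIdeal} := by
  refine isOpen_of_locally A _ (fun p q hpq hq => codepthLE_of_le hpq hq) fun p hp => ?_
  obtain ⟨f, hf, hinv⟩ := exists_invariants_add M p.asIdeal
  obtain ⟨U, hU, ⟨x, hxU⟩, hcm⟩ := hCMU p.asIdeal
  have hbot : (⟨⊥, Ideal.isPrime_bot⟩ : PrimeSpectrum (A ⧸ p.asIdeal)) ∈ U :=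
    hU.stableUnderGeneralization ((PrimeSpectrum.le_iff_specializes _ x).mp (bot_le : (⊥ : Ideal _) ≤ x.asIdeal)) hxU
  obtain ⟨_, ⟨gb, rfl⟩, hg0, hgU⟩ :=
    PrimeSpectrum.isTopologicalBasis_basic_opens.exists_subset_of_mem_open hbot hU
  obtain ⟨g, rfl⟩ := Ideal.Quotient.mk_surjective gb
  have hgp : g ∉ p.asIdeal := fun h => hg0 (Ideal.Quotient.eq_zero_iff_mem.mpr h)
  refine ⟨f * g, fun h => (p.2.mem_or_mem h).elim hf hgp, fun q hpq hfq => ?_⟩
  rcases hinv q.asIdeal hpq (fun h => hfq (Ideal.mul_mem_right _ _ h)) with ⟨hs, -⟩ | ⟨hnt, hdim, hdep⟩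
  · exact codepthLE_of_subsingleton
  let R := Localization.AtPrime q.asIdeal
  let P := p.asIdeal.map (algebraMap A R)
  have : IsNoetherianRing R := IsLocalization.isNoetherianRing q.asIdeal.primeCompl _ inferInstance
  let qb := q.asIdeal.map (Ideal.Quotient.mk p.asIdeal)
  have : qb.IsPrime := Ideal.map_isPrime_of_surjective Ideal.Quotient.mk_surjective (by rwa [Ideal.mk_ker])
  have hqb : qb.comap (Ideal.Quotient.mk p.asIdeal) = q.asIdeal := by
    rw [Ideal.comap_map_of_surjective' _ Ideal.Quotient.mk_surjective, Ideal.mk_ker, sup_eq_left.mpr hpq]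
  have hgq : (⟨qb, inferInstance⟩ : PrimeSpectrum (A ⧸ p.asIdeal)) ∈ U := hgU (fun h => by
    have : g ∈ qb.comap (Ideal.Quotient.mk p.asIdeal) := h
    rw [hqb] at this
    exact hfq (Ideal.mul_mem_left _ _ this))
  have hcm' := hcm _ hgq
  obtain ⟨e⟩ := exists_quotient_equiv p.asIdeal qb
  have key : ∀ (q' : Ideal A) [q'.IsPrime], q' = q.asIdeal →
      ((Localization.AtPrime q' ⧸ p.asIdeal.map (algebraMap A (Localization.AtPrime q'))) ≃+* Localization.AtPrime qb) →
      LocCoh.IsCohenMacaulayLocalRing (R ⧸ P) := by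
    intro q' _ hq' e'
    subst hq'
    exact isCohenMacaulayLocalRing_of_ringEquiv e'.symm hcm'
  have hP := key _ hqb e
  obtain ⟨a, b, ha, hb, -⟩ := exists_vals (M := M) p.asIdeal
  have := support_localized (M := M) (p := p.asIdeal) (q := q.asIdeal) hpq
  obtain ⟨c, d, hc, hd, -⟩ := exists_vals (M := M) q.asIdeal
  have : IsLocalHom (algebraMap R (R ⧸ P)) := Function.Surjective.isLocalHom _ Ideal.Quotient.mk_surjective
  obtain ⟨k, hk⟩ := exists_depth_eq (A := R) (M := R ⧸ P)
  have hk' : ringKrullDim (R ⧸ P) = k := by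
    rw [← Module.supportDim_self_eq_ringKrullDim, hP.supportDim_eq_depth, ← depth_eq_of_finite (A := R) (B := R ⧸ P) (R ⧸ P), hk]
    rfl
  rw [hc, ha, hk'] at hdim
  rw [hd, hb, hk] at hdep
  have e1 : c = a + k := by exact_mod_cast hdim
  have e2 : d = b + k := by exact_mod_cast hdep
  replace hp : CodepthLE M n p.asIdeal := hp
  rw [codepthLE_iff ha hb] at hp
  show CodepthLE M n q.asIdeal
  rw [codepthLE_iff hc hd]
  omega

theorem isOpen_hasSkAt (hCMU : CMU A) (n : ℕ) : IsOpen {p : PrimeSpectrum A | EGA4.HasSkAt n A M p.asIdeal} := by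
  classical
  let U : ℕ → Set (PrimeSpectrum A) := fun j => {p | CodepthLE M j p.asIdeal}
  have hmono : ∀ i j, i ≤ j → U i ⊆ U j := fun i j hij p hp => by
    refine le_trans (show Dim M p.asIdeal ≤ _ from hp) (add_le_add le_rfl ?_)
    exact_mod_cast hij
  have hcover : Set.univ ⊆ ⋃ j, U j := by
    intro p _
    rcases subsingleton_or_nontrivial (LocalizedModule p.asIdeal.primeCompl M) with hM | hM
    · exact Set.mem_iUnion.mpr ⟨0, codepthLE_of_subsingleton⟩
    · obtain ⟨a, b, ha, hb, -⟩ := exists_vals (M := M) p.asIdeal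
      exact Set.mem_iUnion.mpr ⟨a, (codepthLE_iff ha hb).mpr (Nat.le_add_left _ _)⟩
  obtain ⟨J, hJ⟩ := isCompact_univ.elim_directed_cover U (fun j => isOpen_codepthLE hCMU j) hcover
    (Monotone.directed_le hmono)
  have hgens : ∀ j, ∃ S : Set (PrimeSpectrum A), S.Finite ∧ (∀ y ∈ S, y ∉ U j) ∧ ∀ y ∉ U j, ∃ y' ∈ S, y' ≤ y := by
    intro j
    obtain ⟨I, hI⟩ := (PrimeSpectrum.isClosed_iff_zeroLocus_ideal _).mp (isOpen_codepthLE (M := M) hCMU j).isClosed_compl
    refine ⟨{y | y.asIdeal ∈ I.minimalPrimes},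
      (Ideal.finite_minimalPrimes_of_isNoetherianRing A I).preimage (Set.injOn_of_injective fun _ _ h => PrimeSpectrum.ext h),
      fun y hy => ?_, fun y hy => ?_⟩
    · have : y ∈ PrimeSpectrum.zeroLocus (I : Set A) := hy.1.2
      rw [← hI] at this
      exact this
    · have : y ∈ PrimeSpectrum.zeroLocus (I : Set A) := by rw [← hI]; exact hy
      obtain ⟨Q, hQ, hQy⟩ := Ideal.exists_minimalPrimes_le (J := y.asIdeal) this
      exact ⟨⟨Q, hQ.isPrime⟩, hQ, hQy⟩
  choose S hSfin hSmem hSle using hgens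
  let good : PrimeSpectrum A → Prop := fun y =>
    min (n : WithBot ℕ∞) (Dim M y.asIdeal) ≤ ((Dep M y.asIdeal : ℕ∞) : WithBot ℕ∞)
  let B := {y ∈ ⋃ j ∈ Finset.range J, S j | ¬ good y}
  have hB : B.Finite := ((Finset.range J).finite_toSet.biUnion fun j _ => hSfin j).subset fun y hy => hy.1
  convert isOpen_of_upward B hB using 1
  ext p
  rw [Set.mem_ofPred_eq, hasSkAt_iff, Set.mem_ofPred_eq]
  refine ⟨fun h y hy hyp => hy.2 (h y hyp), fun h y hyp => ?_⟩
  by_contra hbad
  rcases subsingleton_or_nontrivial (LocalizedModule y.asIdeal.primeCompl M) with hM | hM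
  · apply hbad
    rw [supportDim_eq_bot_of_subsingleton]
    exact (min_le_right _ _).trans bot_le
  obtain ⟨a, b, ha, hb, -⟩ := exists_vals (M := M) y.asIdeal
  have hbad' : ¬ min (n : WithBot ℕ∞) (Dim M y.asIdeal) ≤ ((Dep M y.asIdeal : ℕ∞) : WithBot ℕ∞) := hbad
  rw [ha, hb] at hbad'
  have hbn : b < n ∧ b < a := by
    by_contra hc
    rw [not_and_or, not_lt, not_lt] at hc
    apply hbad'
    rcases hc with hc | hc
    · exact (min_le_left _ _).trans (by exact_mod_cast hc)
    · exact (min_le_right _ _).trans (by exact_mod_cast hc)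
  have hyU : y ∉ U (a - n) := fun h' => by
    have := (codepthLE_iff ha hb).mp h'
    omega
  have hjJ : a - n < J := by
    by_contra hle
    exact hyU (hmono J _ (not_lt.mp hle) (hJ (Set.mem_univ y)))
  obtain ⟨y', hy'S, hy'y⟩ := hSle _ y hyU
  rcases subsingleton_or_nontrivial (LocalizedModule y'.asIdeal.primeCompl M) with hM' | hM'
  · exact hSmem _ y' hy'S codepthLE_of_subsingleton
  obtain ⟨a', b', ha', hb', -⟩ := exists_vals (M := M) y'.asIdeal
  have h1 := (generalization_bounds (M := M) (p := y'.asIdeal) (q := y.asIdeal) hy'y).1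
  have : Nontrivial (Localization.AtPrime y.asIdeal ⧸ y'.asIdeal.map (algebraMap A (Localization.AtPrime y.asIdeal))) :=
    Ideal.Quotient.nontrivial_iff.mpr (Ideal.isPrime_map_of_isLocalizationAtPrime y.asIdeal hy'y).ne_top
  obtain ⟨k, hk⟩ := exists_supportDim_eq (A := Localization.AtPrime y.asIdeal)
    (M := Localization.AtPrime y.asIdeal ⧸ y'.asIdeal.map (algebraMap A (Localization.AtPrime y.asIdeal)))
  rw [Module.supportDim_quotient_eq_ringKrullDim] at hk
  rw [ha', ha, hk] at h1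
  have h1' : a' + k ≤ a := by exact_mod_cast h1
  have h2 : ¬ a' ≤ b' + (a - n) := fun h' => hSmem _ y' hy'S ((codepthLE_iff ha' hb').mpr h')
  refine h y' ⟨Set.mem_biUnion (Finset.mem_coe.mpr (Finset.mem_range.mpr hjJ)) hy'S, fun hg => ?_⟩ (le_trans hy'y hyp)
  have hg' : min (n : WithBot ℕ∞) (Dim M y'.asIdeal) ≤ ((Dep M y'.asIdeal : ℕ∞) : WithBot ℕ∞) := hg
  rw [ha', hb'] at hg'
  rcases min_le_iff.mp hg' with h3 | h3
  · have : n ≤ b' := by exact_mod_cast h3
    omega
  · have : a' ≤ b' := by exact_mod_cast h3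
    omega

theorem cmu_of_quotient_regular (R A : Type u) [CommRing R] [CommRing A] [IsRegularRing R] [Algebra R A]
    (hs : Function.Surjective (algebraMap R A)) : CMU A := by
  classical
  intro p _
  let ψ : R →+* A ⧸ p := (Ideal.Quotient.mk p).comp (algebraMap R A)
  have hψ : Function.Surjective ψ := Ideal.Quotient.mk_surjective.comp hs
  let P := RingHom.ker ψ
  have : P.IsPrime := RingHom.ker_isPrime _
  have hreg : ∀ (q : Ideal R) [q.IsPrime], IsRegularLocalRing (Localization.AtPrime q) := isRegularRing_iff.mp inferInstance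
  have := hreg P
  obtain ⟨G, hGP, hGcard, hGgen⟩ := exists_gens P
  choose u hu1 hu2 using hGgen
  obtain ⟨T, hT⟩ := P.fg_of_isNoetherianRing
  have hTP : ∀ x ∈ T, x ∈ P := fun x hx => hT ▸ Ideal.subset_span hx
  let g := ∏ x ∈ T.attach, u x.1 (hTP x.1 x.2)
  have hg : g ∉ P := fun hmem => by
    obtain ⟨x, -, hx⟩ := (‹P.IsPrime›.prod_mem_iff).mp hmem
    exact hu1 _ _ hx
  refine ⟨(PrimeSpectrum.basicOpen (ψ g) : Set _), (PrimeSpectrum.basicOpen (ψ g)).2,
    ⟨⟨⊥, Ideal.isPrime_bot⟩, fun h => hg h⟩, fun qb hqb => ?_⟩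
  let q := qb.asIdeal.comap ψ
  have hPq : P ≤ q := fun x hx => by rw [Ideal.mem_comap, RingHom.mem_ker.mp hx]; exact zero_mem _
  have hgq : g ∉ q := hqb
  let L := Localization.AtPrime q
  have := hreg q
  let PL := P.map (algebraMap R L)
  let xs := G.toList.map (algebraMap R L)
  have hxs : Ideal.ofList xs = PL := by
    rw [← Ideal.map_ofList, show Ideal.ofList G.toList = Ideal.span (G : Set R) by
      rw [Ideal.ofList]; congr 1; ext; simp]
    refine le_antisymm (Ideal.map_mono (Ideal.span_le.mpr hGP)) (Ideal.map_le_iff_le_comap.mpr ?_)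
    refine le_trans hT.ge (Ideal.span_le.mpr fun x hx => ?_)
    have hux : algebraMap R L (u x (hTP x hx) * x) ∈ (Ideal.span (G : Set R)).map (algebraMap R L) :=
      Ideal.mem_map_of_mem _ (hu2 _ _)
    rw [map_mul] at hux
    have hunit : IsUnit (algebraMap R L (u x (hTP x hx))) := IsLocalization.map_units L
      (⟨_, fun h => hgq (Ideal.mem_of_dvd q
        (Finset.dvd_prod_of_mem (fun x : T => u x.1 (hTP x.1 x.2)) (Finset.mem_attach T ⟨x, hx⟩)) h)⟩ : q.primeCompl)
    exact (Ideal.unit_mul_mem_iff_mem _ hunit).mp hux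
  have hmem : ∀ x ∈ xs, x ∈ maximalIdeal L := fun x hx => by
    obtain ⟨y, hy, rfl⟩ := List.mem_map.mp hx
    exact (IsLocalization.AtPrime.to_map_mem_maximal_iff L q y).mpr (hPq (hGP (by simpa using hy)))
  have hCM : LocCoh.IsCohenMacaulayModule L L := by
    rw [isCohenMacaulayModule_iff]
    exact ⟨inferInstance, by rw [Module.supportDim_self_eq_ringKrullDim]; exact ringKrullDim_le_depth_of_regular L⟩
  have hntP : Nontrivial (L ⧸ PL) := Ideal.Quotient.nontrivial_iff.mpr
    (Ideal.isPrime_map_of_isLocalizationAtPrime q hPq).ne_top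
  have : IsLocalRing (L ⧸ PL) := IsLocalRing.of_surjective' (Ideal.Quotient.mk PL) Ideal.Quotient.mk_surjective
  let eq1 : (L ⧸ (Ideal.ofList xs • (⊤ : Submodule L L))) ≃ₗ[L] L ⧸ PL :=
    Submodule.quotEquivOfEq _ _ (by rw [smul_eq_mul, Ideal.mul_top, hxs])
  have hwr : IsWeaklyRegular L xs := by
    refine isWeaklyRegular_of_supportDim hCM hmem (le_antisymm ?_ (supportDim_le_quotient_add_length hmem))
    have : Nontrivial (LocalizedModule P.primeCompl R) :=
      (CAlg1.locSelfEquiv P).toEquiv.nontrivial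
    have h1 := (generalization_bounds (M := R) (p := P) (q := q) hPq).1
    simp only [Dim, CAlg1.supportDim_locSelf] at h1
    rw [supportDim_eq_of_equiv eq1, Module.supportDim_quotient_eq_ringKrullDim,
      Module.supportDim_self_eq_ringKrullDim, IsLocalization.AtPrime.ringKrullDim_eq_height q L, add_comm]
    refine le_trans (add_le_add ?_ le_rfl) h1
    rw [List.length_map, Finset.length_toList]
    calc ((G.card : ℕ) : WithBot ℕ∞) ≤ ((maximalIdeal (Localization.AtPrime P)).spanFinrank : WithBot ℕ∞) := by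
          exact_mod_cast hGcard
      _ = _ := height_eq_spanFinrank P
  have hq := isCohenMacaulayModule_quotient hCM hwr hmem
  have hPLcm : LocCoh.IsCohenMacaulayLocalRing (L ⧸ PL) := by
    have : IsLocalHom (algebraMap L (L ⧸ PL)) := Function.Surjective.isLocalHom _ Ideal.Quotient.mk_surjective
    refine { supportDim_eq_depth := ?_ }
    rw [LocCoh.IsCohenMacaulayModule, supportDim_eq_of_equiv eq1, depth_eq_of_equiv eq1,
      supportDim_eq_of_finite_restrictScalars L (L ⧸ PL) (L ⧸ PL), depth_eq_of_finite (A := L) (B := L ⧸ PL) (L ⧸ PL)] at hq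
    exact hq
  obtain ⟨e⟩ := exists_quotLoc_equiv ψ hψ qb.asIdeal ⊥
  rw [← RingHom.ker_eq_comap_bot] at e
  exact isCohenMacaulayLocalRing_of_ringEquiv
    (e.trans ((Ideal.quotEquivOfEq Ideal.map_bot).trans (RingEquiv.quotientBot _))) hPLcm

end Groth.Agent.EGA4H10.Codepth
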