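import Groth.Agent.EGA4H10.CompleteJ2
import Groth.Agent.EGA4H10.CompleteUC
import Groth.Agent.EGA4H10.NormalFlat
import Groth.Agent.EGA4H10.NormOpen
import Groth.Agent.EGA4H10.CodepthOpen
import Groth.Agent.EGA4H10.CMFibre
import Groth.Agent.S2609
import Mathlib

/-!
# Open loci on a local ring from its formal fibres
-/

set_option autoImplicit false
set_option linter.style.haveILetI false
universe u

open IsLocalRing TensorProduct

namespace Groth.Agent.EGA4H10

open Codepth

/-- openness descends along faithfully flat maps -/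
theorem isOpen_of_preimage {A B : Type u} [CommRing A] [CommRing B] [Algebra A B] [Module.FaithfullyFlat A B]
    (s : Set (PrimeSpectrum A)) (h : IsOpen (PrimeSpectrum.comap (algebraMap A B) ⁻¹' s)) : IsOpen s :=
  (PrimeSpectrum.isQuotientMap_of_generalizingMap (f := algebraMap A B)
    PrimeSpectrum.comap_surjective_of_faithfullyFlat
    (Algebra.HasGoingDown.iff_generalizingMap_primeSpectrumComap.1 inferInstance)).isOpen_preimage.1 h

theorem faithfullyFlat_cpl (A : Type u) [CommRing A] [IsNoetherianRing A] [IsLocalRing A] :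
    Module.FaithfullyFlat A (EGA4.Cpl A) := by
  have : IsLocalHom (algebraMap A (EGA4.Cpl A)) :=
    ((IsLocalRing.local_hom_TFAE _).out 2 0 rfl rfl).mp AdicCompletion.maximalIdeal_eq_map.symm.le
  exact Module.FaithfullyFlat.of_flat_of_isLocalHom

/-- regular fibre rings have regular local rings -/
theorem fibLocRing_regular {A B : Type u} [CommRing A] [CommRing B] [Algebra A B]
    (h : ∀ (p : Ideal A) [p.IsPrime], IsRegularRing (p.Fiber B)) (q : Ideal B) [q.IsPrime] :
    IsRegularLocalRing (EGA4.FibLocRing A B q) := by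
  obtain ⟨Q, ⟨e⟩⟩ := exists_fiber_equiv (A := A) q
  have := h (q.comap (algebraMap A B))
  have := isRegularRing_iff.1 this Q.asIdeal
  exact IsRegularLocalRing.of_ringEquiv (R := Localization.AtPrime Q.asIdeal) e

/-- for flat maps with regular fibres the regular locus pulls back -/
theorem preimage_regLocus {A B : Type u} [CommRing A] [CommRing B] [IsNoetherianRing A] [IsNoetherianRing B]
    [Algebra A B] [Module.Flat A B] (h : ∀ (p : Ideal A) [p.IsPrime], IsRegularRing (p.Fiber B)) :
    PrimeSpectrum.comap (algebraMap A B) ⁻¹' EGA4.regLocus A = EGA4.regLocus B := by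
  ext ⟨q, hq⟩
  let p := q.comap (algebraMap A B)
  show IsRegularLocalRing (Localization.AtPrime p) ↔ IsRegularLocalRing (Localization.AtPrime q)
  constructor
  · intro hp
    obtain ⟨k, hk⟩ : ∃ k : ℕ, q.height = k := WithTop.ne_top_iff_exists.1 (Ideal.height_ne_top hq.ne_top) |>.imp fun k hk => hk.symm
    have hA : EGA4.HasRkAt k A p := fun r _ _ => regular_localization _ r
    have hB : EGA4.HasRkAt k B q := S2609.result k A B
      (fun r _ => fun s _ _ => by have := fibLocRing_regular h r; exact regular_localization _ s) q hA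
    rw [hasRkAt_iff] at hB
    exact hB ⟨q, hq⟩ le_rfl hk.le
  · intro hq'
    let L := Localization.AtPrime q
    have : q.LiesOver p := ⟨rfl⟩
    let := Localization.AtPrime.algebraOfLiesOver p q
    have : IsLocalHom (algebraMap (Localization.AtPrime p) L) := by
      rw [RingHom.algebraMap_toAlgebra]
      exact Localization.isLocalHom_localRingHom p q (algebraMap A B) Ideal.LiesOver.over
    have : Module.Flat A L := Module.Flat.trans A B L
    have : Module.Flat (Localization.AtPrime p) L :=
      (Module.flat_iff_of_isLocalization (Localization.AtPrime p) p.primeCompl L).2 inferInstance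
    exact regular_of_flat (Localization.AtPrime p) L

theorem isOpen_regLocus_of_regularHom (A : Type u) [CommRing A] [IsNoetherianRing A] [IsLocalRing A]
    (hA : CAlg.IsRegularHom A (EGA4.Cpl A)) : IsOpen (EGA4.regLocus A) := by
  let Ah := EGA4.Cpl A
  have : IsNoetherianRing Ah := Cohen12.isNoetherianRing_completion (A := A)
  have : IsAdicComplete (maximalIdeal Ah) Ah := Cohen12.isAdicComplete_completion (A := A)
  have := faithfullyFlat_cpl A
  refine isOpen_of_preimage (B := Ah) _ ?_
  rw [preimage_regLocus fun p _ => ?_]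
  · exact isJ2_of_complete Ah Ah inferInstance
  · have : IsRegularRing (p.ResidueField ⊗[p.ResidueField] p.Fiber Ah) := (hA.2 p).2 p.ResidueField inferInstance
    exact IsRegularRing.of_ringEquiv (R := p.ResidueField ⊗[p.ResidueField] p.Fiber Ah)
      (Algebra.TensorProduct.lid p.ResidueField (p.Fiber Ah)).toRingEquiv

/-- for flat maps with geometrically normal fibres the normal locus pulls back -/
theorem preimage_norLocus {A B : Type u} [CommRing A] [CommRing B] [IsNoetherianRing A] [IsNoetherianRing B]
    [Algebra A B] [Module.Flat A B] (h : ∀ (p : Ideal A) [p.IsPrime], EGA4.IsGeomNormal p.ResidueField (p.Fiber B)) :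
    PrimeSpectrum.comap (algebraMap A B) ⁻¹' EGA4.norLocus A = EGA4.norLocus B := by
  ext ⟨q, hq⟩
  exact ⟨fun hp => normal_localization_of_flat A B (fun r _ => fibLocRing_normal h r) q hp.1 hp.2,
    fun hq' => normal_base_of_flat A B q hq'.1 hq'.2⟩

theorem isOpen_norLocus_of_formalFibres (A : Type u) [CommRing A] [IsNoetherianRing A] [IsLocalRing A]
    (hA : EGA4.HasGeomNormalFormalFibres A) : IsOpen (EGA4.norLocus A) := by
  let Ah := EGA4.Cpl A
  have : IsNoetherianRing Ah := Cohen12.isNoetherianRing_completion (A := A)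
  have : IsAdicComplete (maximalIdeal Ah) Ah := Cohen12.isAdicComplete_completion (A := A)
  have := faithfullyFlat_cpl A
  refine isOpen_of_preimage (B := Ah) _ ?_
  rw [preimage_norLocus fun p _ => hA p]
  exact isOpen_norLocus_of_regLocus (isJ2_of_complete Ah Ah inferInstance)

theorem cm_iff_codepthLE_zero {A : Type u} [CommRing A] [IsNoetherianRing A] (p : Ideal A) [p.IsPrime] :
    LocCoh.IsCohenMacaulayLocalRing (Localization.AtPrime p) ↔ CodepthLE A 0 p := by
  let L := Localization.AtPrime p
  have : IsNoetherianRing L := IsLocalization.isNoetherianRing p.primeCompl _ inferInstance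
  have : Nontrivial (LocalizedModule p.primeCompl A) := (CAlg1.locSelfEquiv p).toEquiv.nontrivial
  obtain ⟨a, b, ha, hb, hba⟩ := exists_vals (M := A) p
  rw [codepthLE_iff ha hb]
  have ha' : Module.supportDim L L = a := by
    exact ((Module.supportDim_eq_of_equiv (CAlg1.locSelfEquiv p)).symm.trans ha)
  have hb' : LocCoh.depth L L = b := by
    exact ((EGA4Alg4.depth_eq_of_equiv (CAlg1.locSelfEquiv p)).symm.trans hb)
  constructor
  · intro h
    have := h.supportDim_eq_depth
    rw [ha', hb'] at this
    have : a = b := by exact_mod_cast this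
    omega
  · intro h
    have : a = b := by omega
    exact { supportDim_eq_depth := by rw [ha', hb', this]; rfl }

/-- for flat maps with Cohen-Macaulay fibre local rings the Cohen-Macaulay locus pulls back -/
theorem preimage_cmLocus {A B : Type u} [CommRing A] [CommRing B] [IsNoetherianRing A] [IsNoetherianRing B]
    [Algebra A B] [Module.Flat A B]
    (h : ∀ (q : Ideal B) [q.IsPrime], LocCoh.IsCohenMacaulayLocalRing (EGA4.FibLocRing A B q)) :
    PrimeSpectrum.comap (algebraMap A B) ⁻¹' {p | LocCoh.IsCohenMacaulayLocalRing (Localization.AtPrime p.asIdeal)} =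
      {q | LocCoh.IsCohenMacaulayLocalRing (Localization.AtPrime q.asIdeal)} := by
  ext ⟨q, hq⟩
  let p := q.comap (algebraMap A B)
  show LocCoh.IsCohenMacaulayLocalRing (Localization.AtPrime p) ↔ LocCoh.IsCohenMacaulayLocalRing (Localization.AtPrime q)
  let L := Localization.AtPrime q
  let Ap := Localization.AtPrime p
  have : IsNoetherianRing L := IsLocalization.isNoetherianRing q.primeCompl _ inferInstance
  have : IsNoetherianRing Ap := IsLocalization.isNoetherianRing p.primeCompl _ inferInstance
  have : Nontrivial (LocalizedModule q.primeCompl B) := (CAlg1.locSelfEquiv q).toEquiv.nontrivial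
  have : Nontrivial (LocalizedModule p.primeCompl A) := (CAlg1.locSelfEquiv p).toEquiv.nontrivial
  obtain ⟨hd, hs⟩ := tensor_loc_invariants (A := A) B A q
  let e : B ⊗[A] A ≃ₗ[B] B := AlgebraTensorModule.rid A B B
  let e' : LocalizedModule q.primeCompl (B ⊗[A] A) ≃ₗ[L] LocalizedModule q.primeCompl B :=
    IsLocalizedModule.mapEquiv q.primeCompl (LocalizedModule.mkLinearMap q.primeCompl (B ⊗[A] A))
      (LocalizedModule.mkLinearMap q.primeCompl B) L e
  rw [EGA4Alg4.depth_eq_of_equiv e'] at hd
  rw [Module.supportDim_eq_of_equiv e'] at hs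
  obtain ⟨a, b, ha, hb, hba⟩ := exists_vals (M := B) q
  obtain ⟨c, d, hc, hdd, hdc⟩ := exists_vals (M := A) p
  rw [cm_iff_codepthLE_zero q, cm_iff_codepthLE_zero p, codepthLE_iff ha hb, codepthLE_iff hc hdd]
  let R := EGA4.FibLocRing A B q
  have hR := h q
  have : IsLocalRing R := hR.toIsLocalRing
  have : IsNoetherianRing R := Ideal.Quotient.isNoetherianRing _
  have : IsLocalHom (algebraMap L R) := Function.Surjective.isLocalHom _ Ideal.Quotient.mk_surjective
  let eM : EGA4.FibLocMod A B q B ≃ₗ[L] R :=
    Submodule.Quotient.equiv _ _ (CAlg1.locSelfEquiv q) (by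
      rw [Submodule.map_smul'', Submodule.map_top, LinearEquiv.range, Ideal.smul_eq_mul, Ideal.mul_top])
  have hcm := hR.supportDim_eq_depth
  rw [← EGA4Alg4.supportDim_eq_of_finite_restrictScalars L R R, ← EGA4Alg4.depth_eq_of_finite (A := L) (B := R) R,
    ← EGA4Alg4.depth_eq_of_equiv eM, ← Module.supportDim_eq_of_equiv eM] at hcm
  obtain ⟨k, hk⟩ := EGA4Alg4.exists_depth_eq (A := L) (M := R)
  rw [← EGA4Alg4.depth_eq_of_equiv eM] at hk
  rw [hk] at hcm hd
  rw [hcm] at hs
  simp only [Dim, Dep] at ha hb hc hdd
  rw [hb, hdd] at hd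
  rw [ha, hc] at hs
  have e1 : a = c + k := by exact_mod_cast hs
  have e2 : b = d + k := by exact_mod_cast hd
  omega

theorem isOpen_cmLocus_of_formalFibres (A : Type u) [CommRing A] [IsNoetherianRing A] [IsLocalRing A]
    (hA : EGA4.HasCMFormalFibres A) :
    IsOpen {p : PrimeSpectrum A | LocCoh.IsCohenMacaulayLocalRing (Localization.AtPrime p.asIdeal)} := by
  let Ah := EGA4.Cpl A
  have : IsNoetherianRing Ah := Cohen12.isNoetherianRing_completion (A := A)
  have : IsAdicComplete (maximalIdeal Ah) Ah := Cohen12.isAdicComplete_completion (A := A)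
  have := faithfullyFlat_cpl A
  refine isOpen_of_preimage (B := Ah) _ ?_
  rw [preimage_cmLocus fun q _ => ?_]
  · obtain ⟨S, _, hS, φ, hφ⟩ := exists_regular_surjection Ah
    let : Algebra S Ah := φ.toAlgebra
    have : IsRegularRing S := isRegularRing_iff.2 fun P _ => regular_localization S P
    have := isOpen_codepthLE (M := Ah) (cmu_of_quotient_regular S Ah hφ) 0
    convert this using 1
    ext p
    exact cm_iff_codepthLE_zero p.asIdeal
  · obtain ⟨Q, ⟨e⟩⟩ := exists_fiber_equiv (A := A) q
    exact isCohenMacaulayLocalRing_of_ringEquiv (R := Localization.AtPrime Q.asIdeal) e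
      ((hA _).isCohenMacaulayLocalRing_localization Q.asIdeal)

end Groth.Agent.EGA4H10
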