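import Groth.Agent.EGA4H10.FTGRing
import Groth.Agent.GRing57.LocRegular
import Groth.Agent.EGA4H10.OpenFormal
import Mathlib

/-!
# Algebras of finite type over G-rings are G-rings
-/

set_option autoImplicit false
set_option linter.style.haveILetI false
set_option maxHeartbeats 1000000
universe u

open IsLocalRing TensorProduct

namespace Groth.Agent.EGA4H10

/-- finite type algebras over a local ring with regular completion map -/
theorem isGRing_of_finiteType_local (L C : Type u) [CommRing L] [IsLocalRing L] [IsNoetherianRing L]
    (hL : GRing57.RegCpl L) [CommRing C] [Algebra L C] [Algebra.FiniteType L C] : CAlg.IsGRing C := by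
  let Lh := EGA4.Cpl L
  have : IsNoetherianRing Lh := Cohen12.isNoetherianRing_completion L
  have : IsAdicComplete (maximalIdeal Lh) Lh := Cohen12.isAdicComplete_completion L
  have := faithfullyFlat_cpl L
  have : IsNoetherianRing C := Algebra.FiniteType.isNoetherianRing L C
  let T := C ⊗[L] Lh
  let _ : Algebra Lh T := Algebra.TensorProduct.rightAlgebra
  have : Algebra.FiniteType Lh T := Algebra.FiniteType.equiv (inferInstance : Algebra.FiniteType Lh (Lh ⊗[L] C))
    (Algebra.TensorProduct.commRight L Lh C)
  have : IsNoetherianRing T := Algebra.FiniteType.isNoetherianRing Lh T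
  have hT : CAlg.IsGRing T := isGRing_of_finiteType_complete Lh T
  have hCT : CAlg.IsRegularHom C T := CAlg5.isRegularHom_baseChange L Lh C hL
  refine ⟨inferInstance, fun q _ => ?_⟩
  obtain ⟨⟨P, hP⟩, hPq⟩ := PrimeSpectrum.comap_surjective_of_faithfullyFlat (A := C) (B := T) ⟨q, inferInstance⟩
  obtain rfl : P.comap (algebraMap C T) = q := congrArg PrimeSpectrum.asIdeal hPq
  have h1 := CAlg4.RegHomLoc.localization_isRegularHom hCT P
  letI := (Localization.localRingHom (P.comap (algebraMap C T)) P (algebraMap C T) rfl).toAlgebra
  let B := Localization.AtPrime (P.comap (algebraMap C T))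
  let TP := Localization.AtPrime P
  have : IsLocalHom (algebraMap B TP) := Localization.isLocalHom_localRingHom _ _ _ rfl
  have : IsNoetherianRing B := IsLocalization.isNoetherianRing (P.comap (algebraMap C T)).primeCompl _ inferInstance
  have : IsNoetherianRing TP := IsLocalization.isNoetherianRing P.primeCompl _ inferInstance
  have h2 := hT.2 P
  have := Cohen12.isNoetherianRing_completion (Localization.AtPrime P)
  have := Cohen12.isAdicComplete_completion (Localization.AtPrime P)
  have := GRing57.isLocalHom_algebraMap_completion (Localization.AtPrime P)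
  exact GRing57.regularHom_trans h1 h2

/-- algebras of finite type over G-rings are G-rings -/
theorem isGRing_of_finiteType_gRing (R : Type u) [CommRing R] (hR : CAlg.IsGRing R) (S : Type u)
    [CommRing S] [Algebra R S] [Algebra.FiniteType R S] : CAlg.IsGRing S := by
  have := hR.1
  refine ⟨Algebra.FiniteType.isNoetherianRing R S, fun Q _ => ?_⟩
  let p := Q.comap (algebraMap R S)
  let L := Localization.AtPrime p
  have : IsNoetherianRing L := IsLocalization.isNoetherianRing p.primeCompl _ inferInstance
  let C := S ⊗[R] L
  let _ : Algebra L C := Algebra.TensorProduct.rightAlgebra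
  have : Algebra.FiniteType L C := Algebra.FiniteType.equiv (inferInstance : Algebra.FiniteType L (L ⊗[R] S))
    (Algebra.TensorProduct.commRight R L S)
  have hC : CAlg.IsGRing C := isGRing_of_finiteType_local L C (hR.2 p)
  have := hC.1
  let M := Algebra.algebraMapSubmonoid S p.primeCompl
  have : IsLocalization M C := inferInstance
  have hd : Disjoint (M : Set S) Q := Set.disjoint_left.mpr fun x hx hxQ => by
    obtain ⟨r, hr, rfl⟩ := hx
    exact hr hxQ
  have hP : (Q.map (algebraMap S C)).IsPrime := IsLocalization.isPrime_of_isPrime_disjoint M _ Q inferInstance hd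
  have hPc : (Q.map (algebraMap S C)).comap (algebraMap S C) = Q :=
    IsLocalization.under_map_of_isPrime_disjoint M _ inferInstance hd
  have := IsLocalization.isLocalization_isLocalization_atPrime_isLocalization M
    (Localization.AtPrime (Q.map (algebraMap S C))) (Q.map (algebraMap S C))
  have : IsLocalization.AtPrime (Localization.AtPrime (Q.map (algebraMap S C))) Q := by
    simpa only [hPc] using this
  have : IsNoetherianRing (Localization.AtPrime (Q.map (algebraMap S C))) :=
    IsLocalization.isNoetherianRing (Q.map (algebraMap S C)).primeCompl _ inferInstance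
  exact GRing57.regCpl_of_ringEquiv (IsLocalization.algEquiv Q.primeCompl
    (Localization.AtPrime (Q.map (algebraMap S C))) (Localization.AtPrime Q)).toRingEquiv (hC.2 _)

end Groth.Agent.EGA4H10
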