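import Mathlib

set_option autoImplicit false
universe u
open IsLocalRing Polynomial

namespace Groth.Agent.EGA4H10

/-! Making a finitely generated extension separable after a finite radical extension of the base. -/

/-- inseparability is absorbed by adjoining finitely many roots -/
theorem exists_separable_model (A Ω : Type u) [CommRing A] [Field Ω] [IsAlgClosed Ω] [Algebra A Ω]
    (X : Finset Ω) :
    ∃ C s : Finset Ω, (∀ c ∈ C, IsIntegral A c) ∧
      (∀ y ∈ s, ∃ n, 0 < n ∧ y ^ n ∈ X) ∧
      AlgebraicIndependent (Algebra.adjoin A (C : Set Ω)) (fun y : s => (y : Ω)) ∧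
      ∀ x ∈ X, IsSeparable (Subfield.closure (Set.range (algebraMap A Ω) ∪ C ∪ s)) x := by
  classical
  obtain ⟨p, hp⟩ := ExpChar.exists Ω
  let K : Subfield Ω := Subfield.closure (Set.range (algebraMap A Ω))
  obtain ⟨t, ⟨htX, htind⟩, htmax⟩ := Finset.exists_maximal (s := X.powerset.filter (fun t : Finset Ω => AlgebraicIndepOn K id (t : Set Ω)))
    ⟨∅, by
      simp only [Finset.mem_filter, Finset.empty_mem_powerset, true_and, Finset.coe_empty]
      exact (algebraicIndependent_empty_iff ..).mpr (algebraMap K Ω).injective⟩ |>.imp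
    fun t h => And.intro (Finset.mem_filter.mp h.1) h.2
  rw [Finset.mem_powerset] at htX
  let F0 : IntermediateField K Ω := IntermediateField.adjoin K (t : Set Ω)
  have halg : ∀ x ∈ X, IsAlgebraic F0 x := by
    intro x hx
    by_cases hxt : x ∈ t
    · exact isAlgebraic_algebraMap (⟨x, IntermediateField.subset_adjoin K _ hxt⟩ : F0)
    · have hnot : ¬ AlgebraicIndepOn K id (insert x (t : Set Ω)) := fun hi => hxt (htmax
        (Finset.mem_filter.mpr ⟨Finset.mem_powerset.mpr (Finset.insert_subset hx htX), by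
          rw [Finset.coe_insert]; exact hi⟩) (Finset.subset_insert x t) (Finset.mem_insert_self x t))
      have hnot' : IsAlgebraic (Algebra.adjoin K (id '' (t : Set Ω))) x :=
        not_not.mp fun h => hnot ((AlgebraicIndepOn.insert_iff (by simpa using hxt)).mpr ⟨htind, h⟩)
      rw [Set.image_id] at hnot'
      exact IntermediateField.isAlgebraic_adjoin_iff.mpr hnot'
  have : ExpChar F0 p := RingHom.expChar (algebraMap F0 Ω) (algebraMap F0 Ω).injective p
  have he : ∀ x ∈ X, ∃ e : ℕ, IsSeparable F0 (x ^ p ^ e) := by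
    intro x hx
    obtain ⟨g, hg, e, hge⟩ := (minpoly.irreducible (isAlgebraic_iff_isIntegral.mp (halg x hx))).hasSeparableContraction p
    refine ⟨e, hg.of_dvd (minpoly.dvd F0 _ ?_)⟩
    rw [← expand_aeval, hge, minpoly.aeval]
  choose e he using he
  let E : ℕ := X.attach.sup fun x => e x.1 x.2
  have hsep : ∀ x ∈ X, IsSeparable F0 (x ^ p ^ E) := by
    intro x hx
    have hle : e x hx ≤ E := Finset.le_sup (f := fun x : X => e x.1 x.2) (Finset.mem_attach X ⟨x, hx⟩)
    rw [show p ^ E = p ^ e x hx * p ^ (E - e x hx) by rw [← pow_add, Nat.add_sub_cancel' hle], pow_mul]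
    exact mem_separableClosure_iff.mp (pow_mem (mem_separableClosure_iff.mpr (he x hx)) _)
  let φ : Ω ≃+* Ω := (iterateFrobeniusEquiv Ω p E).symm
  have hφ : ∀ z : Ω, (φ z) ^ p ^ E = z := fun z => by
    rw [← iterateFrobeniusEquiv_def Ω p E (φ z)]; exact RingEquiv.apply_symm_apply _ z
  have hF0 : ∀ c : F0, (c : Ω) ∈ Subfield.closure (Set.range (algebraMap A Ω) ∪ t) := by
    intro c
    have : F0.toSubfield ≤ Subfield.closure (Set.range (algebraMap A Ω) ∪ t) := by
      rw [show F0.toSubfield = Subfield.closure (Set.range (algebraMap K Ω) ∪ t) from rfl, Subfield.closure_le]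
      rintro z (⟨k, rfl⟩ | hz)
      · exact Subfield.closure_mono Set.subset_union_left k.2
      · exact Subfield.subset_closure (Or.inr hz)
    exact this c.2
  have hcoef : ∀ c ∈ Subfield.closure (Set.range (algebraMap A Ω) ∪ t), ∃ C0 : Finset A,
      φ c ∈ Subfield.closure (Set.range (algebraMap A Ω) ∪ φ '' (algebraMap A Ω '' C0) ∪ φ '' t) := by
    intro c hc
    induction hc using Subfield.closure_induction with
    | mem z hz =>
      rcases hz with ⟨a, rfl⟩ | hz
      · exact ⟨{a}, Subfield.subset_closure (Or.inl (Or.inr ⟨_, ⟨a, by simp, rfl⟩, rfl⟩))⟩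
      · exact ⟨∅, Subfield.subset_closure (Or.inr ⟨z, hz, rfl⟩)⟩
    | one => exact ⟨∅, by rw [map_one]; exact one_mem _⟩
    | neg z _ h =>
      obtain ⟨C0, h⟩ := h
      exact ⟨C0, by rw [map_neg]; exact neg_mem h⟩
    | inv z _ h =>
      obtain ⟨C0, h⟩ := h
      exact ⟨C0, by rw [map_inv₀]; exact inv_mem h⟩
    | add z w _ _ h h' =>
      obtain ⟨C0, h⟩ := h
      obtain ⟨C1, h'⟩ := h'
      refine ⟨C0 ∪ C1, ?_⟩
      rw [map_add]
      refine add_mem (Subfield.closure_mono ?_ h) (Subfield.closure_mono ?_ h') <;> gcongr <;> simp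
    | mul z w _ _ h h' =>
      obtain ⟨C0, h⟩ := h
      obtain ⟨C1, h'⟩ := h'
      refine ⟨C0 ∪ C1, ?_⟩
      rw [map_mul]
      refine mul_mem (Subfield.closure_mono ?_ h) (Subfield.closure_mono ?_ h') <;> gcongr <;> simp
  let coefs : Finset Ω := X.biUnion fun x => (minpoly F0 (x ^ p ^ E)).coeffs.image Subtype.val
  choose! C0 hC0 using hcoef
  let C1 : Finset A := coefs.biUnion C0
  let C : Finset Ω := (C1.image (algebraMap A Ω)).image φ
  refine ⟨C, t.image φ, ?_, ?_, ?_, ?_⟩
  · intro c hc
    simp only [C, Finset.mem_image] at hc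
    obtain ⟨_, ⟨a, -, rfl⟩, rfl⟩ := hc
    exact IsIntegral.of_pow (pow_pos (expChar_pos Ω p) E) (by rw [hφ]; exact isIntegral_algebraMap)
  · intro y hy
    obtain ⟨z, hz, rfl⟩ := Finset.mem_image.mp hy
    exact ⟨p ^ E, pow_pos (expChar_pos Ω p) E, by rw [hφ]; exact htX hz⟩
  · set A' := Algebra.adjoin A (C : Set Ω)
    have hrange : ∀ a : A', (a : Ω) ^ p ^ E ∈ K := by
      intro a
      have : A' ≤ ({ carrier := {z : Ω | z ^ p ^ E ∈ K}
                     mul_mem' := fun {z w} hz hw => by
                       show (z * w) ^ p ^ E ∈ K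
                       rw [mul_pow]; exact mul_mem hz hw
                     add_mem' := fun {z w} hz hw => by
                       show (z + w) ^ p ^ E ∈ K
                       rw [add_pow_expChar_pow]; exact add_mem hz hw
                     algebraMap_mem' := fun r => pow_mem (Subfield.subset_closure (Set.mem_range_self r)) _
                     } : Subalgebra A Ω) := by
        refine Algebra.adjoin_le fun c hc => ?_
        simp only [C, Finset.coe_image, Set.mem_image] at hc
        obtain ⟨_, ⟨a, -, rfl⟩, rfl⟩ := hc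
        show φ (algebraMap A Ω a) ^ p ^ E ∈ K
        rw [hφ]; exact Subfield.subset_closure (Set.mem_range_self a)
      exact this a.2
    let ι : A' →+* K := ((φ.symm.toRingHom).comp A'.val.toRingHom).codRestrict K fun a => by
      show φ.symm (a : Ω) ∈ K
      rw [show φ.symm (a : Ω) = (a : Ω) ^ p ^ E from iterateFrobeniusEquiv_def Ω p E _]
      exact hrange a
    have hι : Function.Injective ι := fun a b h => Subtype.ext (φ.symm.injective (congrArg Subtype.val h))
    rw [AlgebraicIndependent]
    refine (injective_iff_map_eq_zero _).mpr fun P hP => ?_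
    let σ : {y // y ∈ t.image φ} → {z // z ∈ (t : Set Ω)} := fun y => ⟨φ.symm y, by
      obtain ⟨z, hz, hzy⟩ := Finset.mem_image.mp y.2
      rw [← hzy, RingEquiv.symm_apply_apply]; exact hz⟩
    have hσ : Function.Injective σ := fun a b h => Subtype.ext (φ.symm.injective (congrArg Subtype.val h))
    have h1 := congrArg φ.symm hP
    rw [map_zero, MvPolynomial.aeval_def, ← RingEquiv.coe_toRingHom, MvPolynomial.eval₂_comp_left] at h1
    have h2 : MvPolynomial.aeval (R := K) (fun z : {z // z ∈ (t : Set Ω)} => (z : Ω))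
        (MvPolynomial.rename σ (MvPolynomial.map ι P)) = 0 := by
      rw [MvPolynomial.aeval_rename, MvPolynomial.aeval_def, MvPolynomial.eval₂_map]
      exact h1
    have h3 := htind.eq_zero_of_aeval_eq_zero _ h2
    exact MvPolynomial.map_injective ι hι ((MvPolynomial.rename_injective σ hσ) (by simpa using h3))
  · intro x hx
    set F := Subfield.closure (Set.range (algebraMap A Ω) ∪ (C : Set Ω) ∪ ((t.image φ : Finset Ω) : Set Ω))
    set P := minpoly F0 (x ^ p ^ E)
    let Q : Polynomial Ω := P.map (φ.toRingHom.comp (algebraMap F0 Ω))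
    have hQ : Q ∈ Polynomial.lifts (algebraMap F Ω) := by
      rw [Polynomial.lifts_iff_coeff_lifts]
      intro i
      rw [coeff_map]
      by_cases hi : P.coeff i = 0
      · exact ⟨0, by simp [hi]⟩
      have hmem : (P.coeff i : Ω) ∈ coefs := Finset.mem_biUnion.mpr
        ⟨x, hx, Finset.mem_image.mpr ⟨_, Polynomial.coeff_mem_coeffs hi, rfl⟩⟩
      refine ⟨⟨φ (P.coeff i : Ω), Subfield.closure_mono ?_ (hC0 _ (hF0 _))⟩, rfl⟩
      simp only [C, C1, Finset.coe_image]
      gcongr
      exact Finset.coe_subset.mpr (Finset.subset_biUnion_of_mem C0 hmem)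
    obtain ⟨Q', hQ'⟩ := (Polynomial.mem_lifts Q).mp hQ
    have hQsep : Q.Separable := (show P.Separable from hsep x hx).map
    refine Polynomial.Separable.of_dvd ((Polynomial.separable_map (algebraMap F Ω)).mp (hQ' ▸ hQsep)) (minpoly.dvd F x ?_)
    rw [aeval_def, ← eval_map, hQ', eval_map]
    have : x = φ (x ^ p ^ E) := φ.symm.injective (by
      rw [RingEquiv.symm_apply_apply]; exact iterateFrobeniusEquiv_def Ω p E x)
    rw [this]
    show eval₂ _ (φ.toRingHom (x ^ p ^ E)) P = 0
    rw [← Polynomial.hom_eval₂, ← aeval_def, minpoly.aeval, map_zero]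



end Groth.Agent.EGA4H10
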