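import Mathlib
import Groth.Prelude.Def_EGA4b
import Groth.Agent.EGA4H10.RegAway
import Groth.Agent.EGA4H10.SepModel
import Groth.Agent.EGA4H10.Serre

set_option autoImplicit false
universe u
open IsLocalRing Polynomial

namespace Groth.Agent.EGA4H10

/-! Nagata criterion for openness of regular loci. -/

theorem exists_regAway_adjoin {R Ω : Type u} [CommRing R] [IsDomain R] [IsNoetherianRing R] [Field Ω] [Algebra R Ω]
    [FaithfulSMul R Ω] (g : R) (hg0 : g ≠ 0) (hg : RegAway R g) (X : Finset Ω)
    (hX : ∀ x ∈ X, letI := FractionRing.liftAlgebra R Ω; IsSeparable (FractionRing R) x) :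
    ∃ h : Algebra.adjoin R (X : Set Ω), h ≠ 0 ∧ RegAway (Algebra.adjoin R (X : Set Ω)) h := by
  classical
  letI := FractionRing.liftAlgebra R Ω
  set S := Algebra.adjoin R (X : Set Ω)
  have : Algebra.FiniteType R S := (Subalgebra.fg_iff_finiteType _).mp ⟨X, rfl⟩
  have : Algebra.FinitePresentation R S := Algebra.FinitePresentation.of_finiteType.mp ‹_›
  have hinjS : Function.Injective (algebraMap R S) := fun a b hab =>
    FaithfulSMul.algebraMap_injective R Ω (congrArg Subtype.val hab)
  have : FaithfulSMul R S := (faithfulSMul_iff_algebraMap_injective R S).mpr hinjS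
  letI := FractionRing.liftAlgebra R (FractionRing S)
  have hsep : Algebra.IsSeparable (FractionRing R) (FractionRing S) := by
    have hinj : Function.Injective S.val := Subtype.val_injective
    let ψ : FractionRing S →+* Ω := IsFractionRing.lift (g := S.val.toRingHom) hinj
    have hcomm : ∀ c : FractionRing R, ψ (algebraMap (FractionRing R) (FractionRing S) c) = algebraMap (FractionRing R) Ω c := by
      have : ψ.comp (algebraMap (FractionRing R) (FractionRing S)) = algebraMap (FractionRing R) Ω := by
        refine IsLocalization.ringHom_ext (nonZeroDivisors R) (RingHom.ext fun r => ?_)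
        simp only [RingHom.comp_apply, ← IsScalarTower.algebraMap_apply]
        rw [IsScalarTower.algebraMap_apply R S (FractionRing S)]
        exact IsFractionRing.lift_algebraMap hinj _
      exact fun c => RingHom.congr_fun this c
    let ψa : FractionRing S →ₐ[FractionRing R] Ω := AlgHom.mk ψ hcomm
    have hle : ⊤ ≤ IntermediateField.comap ψa (separableClosure (FractionRing R) Ω) := by
      intro z _
      obtain ⟨a, b, -, rfl⟩ := IsFractionRing.div_surjective (A := S) z
      have key : ∀ w : S, ψa (algebraMap S (FractionRing S) w) ∈ separableClosure (FractionRing R) Ω := by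
        intro w
        rw [show ψa (algebraMap S (FractionRing S) w) = (w : Ω) from IsFractionRing.lift_algebraMap hinj w]
        have : S ≤ (separableClosure (FractionRing R) Ω).toSubalgebra.restrictScalars R :=
          Algebra.adjoin_le fun x hx => mem_separableClosure_iff.mpr (hX x hx)
        exact this w.2
      show ψa _ ∈ separableClosure (FractionRing R) Ω
      rw [map_div₀]
      exact div_mem (key a) (key b)
    refine ⟨fun z => ?_⟩
    exact (isSeparable_map_iff ψa ψa.injective).mp (mem_separableClosure_iff.mp (hle (Submodule.mem_top (R := FractionRing R) (M := FractionRing S) (x := z))))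
  have : Algebra.FormallyEtale R (FractionRing R) := Algebra.FormallyEtale.of_isLocalization (nonZeroDivisors R)
  have : Algebra.FormallyEtale (FractionRing R) (FractionRing S) := Algebra.FormallyEtale.of_isSeparable _ _
  have : Algebra.FormallyEtale R (FractionRing S) := Algebra.FormallyEtale.comp R (FractionRing R) _
  have : IsLocalization.AtPrime (FractionRing S) (⊥ : Ideal S) := by
    have : (⊥ : Ideal S).primeCompl = nonZeroDivisors S := Ideal.primeCompl_bot
    show IsLocalization _ _
    rw [this]; infer_instance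
  have : Algebra.IsEtaleAt R (⊥ : Ideal S) := Algebra.FormallyEtale.of_equiv
    ((IsLocalization.algEquiv (⊥ : Ideal S).primeCompl (FractionRing S) (Localization.AtPrime (⊥ : Ideal S))).restrictScalars R)
  obtain ⟨h, hh0, het⟩ := Algebra.exists_etale_of_isEtaleAt (R := R) (⊥ : Ideal S)
  refine ⟨h * algebraMap R S g, mul_ne_zero (by simpa using hh0) ((map_ne_zero_iff _ hinjS).mpr hg0), ?_⟩
  intro Q _ hQ
  have h1 : h ∉ Q := fun hm => hQ (Q.mul_mem_right _ hm)
  have h2 : g ∉ Q.comap (algebraMap R S) := fun hm => hQ (Q.mul_mem_left _ hm)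
  have : Algebra.IsEtaleAt R Q := Algebra.basicOpen_subset_etaleLocus_iff.mpr inferInstance
    (show (⟨Q, inferInstance⟩ : PrimeSpectrum S) ∈ PrimeSpectrum.basicOpen h from h1)
  have := hg (Q.comap (algebraMap R S)) h2
  exact regular_of_etaleAt (R := R) Q

theorem regAway_of_open {R : Type u} [CommRing R] [IsDomain R]
    (h : ∃ U : Set (PrimeSpectrum R), IsOpen U ∧ U.Nonempty ∧ U ⊆ EGA4.regLocus R) :
    ∃ g : R, g ≠ 0 ∧ RegAway R g := by
  obtain ⟨U, hU, ⟨x, hx⟩, hsub⟩ := h
  obtain ⟨_, ⟨_, ⟨g, rfl⟩, rfl⟩, hxg, hgU⟩ := PrimeSpectrum.isBasis_basic_opens.exists_subset_of_mem_open hx hU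
  exact ⟨g, fun hg => hxg (hg ▸ x.asIdeal.zero_mem), fun P _ hP => hsub (hgU (show (⟨P, ‹_›⟩ : PrimeSpectrum R) ∈ PrimeSpectrum.basicOpen g from hP))⟩

theorem regAway_of_finite {D S : Type u} [CommRing D] [IsDomain D] [IsNoetherianRing D]
    [CommRing S] [IsDomain S] [Algebra D S] [FaithfulSMul D S] [Module.Finite D S] (h : S) (h0 : h ≠ 0)
    (hh : RegAway S h) : ∃ d : D, d ≠ 0 ∧ RegAway D d := by
  classical
  have : IsNoetherianRing S := isNoetherian_of_tower D inferInstance
  have hne : (Ideal.span {h}).comap (algebraMap D S) ≠ ⊥ :=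
    Ideal.comap_ne_bot_of_integral_mem h0 (Ideal.mem_span_singleton_self h) (Algebra.IsIntegral.isIntegral h)
  obtain ⟨c, hc, hc0⟩ := Submodule.exists_mem_ne_zero_of_ne_bot hne
  have := Module.finitePresentation_of_finite D S
  obtain ⟨r, hr, hfree, -⟩ := Module.FinitePresentation.exists_free_localizedModule_powers (nonZeroDivisors D)
    (LocalizedModule.mkLinearMap (nonZeroDivisors D) S) (FractionRing D)
  have hflat : Module.Flat D (Localization.Away (algebraMap D S r)) := by
    have : Module.Flat D (LocalizedModule.Away r S) :=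
      have : Module.Flat D (Localization (Submonoid.powers r)) := IsLocalization.flat _ (Submonoid.powers r)
      Module.Flat.trans D (Localization (Submonoid.powers r)) _
    have hloc : IsLocalizedModule (Submonoid.powers r)
        (IsScalarTower.toAlgHom D S (Localization.Away (algebraMap D S r))).toLinearMap := by
      rw [isLocalizedModule_iff_isLocalization, Algebra.algebraMapSubmonoid, Submonoid.map_powers]
      exact inferInstanceAs (IsLocalization (Submonoid.powers (algebraMap D S r)) (Localization.Away (algebraMap D S r)))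
    exact Module.Flat.of_linearEquiv (IsLocalizedModule.linearEquiv (Submonoid.powers r)
      (LocalizedModule.mkLinearMap (Submonoid.powers r) S)
      (IsScalarTower.toAlgHom D S (Localization.Away (algebraMap D S r))).toLinearMap).symm
  refine ⟨c * r, mul_ne_zero hc0 (nonZeroDivisors.ne_zero hr), fun q _ hq => ?_⟩
  have hcq : c ∉ q := fun hm => hq (q.mul_mem_right _ hm)
  have hrq : r ∉ q := fun hm => hq (q.mul_mem_left _ hm)
  have hker : RingHom.ker (algebraMap D S) ≤ q := by
    rw [(RingHom.injective_iff_ker_eq_bot _).mp (FaithfulSMul.algebraMap_injective D S)]; exact bot_le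
  obtain ⟨Q, hQp, hQq⟩ := Ideal.exists_ideal_over_prime_of_isIntegral_of_isDomain (S := S) q hker
  have hhQ : h ∉ Q := fun hm => hcq (hQq ▸ (Ideal.span_le.mpr (Set.singleton_subset_iff.mpr hm) hc))
  have hrQ : algebraMap D S r ∉ Q := fun hm => hrq (hQq ▸ hm)
  have := hh Q hhQ
  have := flat_atPrime_of_away (R := D) (algebraMap D S r) Q hrQ
  have : Q.LiesOver q := ⟨hQq.symm⟩
  let := Localization.AtPrime.algebraOfLiesOver q Q
  have : Module.Flat (Localization.AtPrime q) (Localization.AtPrime Q) := by
    rw [Module.flat_iff_of_isLocalization (Localization.AtPrime q) q.primeCompl]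
    infer_instance
  have : IsLocalHom (algebraMap (Localization.AtPrime q) (Localization.AtPrime Q)) := by
    rw [RingHom.algebraMap_toAlgebra]
    exact Localization.isLocalHom_localRingHom q Q (algebraMap D S) Ideal.LiesOver.over
  exact regular_of_flat (Localization.AtPrime q) (Localization.AtPrime Q)

theorem isSeparable_of_le_fieldRange {K Ω : Type u} [Field K] [Field Ω] [Algebra K Ω] {F : Subfield Ω}
    (hF : F ≤ (algebraMap K Ω).fieldRange) {x : Ω} (hsx : IsSeparable F x) : IsSeparable K x := by
  let Q := (minpoly F x).map (algebraMap F Ω)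
  have hQ : Q ∈ Polynomial.lifts (algebraMap K Ω) := by
    rw [Polynomial.lifts_iff_coeff_lifts]
    intro i
    rw [Polynomial.coeff_map]
    exact hF ((minpoly F x).coeff i).2
  obtain ⟨Q', hQ'⟩ := (Polynomial.mem_lifts Q).mp hQ
  have hQs : Q.Separable := (show (minpoly F x).Separable from hsx).map
  refine Polynomial.Separable.of_dvd ((Polynomial.separable_map (algebraMap K Ω)).mp (hQ' ▸ hQs)) (minpoly.dvd _ x ?_)
  rw [Polynomial.aeval_def, ← Polynomial.eval_map, hQ', Polynomial.eval_map, ← Polynomial.aeval_def, minpoly.aeval]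

set_option maxHeartbeats 1000000 in
set_option synthInstance.maxHeartbeats 200000 in
theorem exists_regAway_domain (A : Type u) [CommRing A] [IsNoetherianRing A]
    (hfin : ∀ (A' : Type u) [CommRing A'] [IsDomain A'] [Algebra A A'], Module.Finite A A' →
        ∃ U : Set (PrimeSpectrum A'), IsOpen U ∧ U.Nonempty ∧ U ⊆ EGA4.regLocus A')
    (D : Type u) [CommRing D] [IsDomain D] [Algebra A D] [Algebra.FiniteType A D] :
    ∃ d : D, d ≠ 0 ∧ RegAway D d := by
  classical
  let Ω := AlgebraicClosure (FractionRing D)
  let j : D →ₐ[A] Ω := IsScalarTower.toAlgHom A D Ω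
  have hj : Function.Injective j := by
    show Function.Injective (algebraMap D Ω)
    rw [IsScalarTower.algebraMap_eq D (FractionRing D) Ω]
    exact (algebraMap (FractionRing D) Ω).injective.comp (IsFractionRing.injective D (FractionRing D))
  obtain ⟨X0, hX0⟩ := (Algebra.FiniteType.out : (⊤ : Subalgebra A D).FG)
  let X : Finset Ω := X0.image j
  obtain ⟨C, s, hC, hs, hind, hsep⟩ := exists_separable_model A Ω X
  set A' := Algebra.adjoin A (C : Set Ω)
  have hA'fin : Module.Finite A A' := Module.Finite.iff_fg.mpr (fg_adjoin_of_finite C.finite_toSet hC)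
  obtain ⟨g, hg0, hg⟩ := regAway_of_open (hfin A' hA'fin)
  have : IsNoetherianRing A' := isNoetherian_of_tower A inferInstance
  set R := Algebra.adjoin A' (Set.range fun y : s => (y : Ω))
  let eR : MvPolynomial s A' ≃ₐ[A'] R := hind.aevalEquiv
  have : IsNoetherianRing R := isNoetherianRing_of_ringEquiv _ eR.toRingEquiv
  have hgR : RegAway R (eR (MvPolynomial.C g)) := RegAway.of_equiv eR.toRingEquiv (regAway_mvPolynomial g hg _)
  have hgR0 : eR (MvPolynomial.C g) ≠ 0 := (map_ne_zero_iff _ eR.injective).mpr (by simpa using hg0)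
  have : FaithfulSMul R Ω := (faithfulSMul_iff_algebraMap_injective R Ω).mpr Subtype.val_injective
  letI := FractionRing.liftAlgebra R Ω
  have hX : ∀ x ∈ X, IsSeparable (FractionRing R) x := by
    intro x hx
    set F := Subfield.closure (Set.range (algebraMap A Ω) ∪ (C : Set Ω) ∪ (s : Set Ω))
    have hF : F ≤ (algebraMap (FractionRing R) Ω).fieldRange := by
      rw [Subfield.closure_le]
      have hR : ∀ z : Ω, z ∈ R → z ∈ (algebraMap (FractionRing R) Ω).fieldRange := fun z hz =>
        ⟨algebraMap R (FractionRing R) ⟨z, hz⟩, (IsScalarTower.algebraMap_apply R (FractionRing R) Ω ⟨z, hz⟩).symm⟩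
      rintro z ((⟨a, rfl⟩ | hz) | hz)
      · exact hR _ (R.algebraMap_mem (algebraMap A A' a))
      · exact hR _ (R.algebraMap_mem (⟨z, Algebra.subset_adjoin hz⟩ : A'))
      · exact hR _ (Algebra.subset_adjoin ⟨⟨z, hz⟩, rfl⟩)
    exact isSeparable_of_le_fieldRange hF (hsep x hx)
  set S := Algebra.adjoin R (X : Set Ω)
  obtain ⟨h, h0, hh⟩ : ∃ h : S, h ≠ 0 ∧ RegAway S h := exists_regAway_adjoin (eR (MvPolynomial.C g)) hgR0 hgR X hX
  let jS : D →+* S := (j.toRingHom).codRestrict S fun d => by
    have : (⊤ : Subalgebra A D).map j ≤ S.restrictScalars A := by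
      rw [← hX0, AlgHom.map_adjoin]
      refine Algebra.adjoin_le ?_
      rintro _ ⟨z, hz, rfl⟩
      exact Algebra.subset_adjoin (Finset.mem_coe.mpr (Finset.mem_image_of_mem j hz))
    exact this ⟨d, trivial, rfl⟩
  letI : Algebra D S := jS.toAlgebra
  have : IsScalarTower A D S := IsScalarTower.of_algebraMap_eq fun a => Subtype.ext (j.commutes a).symm
  have : IsScalarTower D S Ω := IsScalarTower.of_algebraMap_eq fun d => rfl
  have : FaithfulSMul D S := (faithfulSMul_iff_algebraMap_injective D S).mpr fun a b hab => hj (congrArg Subtype.val hab)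
  have : Algebra.FiniteType A S := by
    have : Algebra.FiniteType A A' := inferInstance
    have : Algebra.FiniteType A' R := (Subalgebra.fg_iff_finiteType _).mp (Subalgebra.fg_def.mpr ⟨_, Set.finite_range _, rfl⟩)
    have : Algebra.FiniteType R S := (Subalgebra.fg_iff_finiteType _).mp ⟨X, rfl⟩
    have h1 : Algebra.FiniteType A R := Algebra.FiniteType.trans (S := A') inferInstance inferInstance
    exact Algebra.FiniteType.trans (S := R) h1 inferInstance
  have : Algebra.FiniteType D S := Algebra.FiniteType.of_restrictScalars_finiteType A D S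
  have : Algebra.IsIntegral D S := by
    refine ⟨fun z => ?_⟩
    rw [← isIntegral_algHom_iff (IsScalarTower.toAlgHom D S Ω) Subtype.val_injective]
    show IsIntegral D (z : Ω)
    have hXint : ∀ x ∈ X, IsIntegral D x := fun x hx => by
      obtain ⟨d, -, rfl⟩ := Finset.mem_image.mp hx
      exact isIntegral_algebraMap
    have hA'int : ∀ a : A', IsIntegral D (a : Ω) := fun a => by
      have : A' ≤ (integralClosure D Ω).restrictScalars A := Algebra.adjoin_le fun c hc => (hC c hc).tower_top
      exact this a.2
    let T : Subalgebra A' Ω :=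
      { (integralClosure D Ω).toSubsemiring with algebraMap_mem' := hA'int }
    have hRT : R ≤ T := Algebra.adjoin_le (by
      rintro _ ⟨⟨y, hy⟩, rfl⟩
      obtain ⟨n, hn, hyn⟩ := hs y hy
      exact IsIntegral.of_pow hn (hXint _ hyn))
    let T' : Subalgebra R Ω := { (integralClosure D Ω).toSubsemiring with algebraMap_mem' := fun r => hRT r.2 }
    exact (Algebra.adjoin_le fun x hx => hXint x hx : S ≤ T') z.2
  have : Module.Finite D S := Algebra.IsIntegral.finite (R := D) (A := S)
  have : IsNoetherianRing D := Algebra.FiniteType.isNoetherianRing A D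
  exact regAway_of_finite h h0 hh

theorem regLocus_genStable {S : Type u} [CommRing S]
    (p q : PrimeSpectrum S) (hpq : p ≤ q) (hq : q ∈ EGA4.regLocus S) : p ∈ EGA4.regLocus S := by
  have : IsRegularLocalRing (Localization.AtPrime q.asIdeal) := hq
  let P := p.asIdeal.map (algebraMap S (Localization.AtPrime q.asIdeal))
  have hP : P.IsPrime := Ideal.isPrime_map_of_isLocalizationAtPrime q.asIdeal hpq
  have hcomap : P.comap (algebraMap S (Localization.AtPrime q.asIdeal)) = p.asIdeal :=
    Ideal.under_map_of_isLocalizationAtPrime q.asIdeal hpq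
  have := regular_localization _ P
  have e' := IsRegularLocalRing.of_ringEquiv
    (IsLocalization.localizationLocalizationAtPrimeIsoLocalization q.asIdeal.primeCompl P).symm.toRingEquiv
  simp only [EGA4.regLocus, Set.mem_ofPred_eq]
  convert e' <;> exact hcomap.symm

theorem isOpen_regLocus_of_domains {S : Type u} [CommRing S] [IsNoetherianRing S]
    (h : ∀ (p : Ideal S) [p.IsPrime], IsRegularLocalRing (Localization.AtPrime p) → ∃ d : S ⧸ p, d ≠ 0 ∧ RegAway (S ⧸ p) d) :
    IsOpen (EGA4.regLocus S) := by
  refine isOpen_of_locally S _ regLocus_genStable fun p hp => ?_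
  have : IsRegularLocalRing (Localization.AtPrime p.asIdeal) := hp
  obtain ⟨d, hd0, hd⟩ := h p.asIdeal hp
  obtain ⟨d, rfl⟩ := Ideal.Quotient.mk_surjective d
  obtain ⟨f, hf, hfq⟩ := regular_of_quotient p.asIdeal
  refine ⟨f * d, fun hm => (p.2.mem_or_mem hm).elim hf fun hdp => hd0 (Ideal.Quotient.eq_zero_iff_mem.mpr hdp), fun q hpq hq => ?_⟩
  have hfnq : f ∉ q.asIdeal := fun hm => hq (q.asIdeal.mul_mem_right _ hm)
  have hdnq : d ∉ q.asIdeal := fun hm => hq (q.asIdeal.mul_mem_left _ hm)
  have hqbp : (q.asIdeal.map (Ideal.Quotient.mk p.asIdeal)).IsPrime := Ideal.isPrime_map_quotientMk_of_isPrime hpq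
  have hc : (q.asIdeal.map (Ideal.Quotient.mk p.asIdeal)).comap (Ideal.Quotient.mk p.asIdeal) = q.asIdeal :=
    Ideal.comap_map_quotientMk p.asIdeal q.asIdeal ▸ (sup_eq_right.mpr hpq)
  exact hfq q.asIdeal hpq hfnq _ hc (hd _ fun hm => hdnq (hc ▸ hm))

theorem isJ2_iff (A : Type u) [CommRing A] [IsNoetherianRing A] :
    EGA4.IsJ2 A ↔
      ∀ (A' : Type u) [CommRing A'] [IsDomain A'] [Algebra A A'], Module.Finite A A' →
        ∃ U : Set (PrimeSpectrum A'), IsOpen U ∧ U.Nonempty ∧ U ⊆ EGA4.regLocus A' := by
  constructor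
  · intro h A' _ _ _ hfin
    refine ⟨_, h A' inferInstance, ⟨⟨⊥, Ideal.isPrime_bot⟩, ?_⟩, le_rfl⟩
    have : IsLocalization.AtPrime (FractionRing A') (⊥ : Ideal A') := by
      have : (⊥ : Ideal A').primeCompl = nonZeroDivisors A' := Ideal.primeCompl_bot
      show IsLocalization _ _
      rw [this]; infer_instance
    exact IsRegularLocalRing.of_ringEquiv
      (IsLocalization.algEquiv (⊥ : Ideal A').primeCompl (FractionRing A') (Localization.AtPrime (⊥ : Ideal A'))).toRingEquiv
  · intro h S _ _ hft
    have : IsNoetherianRing S := Algebra.FiniteType.isNoetherianRing A S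
    refine isOpen_regLocus_of_domains fun p _ _ => ?_
    have : Algebra.FiniteType A (S ⧸ p) := hft.of_surjective (Ideal.Quotient.mkₐ A p) Ideal.Quotient.mk_surjective
    exact exists_regAway_domain A h (S ⧸ p)

end Groth.Agent.EGA4H10
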