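import Mathlib
import Groth.Prelude.Def_EGA4b
import Groth.Agent.CAlg5.GeomRegularFG
import Groth.Agent.CAlg1.CMPoly
import Groth.Agent.CAlg1.FlatFibre

set_option autoImplicit false
universe u
open TensorProduct IsLocalRing

namespace Groth.Agent.EGA4H10

/-! Tensor products of fields. -/

theorem isGeometricallyRegular_field_sep (k L : Type u) [Field k] [Field L] [Algebra k L]
    [Algebra.IsGeometricallyReduced k L] : CAlg.IsGeometricallyRegular k L := by
  intro k' _ _ _
  have : IsReduced (k' ⊗[k] L) := inferInstance
  have : IsReduced (L ⊗[k] k') :=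
    isReduced_of_injective (Algebra.TensorProduct.comm k L k') (Algebra.TensorProduct.comm k L k').injective
  have : IsArtinianRing (L ⊗[k] k') := IsArtinianRing.of_finite L _
  have : IsRegularRing (L ⊗[k] k') := by
    refine { toIsNoetherian := inferInstance, isRegularLocalRing_localization := fun p _ => ?_ }
    letI := (IsArtinianRing.isField_of_isReduced_of_isLocalRing (Localization.AtPrime p)).toField
    infer_instance
  exact IsRegularRing.of_ringEquiv (Algebra.TensorProduct.comm k L k').toRingEquiv

theorem isRegularRing_tensor_fractions (k K A L : Type u) [Field k] [Field K] [Algebra k K] [CommRing A]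
    [IsDomain A] [Algebra k A] [Algebra.Smooth k A] [Field L] [Algebra k L] [Algebra A L] [IsFractionRing A L]
    [IsScalarTower k A L] : IsRegularRing (K ⊗[k] L) := by
  have : IsRegularRing (K ⊗[k] A) := CAlg5.isRegularRing_of_smooth K (K ⊗[k] A)
  have : IsRegularRing (A ⊗[k] K) := IsRegularRing.of_ringEquiv (Algebra.TensorProduct.comm k K A).toRingEquiv
  letI : Algebra (A ⊗[k] K) (L ⊗[k] K) :=
    (Algebra.TensorProduct.map (IsScalarTower.toAlgHom k A L) (AlgHom.id k K)).toRingHom.toAlgebra
  have : IsScalarTower A (A ⊗[k] K) (L ⊗[k] K) := IsScalarTower.of_algebraMap_eq fun b => by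
    show algebraMap A L b ⊗ₜ 1 = Algebra.TensorProduct.map (IsScalarTower.toAlgHom k A L) (AlgHom.id k K) (b ⊗ₜ 1)
    rw [Algebra.TensorProduct.map_tmul, map_one]; rfl
  have := IsLocalization.tensorProduct_tensorProduct k K (A := A) (nonZeroDivisors A) L
    (RingHom.ext fun w => by
      show Algebra.TensorProduct.map _ (AlgHom.id k K) ((1 : A) ⊗ₜ[k] w) = _
      rw [Algebra.TensorProduct.map_tmul, map_one]; rfl)
  have : IsRegularRing (L ⊗[k] K) :=
    CAlg5.isRegularRing_of_isLocalization (T := A ⊗[k] K) (Algebra.algebraMapSubmonoid (A ⊗[k] K) (nonZeroDivisors A)) _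
  exact IsRegularRing.of_ringEquiv (Algebra.TensorProduct.comm k L K).toRingEquiv

theorem isRegularRing_field_tensor_right (k K L : Type u) [Field k] [Field K] [Field L] [Algebra k K]
    [Algebra k L] [Algebra.IsGeometricallyReduced k L] [Algebra.EssFiniteType k L] :
    IsRegularRing (K ⊗[k] L) := by
  obtain ⟨A, hEA, hA⟩ := CAlg5.exists_subalgebra_smooth k L (Algebra.EssFiniteType.finset k L)
  have hle : Algebra.EssFiniteType.subalgebra k L ≤ A := Algebra.adjoin_le hEA
  have : IsFractionRing A L := by
    refine IsFractionRing.of_field A L fun z => ?_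
    obtain ⟨x, s, rfl⟩ := IsLocalization.exists_mk'_eq (Algebra.EssFiniteType.submonoid k L) z
    refine ⟨⟨x, hle x.2⟩, ⟨(s : Algebra.EssFiniteType.subalgebra k L), hle (s.1).2⟩, ?_⟩
    have hs : IsUnit (algebraMap (Algebra.EssFiniteType.subalgebra k L) L s) := IsLocalization.map_units L s
    rw [eq_div_iff]
    · exact IsLocalization.mk'_spec L x s
    · exact hs.ne_zero
  exact isRegularRing_tensor_fractions k K A L

theorem isRegularRing_field_tensor (k K L : Type u) [Field k] [Field K] [Field L] [Algebra k K]
    [Algebra k L] [Algebra.IsGeometricallyReduced k L]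
    (h : Algebra.EssFiniteType k K ∨ Algebra.EssFiniteType k L) : IsRegularRing (K ⊗[k] L) := by
  rcases h with h | h
  · exact CAlg5.isRegularRing_tensor_of_essFiniteType k K L (isGeometricallyRegular_field_sep k L)
  · exact isRegularRing_field_tensor_right k K L

theorem isCohenMacaulayRing_of_isArtinianRing (T : Type u) [CommRing T] [IsArtinianRing T] :
    LocCoh.IsCohenMacaulayRing T where
  isCohenMacaulayLocalRing_localization p _ := by
    have : IsArtinianRing (Localization.AtPrime p) := inferInstance
    have : IsNoetherianRing (Localization.AtPrime p) := inferInstance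
    rw [CAlg1.cmLocal_iff, ringKrullDimZero_iff_ringKrullDim_eq_zero.mp (inferInstance : Ring.KrullDimLE 0 (Localization.AtPrime p))]
    exact WithBot.coe_le_coe.mpr bot_le

theorem isCohenMacaulayRing_of_isRegularRing (T : Type u) [CommRing T] [IsRegularRing T] :
    LocCoh.IsCohenMacaulayRing T where
  isCohenMacaulayLocalRing_localization p _ := by
    have := IsRegularRing.isRegularLocalRing_localization (R := T) p
    exact CAlg1.cm_of_isRegularLocalRing _

theorem cm_tensor_finite (k K L F : Type u) [Field k] [Field K] [Field L] [Field F] [Algebra k K]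
    [Algebra k L] [Algebra k F] [Algebra F K] [IsScalarTower k F K] [Module.Finite F K]
    [IsRegularRing (F ⊗[k] L)] : LocCoh.IsCohenMacaulayRing (K ⊗[k] L) := by
  have : IsNoetherianRing (F ⊗[k] L) := IsRegularRing.toIsNoetherian
  have := isCohenMacaulayRing_of_isRegularRing (F ⊗[k] L)
  have : IsNoetherianRing ((F ⊗[k] L) ⊗[F] K) := IsNoetherianRing.of_finite (F ⊗[k] L) _
  have hcm : LocCoh.IsCohenMacaulayRing ((F ⊗[k] L) ⊗[F] K) :=
    CAlg1.cm_of_flat_of_fibres (R := F ⊗[k] L) fun p _ => by
      have : Module.Finite p.ResidueField (p.Fiber ((F ⊗[k] L) ⊗[F] K)) := inferInstance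
      have : IsArtinianRing (p.Fiber ((F ⊗[k] L) ⊗[F] K)) := isArtinian_of_tower p.ResidueField inferInstance
      exact isCohenMacaulayRing_of_isArtinianRing _
  exact CAlg1.cmRing_of_ringEquiv ((Algebra.TensorProduct.comm F (F ⊗[k] L) K).toRingEquiv.trans
    (Algebra.TensorProduct.cancelBaseChange k F K K L).toRingEquiv) hcm

theorem isCohenMacaulayRing_field_tensor_left (k K L : Type u) [Field k] [Field K] [Field L] [Algebra k K]
    [Algebra k L] [Algebra.EssFiniteType k K] : LocCoh.IsCohenMacaulayRing (K ⊗[k] L) := by
  have hK : Algebra.IsAlgebraic (Algebra.adjoin k ((Algebra.EssFiniteType.finset k K : Finset K) : Set K)) K := by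
    have : IsLocalization (Algebra.EssFiniteType.submonoid k K) K := inferInstance
    exact IsLocalization.isAlgebraic K (Algebra.EssFiniteType.submonoid k K)
  obtain ⟨t, hts, ht⟩ := exists_isTranscendenceBasis_subset (R := k)
    ((Algebra.EssFiniteType.finset k K : Finset K) : Set K)
  have : Finite t := ((Algebra.EssFiniteType.finset k K).finite_toSet.subset hts).to_subtype
  let F := IntermediateField.adjoin k (Set.range ((↑) : t → K))
  have : Algebra.IsAlgebraic F K := ht.isAlgebraic_field
  have : Algebra.EssFiniteType F K := Algebra.EssFiniteType.of_comp k F K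
  have : Module.Finite F K := Algebra.finite_of_essFiniteType_of_isAlgebraic
  let P := MvPolynomial t k
  have : Algebra.FormallySmooth k P := inferInstance
  have : Algebra.FormallyEtale P (FractionRing P) := Algebra.FormallyEtale.of_isLocalization (nonZeroDivisors P)
  have : Algebra.FormallySmooth k (FractionRing P) := Algebra.FormallySmooth.comp k P (FractionRing P)
  have : Algebra.IsGeometricallyReduced k (FractionRing P) :=
    Sep12.formallySmooth_iff_isGeometricallyReduced.mp inferInstance
  let e : FractionRing P ≃ₐ[k] F := ht.1.aevalEquivField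
  have : Algebra.IsGeometricallyReduced k F :=
    Algebra.IsGeometricallyReduced.of_injective e.symm.toAlgHom e.symm.injective
  have : Algebra.EssFiniteType k (FractionRing P) := by
    have : Algebra.EssFiniteType P (FractionRing P) := Algebra.EssFiniteType.of_isLocalization _ (nonZeroDivisors P)
    exact Algebra.EssFiniteType.comp k P (FractionRing P)
  have : Algebra.EssFiniteType k F := (Algebra.EssFiniteType.iff_of_algEquiv e).mp inferInstance
  have : IsRegularRing (L ⊗[k] F) := isRegularRing_field_tensor k L F (Or.inr inferInstance)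
  have : IsRegularRing (F ⊗[k] L) := IsRegularRing.of_ringEquiv (Algebra.TensorProduct.comm k L F).toRingEquiv
  have := isCohenMacaulayRing_of_isRegularRing (F ⊗[k] L)
  exact cm_tensor_finite k K L F

theorem isCohenMacaulayRing_field_tensor (k K L : Type u) [Field k] [Field K] [Field L] [Algebra k K]
    [Algebra k L] (h : Algebra.EssFiniteType k K ∨ Algebra.EssFiniteType k L) :
    LocCoh.IsCohenMacaulayRing (K ⊗[k] L) := by
  rcases h with h | h
  · exact isCohenMacaulayRing_field_tensor_left k K L
  · exact CAlg1.cmRing_of_ringEquiv (Algebra.TensorProduct.comm k L K).toRingEquiv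
      (isCohenMacaulayRing_field_tensor_left k L K)

end Groth.Agent.EGA4H10
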