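import Groth.Agent.EGA4H10.CompleteNagata
import Groth.Agent.EGA4H10.J2Criterion
import Groth.Agent.CAlgH2.RedStab
import Groth.Agent.Props58.Nagata
import Groth.Agent.FBase64.TensorField
import Groth.Agent.VarGal.GeomRed
import Groth.Agent.H98N2.Excellent
import Groth.Prelude.Def_EGA4b
import Mathlib

/-!
# Analytically unramified rings, geometrically reduced formal fibres and the Nagata property
-/

set_option autoImplicit false
set_option linter.style.haveILetI false
set_option synthInstance.maxHeartbeats 100000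
universe u

open IsLocalRing TensorProduct

namespace Groth.Agent.EGA4H10

/-- finiteness of the integral closure by faithfully flat descent along a Nagata algebra -/
theorem finite_integralClosure_of_reduced {A B K' : Type u} [CommRing A] [IsDomain A] [IsNoetherianRing A]
    [CommRing B] [Algebra A B] [IsNoetherianRing B] [Module.FaithfullyFlat A B]
    [Field K'] [Algebra A K'] [Algebra (FractionRing A) K'] [IsScalarTower A (FractionRing A) K']
    [FiniteDimensional (FractionRing A) K']
    (hJ : ∀ (q : Ideal B) [q.IsPrime], q ∈ minimalPrimes B → CAlg.IsN2 (B ⧸ q))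
    (hred : IsReduced (B ⊗[A] K')) : Module.Finite A (integralClosure A K') := by
  classical
  obtain ⟨Cα, hCα, hst⟩ := CAlgH2.exists_stable (A := A) (B := B) (K' := K') hJ
  have := hCα.1
  suffices h : integralClosure A K' = Cα by rw [h]; exact hCα.1
  refine le_antisymm (fun a ha => ?_) fun c hc => (IsIntegral.of_finite A (⟨c, hc⟩ : Cα)).map Cα.val
  let C := Cα ⊔ Algebra.adjoin A {a}
  have hC : CAlgH2.FullFinite C := hCα.sup
    (Algebra.finite_adjoin_of_finite_of_isIntegral (Set.finite_singleton a) fun x hx => by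
      rw [Set.mem_singleton_iff] at hx
      exact hx ▸ ha)
  let inc : Cα →ₐ[A] C := Subalgebra.inclusion le_sup_left
  let c : (↥C ⊗[A] B) ≃ₐ[A] B ⊗[A] ↥C := Algebra.TensorProduct.comm A _ B
  have : IsReduced (↥C ⊗[A] B) :=
    have : IsReduced (B ⊗[A] ↥C) := isReduced_of_injective (CAlgH2.toTot (B := B) C) (CAlgH2.toTot_injective C)
    isReduced_of_injective c c.injective
  have hsurj : Function.Surjective (inc.toLinearMap.rTensor B) := fun y => by
    obtain ⟨x, hx⟩ := (hst C hC le_sup_left).2 y
    refine ⟨x, sub_eq_zero.1 ?_⟩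
    have h : ∀ z, inc.toLinearMap.rTensor B z = Algebra.TensorProduct.map inc (AlgHom.id A B) z := fun z => by
      induction z using TensorProduct.induction_on with
      | zero => simp
      | tmul u v => simp
      | add u v hu hv => rw [map_add, map_add, hu, hv]
    rw [h]
    exact hx.eq_zero
  obtain ⟨c', hc'⟩ := (Module.FaithfullyFlat.lTensor_surjective_iff_surjective A B inc.toLinearMap).1
      ((LinearMap.lTensor_surj_iff_rTensor_surj B inc.toLinearMap).2 hsurj)
    ⟨a, (le_sup_right : _ ≤ C) (Algebra.self_mem_adjoin_singleton A a)⟩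
  have : (c' : K') = a := congrArg Subtype.val hc'
  exact this ▸ c'.2

/-- finiteness of an integral closure over a local ring from reducedness of `L ⊗ Â` -/
theorem finite_integralClosure_of_reduced_cpl (A : Type u) [CommRing A] [IsNoetherianRing A] [IsLocalRing A]
    (p : Ideal A) [p.IsPrime] (L : Type u) [Field L] [Algebra A L] [Algebra (A ⧸ p) L] [IsScalarTower A (A ⧸ p) L]
    [Algebra (FractionRing (A ⧸ p)) L] [IsScalarTower (A ⧸ p) (FractionRing (A ⧸ p)) L]
    [FiniteDimensional (FractionRing (A ⧸ p)) L] (hred : IsReduced (L ⊗[A] EGA4.Cpl A)) :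
    Module.Finite (A ⧸ p) (integralClosure (A ⧸ p) L) := by
  let Ah := EGA4.Cpl A
  let A' := A ⧸ p
  let B := A' ⊗[A] Ah
  have : IsNoetherianRing Ah := Cohen12.isNoetherianRing_completion (A := A)
  have : IsAdicComplete (maximalIdeal Ah) Ah := Cohen12.isAdicComplete_completion (A := A)
  have : Module.Flat A Ah := inferInstanceAs (Module.Flat A (AdicCompletion (maximalIdeal A) A))
  have : IsLocalHom (algebraMap A Ah) :=
    inferInstanceAs (IsLocalHom (algebraMap A (AdicCompletion (maximalIdeal A) A)))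
  have : Module.FaithfullyFlat A Ah := Module.FaithfullyFlat.of_flat_of_isLocalHom
  let π : Ah →+* B := (Algebra.TensorProduct.includeRight : Ah →ₐ[A] B).toRingHom
  have hπ : Function.Surjective π := by
    intro z
    induction z using TensorProduct.induction_on with
    | zero => exact ⟨0, map_zero _⟩
    | add a b ha hb =>
      obtain ⟨c, rfl⟩ := ha; obtain ⟨d, rfl⟩ := hb
      exact ⟨c + d, map_add _ _ _⟩
    | tmul x t =>
      obtain ⟨a, rfl⟩ := Ideal.Quotient.mk_surjective x
      refine ⟨a • t, ?_⟩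
      show (Algebra.TensorProduct.includeRight : Ah →ₐ[A] B) (a • t) = _
      rw [Algebra.TensorProduct.includeRight_apply, TensorProduct.tmul_smul, TensorProduct.smul_tmul',
        ← Ideal.Quotient.algebraMap_eq, Algebra.algebraMap_eq_smul_one]
  have : IsNoetherianRing B := isNoetherianRing_of_surjective _ _ π hπ
  refine finite_integralClosure_of_reduced (B := B) (fun q _ _ => ?_) ?_
  · let f : Ah →+* B ⧸ q := (Ideal.Quotient.mk q).comp π
    have hf : Function.Surjective f := Ideal.Quotient.mk_surjective.comp hπ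
    have : (RingHom.ker f).IsPrime := RingHom.ker_isPrime f
    exact Props58.isN2_of_ringEquiv (RingHom.quotientKerEquivOfSurjective hf) ((isNagata_of_complete Ah).2 _)
  · let e1 := (Algebra.TensorProduct.comm A' B L).toRingEquiv
    let e2 := (Algebra.TensorProduct.cancelBaseChange A A' L L Ah).toRingEquiv
    exact isReduced_of_injective (e1.trans e2) (e1.trans e2).injective

/-- a geometrically reduced formal fibre gives finite integral closures -/
theorem isN2_of_geomReduced (A : Type u) [CommRing A] [IsNoetherianRing A] [IsLocalRing A]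
    (p : Ideal A) [p.IsPrime] (h : Algebra.IsGeometricallyReduced p.ResidueField (EGA4.formalFibre A p)) :
    CAlg.IsN2 (A ⧸ p) := by
  intro L _ _ _ _ hfd
  let K := FractionRing (A ⧸ p)
  let κ := p.ResidueField
  let e : κ ≃ₐ[A ⧸ p] K := IsLocalization.algEquiv (nonZeroDivisors (A ⧸ p)) κ K
  letI : Algebra A L := ((algebraMap (A ⧸ p) L).comp (algebraMap A (A ⧸ p))).toAlgebra
  have : IsScalarTower A (A ⧸ p) L := .of_algebraMap_eq fun _ => rfl
  letI : Algebra κ L := ((algebraMap K L).comp e.toRingEquiv.toRingHom).toAlgebra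
  have : IsScalarTower A κ L := .of_algebraMap_eq fun r => by
    show algebraMap (A ⧸ p) L (algebraMap A (A ⧸ p) r) = algebraMap K L (e (algebraMap A κ r))
    rw [IsScalarTower.algebraMap_apply A (A ⧸ p) κ, e.commutes, ← IsScalarTower.algebraMap_apply (A ⧸ p) K L]
  refine finite_integralClosure_of_reduced_cpl A p L ?_
  have : IsReduced (L ⊗[κ] EGA4.formalFibre A p) :=
    FBase64.isReduced_tensor_of_geomReduced κ (EGA4.formalFibre A p) L
  let e' := (Algebra.TensorProduct.cancelBaseChange A κ L L (EGA4.Cpl A)).toRingEquiv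
  exact isReduced_of_injective e'.symm e'.symm.injective

theorem isNagata_of_geomReduced (A : Type u) [CommRing A] [IsNoetherianRing A] [IsLocalRing A]
    (hA : EGA4.HasGeomReducedFormalFibres A) : CAlg.IsNagata A :=
  ⟨inferInstance, fun p _ => isN2_of_geomReduced A p (hA p)⟩

theorem hasGeomReducedFormalFibres_of_regularHom (A : Type u) [CommRing A] [IsLocalRing A]
    (h : CAlg.IsRegularHom A (EGA4.Cpl A)) : EGA4.HasGeomReducedFormalFibres A := by
  intro p _
  refine VarGal.isGeometricallyReduced_of_forall_purelyInseparable _ fun k' _ _ _ _ => ?_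
  have : IsRegularRing (k' ⊗[p.ResidueField] p.Fiber (EGA4.Cpl A)) := (h.2 p).2 k' inferInstance
  have : IsReduced (k' ⊗[p.ResidueField] p.Fiber (EGA4.Cpl A)) :=
    H98N2.isReduced_of_isRegularRing (k' ⊗[p.ResidueField] p.Fiber (EGA4.Cpl A))
  exact FBase64.isReduced_tensor_comm

theorem isNagata_atPrime_of_isGRing {A : Type u} [CommRing A] (h : CAlg.IsGRing A) (p : Ideal A) [p.IsPrime] :
    CAlg.IsNagata (Localization.AtPrime p) := by
  have := h.1
  exact isNagata_of_geomReduced _ (hasGeomReducedFormalFibres_of_regularHom _ (h.2 p))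

/-- a submodule which is locally finite and torsion with respect to `φ` over a finite one is finite -/
theorem fg_of_locally_finite {R M : Type u} [CommRing R] [IsNoetherianRing R] [AddCommGroup M] [Module R M]
    (C C0 : Submodule R M) (hle : C0 ≤ C) (hC0 : C0.FG) (φ : M →ₗ[R] M) (hφ : Function.Injective φ)
    (hφC : ∀ x ∈ C, φ x ∈ C) (hφ0 : ∀ x ∈ C0, φ x ∈ C0) (htor : ∀ x ∈ C, ∃ n : ℕ, (φ ^ n) x ∈ C0)
    (hloc : ∀ (m : Ideal R) [m.IsMaximal], ∃ T : Finset M, (T : Set M) ⊆ C ∧
      ∀ x ∈ C, ∃ s ∉ m, s • x ∈ Submodule.span R (T : Set M)) : C.FG := by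
  classical
  obtain ⟨N, hN0, hN⟩ : ∃ N : ℕ → Submodule R M, N 0 = C0 ∧ ∀ n, N (n + 1) = C ⊓ (N n).comap φ :=
    ⟨fun n => (fun S : Submodule R M => C ⊓ S.comap φ)^[n] C0, rfl, fun n => Function.iterate_succ_apply' _ n C0⟩
  have hmemN : ∀ n x, x ∈ N (n + 1) ↔ x ∈ C ∧ φ x ∈ N n := fun n x => by rw [hN]; rfl
  have hNC : ∀ n, N n ≤ C := fun n => by cases n with
    | zero => exact hN0.trans_le hle
    | succ n => exact (hN n).trans_le inf_le_left
  have hφN : ∀ n, ∀ x ∈ N n, φ x ∈ N n := by
    intro n
    induction n with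
    | zero => rw [hN0]; exact hφ0
    | succ n ih => exact fun x hx => (hmemN n _).2 ⟨hφC x ((hmemN n x).1 hx).1, ih _ ((hmemN n x).1 hx).2⟩
  have hmono : Monotone N := monotone_nat_of_le_succ fun n x hx => (hmemN n x).2 ⟨hNC n hx, hφN n x hx⟩
  have hfg : ∀ n, (N n).FG := by
    intro n
    induction n with
    | zero => rw [hN0]; exact hC0
    | succ n ih =>
      have : Module.Finite R ↥(N n) := Module.Finite.iff_fg.2 ih
      refine Module.Finite.iff_fg.1 (Module.Finite.of_injective
        ((φ.comp (N (n + 1)).subtype).codRestrict (N n) fun x => ((hmemN n _).1 x.2).2) fun x y hxy => ?_)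
      exact Subtype.ext (hφ (congrArg Subtype.val hxy))
  have hmem : ∀ n x, x ∈ C → (φ ^ n) x ∈ C0 → x ∈ N n := by
    intro n
    induction n with
    | zero => exact fun x _ hx => hN0.symm ▸ hx
    | succ n ih => exact fun x hxC hx => (hmemN n x).2 ⟨hxC, ih _ (hφC x hxC) (by rwa [pow_succ, Module.End.mul_apply] at hx)⟩
  let J : ℕ →o Ideal R := ⟨fun n => (N n).colon (N (n + 1) : Set M), monotone_nat_of_le_succ fun n s hs => by
    rw [Submodule.mem_colon] at hs ⊢
    intro x hx
    refine (hmemN n _).2 ⟨C.smul_mem s ((hmemN _ x).1 hx).1, ?_⟩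
    rw [map_smul]
    exact hs _ ((hmemN _ x).1 hx).2⟩
  obtain ⟨k, hk⟩ := monotone_stabilizes_iff_noetherian.2 ‹IsNoetherianRing R› J
  have hJtop : J k = ⊤ := by
    by_contra hne
    obtain ⟨m, hm, hJm⟩ := Ideal.exists_le_maximal _ hne
    obtain ⟨T, hTC, hT⟩ := hloc m
    have : ∀ t ∈ T, ∃ n, t ∈ N n := fun t ht => (htor t (hTC ht)).imp fun n hn => hmem n t (hTC ht) hn
    choose! ν hν using this
    let n := max k (T.sup ν)
    have hspan : Submodule.span R (T : Set M) ≤ N n := Submodule.span_le.2 fun t ht =>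
      hmono ((Finset.le_sup ht).trans (le_max_right _ _)) (hν t ht)
    obtain ⟨G, hG⟩ := hfg (n + 1)
    have hGC : ∀ g ∈ G, g ∈ C := fun g hg => hNC (n + 1) (hG ▸ Submodule.subset_span hg)
    choose! σ hσ hσN using fun g (hg : g ∈ G) => hT g (hGC g hg)
    have hs : ∏ g ∈ G, σ g ∈ J n := by
      show _ ∈ (N n).colon (N (n + 1) : Set M)
      rw [Submodule.mem_colon]
      intro x hx
      rw [SetLike.mem_coe, ← hG] at hx
      refine (show Submodule.span R (G : Set M) ≤ (N n).comap ((∏ g ∈ G, σ g) • LinearMap.id) from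
        Submodule.span_le.2 fun g hg => ?_) hx
      rw [SetLike.mem_coe, Submodule.mem_comap, LinearMap.smul_apply, LinearMap.id_apply,
        ← Finset.prod_erase_mul _ _ hg, mul_smul]
      exact Submodule.smul_mem _ _ (hspan (hσN g hg))
    rw [← hk n (le_max_left _ _)] at hs
    obtain ⟨g, hg, hgm⟩ := (Ideal.IsPrime.prod_mem_iff (hp := hm.isPrime)).1 (hJm hs)
    exact hσ g hg hgm
  suffices C = N k from this ▸ hfg k
  refine le_antisymm (fun x hx => ?_) (hNC k)
  obtain ⟨n, hn⟩ := htor x hx
  have hstep : N (k + 1) ≤ N k := fun y hy => by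
    have := (Submodule.mem_colon.1 (show (1 : R) ∈ (N k).colon (N (k + 1) : Set M) from hJtop.ge trivial)) y hy
    rwa [one_smul] at this
  have hall : ∀ j, N (k + j) ≤ N k := by
    intro j
    induction j with
    | zero => exact le_rfl
    | succ j ih => exact fun y hy => hstep ((hmemN k y).2 ⟨((hmemN (k + j) y).1 hy).1, ih ((hmemN (k + j) y).1 hy).2⟩)
  exact hall n (hmono (Nat.le_add_left n k) (hmem n x hx hn))

end Groth.Agent.EGA4H10
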