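import Groth.Prelude.Def_EGA4b
import Groth.Agent.EGA4Alg4.CMMod
import Groth.Agent.EGA4Alg4.FibreDim
import Mathlib

/-!
# Support and dimension of `N ⊗_A M` for `N` flat over `A`
-/

set_option autoImplicit false
universe u
open IsLocalRing TensorProduct Module
open scoped Pointwise

namespace Groth.Agent.EGA4H10

variable {A B : Type u} [CommRing A] [CommRing B] [Algebra A B]
variable {N : Type u} [AddCommGroup N] [Module B N] [Module A N] [IsScalarTower A B N] [Module.Finite B N]

/-- going down in the support of a flat module -/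
theorem exists_le_comap_eq [Module.Flat A N] (P : PrimeSpectrum B) (hP : P ∈ support B N) (p : Ideal A)
    [hp : p.IsPrime] (hle : p ≤ P.asIdeal.comap (algebraMap A B)) :
    ∃ Q : PrimeSpectrum B, Q ≤ P ∧ Q ∈ support B N ∧ Q.asIdeal.comap (algebraMap A B) = p := by
  set K := p.map (algebraMap A B) ⊔ Module.annihilator B N
  have hdisj : Disjoint (K : Set B)
      ((p.primeCompl.map (algebraMap A B).toMonoidHom ⊔ P.asIdeal.primeCompl : Submonoid B) : Set B) := by
    rw [Set.disjoint_left]
    intro x hxK hxS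
    obtain ⟨-, ⟨s, hs, rfl⟩, b, hb, rfl⟩ := Submonoid.mem_sup.mp hxS
    have hP' : P ∈ support B (N ⧸ (p.map (algebraMap A B) • (⊤ : Submodule B N))) := by
      rw [Module.support_quotient]
      exact ⟨hP, SetLike.coe_subset_coe.mpr (Ideal.map_le_iff_le_comap.mpr hle)⟩
    refine hb (Module.annihilator_le_of_mem_support hP' ?_)
    rw [Module.mem_annihilator]
    intro z
    obtain ⟨n, rfl⟩ := Submodule.Quotient.mk_surjective _ z
    rw [← Submodule.Quotient.mk_smul, Submodule.Quotient.mk_eq_zero]
    have hbn : (algebraMap A B s * b) • n ∈ p.map (algebraMap A B) • (⊤ : Submodule B N) := by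
      obtain ⟨y, hy, w, hw, he⟩ := Submodule.mem_sup.mp hxK
      change y + w = algebraMap A B s * b at he
      rw [← he, add_smul, Module.mem_annihilator.mp hw, add_zero]
      exact Submodule.smul_mem_smul hy trivial
    rw [mul_smul, algebraMap_smul] at hbn
    -- `s` is regular on `N/pN`
    have hreg : IsSMulRegular (N ⊗[A] (A ⧸ p)) s := by
      have h1 : Function.Injective (LinearMap.lsmul A (A ⧸ p) s) := by
        rw [injective_iff_map_eq_zero]
        intro y hy
        obtain ⟨y, rfl⟩ := Ideal.Quotient.mk_surjective y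
        rw [LinearMap.lsmul_apply, Algebra.smul_def, Ideal.Quotient.algebraMap_eq, ← map_mul,
          Ideal.Quotient.eq_zero_iff_mem] at hy
        exact Ideal.Quotient.eq_zero_iff_mem.mpr ((hp.mem_or_mem hy).resolve_left hs)
      have h2 := Module.Flat.lTensor_preserves_injective_linearMap (M := N) _ h1
      intro u v huv
      refine h2 ?_
      have key : ∀ w : N ⊗[A] (A ⧸ p), (LinearMap.lsmul A (A ⧸ p) s).lTensor N w = s • w := by
        intro w
        induction w with
        | zero => simp
        | tmul a c => simp [tmul_smul]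
        | add a c ha hc => simp [ha, hc]
      rw [key, key]
      exact huv
    let e := TensorProduct.tensorQuotEquivQuotSMul N p
    have hsub : (p.map (algebraMap A B) • (⊤ : Submodule B N)).restrictScalars A = p • (⊤ : Submodule A N) := by
      rw [Ideal.smul_restrictScalars, Submodule.restrictScalars_top]
    have h0 : s • (Submodule.Quotient.mk (b • n) : N ⧸ (p • (⊤ : Submodule A N))) = 0 := by
      rw [← Submodule.Quotient.mk_smul, Submodule.Quotient.mk_eq_zero, ← hsub]
      exact hbn
    have h1 : e.symm (Submodule.Quotient.mk (b • n)) = 0 := hreg (by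
      show s • e.symm _ = s • (0 : N ⊗[A] (A ⧸ p))
      rw [← map_smul, h0, map_zero, smul_zero])
    rw [LinearEquiv.map_eq_zero_iff, Submodule.Quotient.mk_eq_zero, ← hsub] at h1
    exact h1
  obtain ⟨Q, hQ, hQK, hQd⟩ := Ideal.exists_le_prime_disjoint _ _ hdisj
  refine ⟨⟨Q, hQ⟩, ?_, ?_, ?_⟩
  · intro x hx
    by_contra hc
    exact Set.disjoint_left.mp hQd hx (SetLike.le_def.mp (le_sup_right :
      P.asIdeal.primeCompl ≤ p.primeCompl.map (algebraMap A B).toMonoidHom ⊔ P.asIdeal.primeCompl) hc)
  · exact Module.mem_support_iff_of_finite.mpr (le_sup_right.trans hQK)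
  · refine le_antisymm (fun x hx => ?_) (Ideal.map_le_iff_le_comap.mp (le_sup_left.trans hQK))
    by_contra hc
    exact Set.disjoint_left.mp hQd hx (SetLike.le_def.mp (le_sup_left :
      p.primeCompl.map (algebraMap A B).toMonoidHom ≤ _) ⟨x, hc, rfl⟩)

theorem mem_support_tensor [Module.Flat A N] (M : Type u) [AddCommGroup M] [Module A M] (P : PrimeSpectrum B)
    (hP : P ∈ support B N) (hM : PrimeSpectrum.comap (algebraMap A B) P ∈ support A M) :
    P ∈ support B (N ⊗[A] M) := by
  obtain ⟨m, hm⟩ := Module.mem_support_iff'.mp hM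
  set I : Ideal A := LinearMap.ker (LinearMap.toSpanSingleton A M m)
  let f : (A ⧸ I) →ₗ[A] M := Submodule.liftQ I (LinearMap.toSpanSingleton A M m) le_rfl
  have hf : Function.Injective f := LinearMap.ker_eq_bot.mp (Submodule.ker_liftQ_eq_bot _ _ _ le_rfl)
  have hI : I ≤ P.asIdeal.comap (algebraMap A B) := fun x hx => by
    by_contra hc
    exact hm x hc (LinearMap.mem_ker.mp hx)
  let g : (N ⊗[A] (A ⧸ I)) →ₗ[B] N ⊗[A] M := TensorProduct.AlgebraTensorModule.map LinearMap.id f
  have hg : Function.Injective g := Module.Flat.lTensor_preserves_injective_linearMap (M := N) f hf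
  refine Module.support_subset_of_injective g hg ?_
  have hne : P ∈ support B (N ⧸ (I.map (algebraMap A B) • (⊤ : Submodule B N))) := by
    rw [Module.support_quotient]
    exact ⟨hP, SetLike.coe_subset_coe.mpr (Ideal.map_le_iff_le_comap.mpr hI)⟩
  have hsub : (I.map (algebraMap A B) • (⊤ : Submodule B N)).restrictScalars A = I • (⊤ : Submodule A N) := by
    rw [Ideal.smul_restrictScalars, Submodule.restrictScalars_top]
  let h0 : N →ₗ[B] N ⊗[A] (A ⧸ I) :=
    { toFun := fun n => n ⊗ₜ (Ideal.Quotient.mk I 1)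
      map_add' := fun x y => add_tmul _ _ _
      map_smul' := fun c x => (smul_tmul' c x _).symm }
  have hker : I.map (algebraMap A B) • (⊤ : Submodule B N) ≤ LinearMap.ker h0 := by
    rw [Submodule.smul_le]
    intro r hr n _
    rw [LinearMap.mem_ker, map_smul]
    induction hr using Submodule.span_induction with
    | mem x hx =>
      obtain ⟨a, ha, rfl⟩ := hx
      show algebraMap A B a • (n ⊗ₜ[A] (Ideal.Quotient.mk I 1)) = 0
      rw [algebraMap_smul, ← tmul_smul, Algebra.smul_def, Ideal.Quotient.algebraMap_eq, ← map_mul, mul_one,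
        Ideal.Quotient.eq_zero_iff_mem.mpr ha, tmul_zero]
    | zero => simp
    | add x y _ _ hx hy => rw [add_smul, hx, hy, add_zero]
    | smul c x _ hx => rw [smul_assoc, hx, smul_zero]
  let h1 := (I.map (algebraMap A B) • (⊤ : Submodule B N)).liftQ h0 hker
  have hh1 : Function.Injective h1 := by
    rw [injective_iff_map_eq_zero]
    intro z hz
    obtain ⟨n, rfl⟩ := Submodule.Quotient.mk_surjective _ z
    have := congrArg (TensorProduct.tensorQuotEquivQuotSMul N I) (show h0 n = 0 from hz)
    simp only [map_zero, h0, LinearMap.coe_mk, AddHom.coe_mk] at this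
    rw [TensorProduct.tensorQuotEquivQuotSMul_tmul_mk, one_smul, Submodule.Quotient.mk_eq_zero, ← hsub] at this
    exact (Submodule.Quotient.mk_eq_zero _).mpr this
  exact Module.support_subset_of_injective h1 hh1 hne

theorem exists_lift [Module.Flat A N] (M : Type u) [AddCommGroup M] [Module A M] :
    ∀ (l : LTSeries (support A M)) (Q : PrimeSpectrum B), Q ∈ support B N →
      PrimeSpectrum.comap (algebraMap A B) Q = l.last.1 →
      ∃ L : LTSeries (PrimeSpectrum B), L.length = l.length ∧ L.last = Q ∧ ∀ i, L i ∈ support B (N ⊗[A] M) := by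
  intro l
  induction l using RelSeries.inductionOn' with
  | singleton a =>
    intro Q hQ hc
    exact ⟨RelSeries.singleton _ Q, rfl, rfl, fun i => mem_support_tensor M Q hQ (hc ▸ a.2)⟩
  | snoc l a h ih =>
    intro Q hQ hc
    rw [RelSeries.last_snoc] at hc
    obtain ⟨Q', hle, hQ', hc'⟩ := exists_le_comap_eq (N := N) Q hQ l.last.1.asIdeal
      (show l.last.1.asIdeal ≤ (PrimeSpectrum.comap (algebraMap A B) Q).asIdeal from hc ▸ (le_of_lt h))
    obtain ⟨L, hlen, hlast, hmem⟩ := ih Q' hQ' (PrimeSpectrum.ext hc')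
    have hlt : L.last < Q := by
      rw [hlast]
      refine lt_of_le_of_ne hle fun he => ?_
      subst he
      exact (ne_of_lt h) (Subtype.ext ((PrimeSpectrum.ext hc').symm.trans hc))
    refine ⟨L.snoc Q hlt, by simp [hlen], RelSeries.last_snoc _ _ _, fun i => ?_⟩
    obtain ⟨i, rfl⟩ | rfl := (Fin.eq_castSucc_or_eq_last (n := L.length + 1) i)
    · erw [RelSeries.snoc_castSucc]; exact hmem i
    · erw [RelSeries.last_snoc']
      exact mem_support_tensor M Q hQ (hc ▸ a.2)

/-- `dim (N ⊗ M) = dim M + dim (N/mN)` for `N` flat over `A` -/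
theorem supportDim_tensor_flat [IsLocalRing A] [IsLocalRing B] [IsNoetherianRing A] [IsNoetherianRing B]
    [IsLocalHom (algebraMap A B)] [Module.Flat A N] [Nontrivial N]
    (M : Type u) [AddCommGroup M] [Module A M] [Module.Finite A M] [Nontrivial M] :
    supportDim B (N ⊗[A] M) = supportDim A M + supportDim B (EGA4.FibMod A B N) := by
  refine le_antisymm (Groth.Agent.EGA4Alg4.supportDim_tensor_le_add_fibre M N) ?_
  have : Nontrivial (EGA4.FibMod A B N) := Submodule.Quotient.nontrivial_iff.mpr
    (Groth.Agent.EGA4Alg4.smul_top_lt_top (M := N) _ (map_maximalIdeal_le _)).ne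
  obtain ⟨a, ha⟩ := Groth.Agent.EGA4Alg4.exists_supportDim_eq (A := A) (M := M)
  obtain ⟨b, hb⟩ := Groth.Agent.EGA4Alg4.exists_supportDim_eq (A := B) (M := EGA4.FibMod A B N)
  obtain ⟨l, hl⟩ := (Order.le_krullDim_iff (n := a)).mp ha.ge
  obtain ⟨f, hf⟩ := (Order.le_krullDim_iff (n := b)).mp hb.ge
  have hmM : closedPoint A ∈ support A M := closedPoint_mem_support A M
  -- extend `l` to the closed point
  obtain ⟨l', hl', hl'last⟩ : ∃ l' : LTSeries (support A M), a ≤ l'.length ∧ l'.last.1 = closedPoint A := by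
    rcases eq_or_lt_of_le (show l.last.1 ≤ closedPoint A from le_maximalIdeal l.last.1.2.ne_top) with he | hlt
    · exact ⟨l, hl.ge, he⟩
    · exact ⟨l.snoc ⟨closedPoint A, hmM⟩ hlt, by simp [hl], by rw [RelSeries.last_snoc]⟩
  have hmem : ∀ i, (f i).1 ∈ support B N ∧
      PrimeSpectrum.comap (algebraMap A B) (f i).1 = closedPoint A := by
    intro i
    have h1 := (Module.support_quotient (EGA4.mB A B)).le (f i).2
    exact ⟨h1.1, PrimeSpectrum.ext ((maximalIdeal.isMaximal A).eq_of_le (Ideal.comap_ne_top _ (f i).1.2.ne_top)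
      (Ideal.map_le_iff_le_comap.mp (SetLike.coe_subset_coe.mp h1.2))).symm⟩
  obtain ⟨L, hLlen, hLlast, hLmem⟩ := exists_lift (N := N) M l' f.head.1 (hmem 0).1 ((hmem 0).2.trans hl'last.symm)
  let f' : LTSeries (PrimeSpectrum B) := f.map Subtype.val (fun _ _ h => h)
  have hconn : L.last = f'.head := hLlast
  have hall : ∀ i, (RelSeries.smash L f' hconn) i ∈ support B (N ⊗[A] M) := by
    intro i
    refine Fin.addCases (m := L.length) (n := f.length + 1) (fun i => ?_) (fun i => ?_) i
    · simp only [RelSeries.smash]; erw [Fin.addCases_left]; exact hLmem _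
    · simp only [RelSeries.smash]; erw [Fin.addCases_right]
      exact mem_support_tensor M _ (hmem i).1 (show PrimeSpectrum.comap (algebraMap A B) (f i).1 ∈ support A M from (hmem i).2 ▸ hmM)
  let T : LTSeries (support B (N ⊗[A] M)) :=
    ⟨(RelSeries.smash L f' hconn).length, fun i => ⟨_, hall i⟩, (RelSeries.smash L f' hconn).step⟩
  rw [ha, hb]
  refine le_trans ?_ (Order.LTSeries.length_le_krullDim T)
  have : a + b ≤ T.length := by
    show a + b ≤ L.length + f.length
    omega
  exact_mod_cast this

end Groth.Agent.EGA4H10
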