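import Groth.Agent.EGA4Alg4.Semilocal
import Groth.Agent.EGA4Alg4.CMMod
import Mathlib

/-!
# Dimension and the growth of `n ↦ length (M/JⁿM)`
-/

set_option autoImplicit false
universe u
open IsLocalRing Module
open scoped Pointwise

namespace Groth.Agent.EGA4H10.LengthDim

section Growth

/-- a binomial coefficient of degree `e` is not bounded by a polynomial of smaller degree -/
theorem le_of_choose_le {a b d e : ℕ} (h : ∀ n : ℕ, n.choose e ≤ a * (b * n + 2) ^ d) : e ≤ d := by
  by_contra hlt
  rw [not_le] at hlt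
  set K := e.factorial * a * (b * (e + 1) + 2) ^ d with hK
  have key : (K + 1) ^ e ≤ K * (K + 1) ^ d := by
    have h1 := Nat.pow_sub_le_descFactorial (e + K) e
    rw [show e + K + 1 - e = K + 1 by omega, Nat.descFactorial_eq_factorial_mul_choose] at h1
    refine h1.trans ((Nat.mul_le_mul_left _ (h (e + K))).trans ?_)
    rw [hK, ← mul_assoc, mul_assoc _ ((b * (e + 1) + 2) ^ d), ← mul_pow]
    refine Nat.mul_le_mul_left _ (Nat.pow_le_pow_left ?_ _)
    rw [← hK, show (b * (e + 1) + 2) * (K + 1) = b * (e + K) + 2 + (b * (e * K + 1) + 2 * K) by ring]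
    omega
  have h2 : (K + 1) ^ d * (K + 1) ≤ (K + 1) ^ e := by
    rw [← pow_succ]
    exact Nat.pow_le_pow_right (by omega) hlt
  have h3 : K * (K + 1) ^ d < (K + 1) ^ d * (K + 1) := by
    rw [mul_comm ((K + 1) ^ d)]
    exact Nat.mul_lt_mul_of_pos_right (by omega) (pow_pos (by omega) d)
  omega

end Growth

variable {A : Type u} [CommRing A]

/-- multiplication by the first element: `len M/(x, X')ᵗ ≤ len M/(xM + X'ᵗM) + len M/(x, X')ᵗ⁻¹` -/
theorem length_pow_succ_le (x : A) (X' : Ideal A) (M : Type u) [AddCommGroup M] [Module A M] (t : ℕ) :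
    Module.length A (M ⧸ ((Ideal.span {x} ⊔ X') ^ (t + 1) • (⊤ : Submodule A M))) ≤
      Module.length A (M ⧸ ((Ideal.span {x} ⊔ X') ^ t • (⊤ : Submodule A M))) +
        Module.length A (QuotSMulTop x M ⧸ (X' ^ (t + 1) • (⊤ : Submodule A (QuotSMulTop x M)))) := by
  let X := Ideal.span {x} ⊔ X'
  let P : Submodule A M := X ^ t • ⊤
  let P' : Submodule A M := X ^ (t + 1) • ⊤
  have hP : P ≤ P'.comap (LinearMap.lsmul A M x) := by
    intro m hm
    simp only [Submodule.mem_comap, LinearMap.lsmul_apply, P', pow_succ', Submodule.mul_smul]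
    exact Submodule.smul_mem_smul (Submodule.mem_sup_left (Ideal.mem_span_singleton_self x)) hm
  let α : (M ⧸ P) →ₗ[A] M ⧸ P' := Submodule.mapQ P P' (LinearMap.lsmul A M x) hP
  have hβ : (X' ^ (t + 1) • (⊤ : Submodule A (QuotSMulTop x M))) ≤
      LinearMap.ker (Submodule.liftQ (x • ⊤ : Submodule A M)
        ((LinearMap.range α).mkQ ∘ₗ P'.mkQ) (fun m hm => by
          obtain ⟨m', -, rfl⟩ := (Submodule.mem_smul_pointwise_iff_exists _ _ _).mp hm
          simp only [LinearMap.mem_ker, LinearMap.comp_apply, Submodule.mkQ_apply,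
            Submodule.Quotient.mk_eq_zero]
          exact ⟨Submodule.Quotient.mk m', rfl⟩)) := by
    refine Submodule.smul_le.mpr fun a ha z _ => ?_
    obtain ⟨m, rfl⟩ := Submodule.Quotient.mk_surjective _ z
    rw [← Submodule.Quotient.mk_smul, LinearMap.mem_ker, Submodule.liftQ_apply, LinearMap.comp_apply,
      Submodule.mkQ_apply, Submodule.mkQ_apply, Submodule.Quotient.mk_eq_zero]
    have : a • m ∈ P' := Submodule.smul_mem_smul (Ideal.pow_right_mono le_sup_right _ ha) Submodule.mem_top
    rw [(Submodule.Quotient.mk_eq_zero _).mpr this]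
    exact zero_mem _
  rw [Module.length_eq_add_of_exact (LinearMap.range α).subtype (LinearMap.range α).mkQ
    (Submodule.subtype_injective _) (Submodule.mkQ_surjective _) (LinearMap.exact_subtype_mkQ _)]
  refine add_le_add (Module.length_le_of_surjective α.rangeRestrict α.surjective_rangeRestrict)
    (Module.length_le_of_surjective (Submodule.liftQ _ _ hβ) fun z => ?_)
  obtain ⟨w, rfl⟩ := Submodule.Quotient.mk_surjective _ z
  obtain ⟨m, rfl⟩ := Submodule.Quotient.mk_surjective _ w
  exact ⟨Submodule.Quotient.mk (Submodule.Quotient.mk m), rfl⟩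

theorem length_le_mul_pow : ∀ (xs : List A) (M : Type u) [AddCommGroup M] [Module A M] (L : ℕ),
    Module.length A (M ⧸ (Ideal.ofList xs • (⊤ : Submodule A M))) ≤ L →
    ∀ t : ℕ, Module.length A (M ⧸ (Ideal.ofList xs ^ t • (⊤ : Submodule A M))) ≤
      ((L * t ^ xs.length : ℕ) : ℕ∞)
  | [], M, _, _, L, h, 0 => by
    have : Subsingleton (M ⧸ (Ideal.ofList ([] : List A) ^ 0 • (⊤ : Submodule A M))) := by
      rw [pow_zero, Ideal.one_eq_top, Submodule.top_smul]
      infer_instance
    simp [Module.length_eq_zero]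
  | [], M, _, _, L, h, t + 1 => by
    rw [(Submodule.quotEquivOfEq _ _ (by simp : Ideal.ofList ([] : List A) ^ (t + 1) • (⊤ : Submodule A M) =
      Ideal.ofList ([] : List A) • ⊤)).length_eq]
    simpa using h
  | x :: xs, M, _, _, L, h, 0 => by
    have : Subsingleton (M ⧸ (Ideal.ofList (x :: xs) ^ 0 • (⊤ : Submodule A M))) := by
      rw [pow_zero, Ideal.one_eq_top, Submodule.top_smul]
      infer_instance
    simp [Module.length_eq_zero]
  | x :: xs, M, _, _, L, h, t + 1 => by
    have h' : Module.length A (QuotSMulTop x M ⧸ (Ideal.ofList xs • (⊤ : Submodule A (QuotSMulTop x M)))) ≤ L := by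
      rwa [← (Submodule.quotOfListConsSMulTopEquivQuotSMulTopInner M x xs).length_eq]
    have h1 := length_le_mul_pow xs (QuotSMulTop x M) L h' (t + 1)
    have h2 := length_le_mul_pow (x :: xs) M L h t
    rw [Ideal.ofList_cons] at h2 ⊢
    refine (length_pow_succ_le x (Ideal.ofList xs) M t).trans ((add_le_add h2 h1).trans ?_)
    rw [List.length_cons, ← Nat.cast_add, Nat.cast_le, ← mul_add]
    refine Nat.mul_le_mul_left _ ?_
    rw [pow_succ, pow_succ _ xs.length, mul_add, mul_one]
    exact add_le_add (Nat.mul_le_mul_right _ (Nat.pow_le_pow_left t.le_succ _)) le_rfl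

variable [IsNoetherianRing A] [IsLocalRing A]

/-- upper bound -/
theorem exists_upper (J : Ideal A) (hJ : maximalIdeal A ≤ J.radical) (M : Type u) [AddCommGroup M]
    [Module A M] [Module.Finite A M] (d : ℕ) (hd : supportDim A M ≤ d) :
    ∃ c : ℕ, ∀ n : ℕ, Module.length A (M ⧸ (J ^ n • (⊤ : Submodule A M))) ≤ ((c * (n + 1) ^ d : ℕ) : ℕ∞) := by
  rcases subsingleton_or_nontrivial M with hM | hM
  · exact ⟨0, fun n => by simp [Module.length_eq_zero]⟩
  obtain ⟨e, he⟩ := EGA4Alg4.exists_supportDim_eq (A := A) (M := M)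
  obtain ⟨xs, hlen, hxs, hfin⟩ := EGA4Alg4.Semilocal.exists_parameters e he
  obtain ⟨L, hL⟩ := ENat.ne_top_iff_exists.mp (Module.length_ne_top_iff.mpr hfin)
  obtain ⟨N, hN⟩ := Ideal.exists_radical_pow_le_of_fg J (Ideal.fg_of_isNoetherianRing _)
  have hed : e ≤ d := by rw [he] at hd; exact_mod_cast hd
  have hX : Ideal.ofList xs ^ N ≤ J := by
    refine le_trans (Ideal.pow_right_mono (Ideal.span_le.mpr fun x hx => ?_) N) hN
    have := hxs x hx
    rw [IsLocalRing.ringJacobson_eq_maximalIdeal] at this
    exact hJ this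
  refine ⟨L * N ^ e, fun n => ?_⟩
  refine (Module.length_le_of_surjective (Submodule.factor (?_ : Ideal.ofList xs ^ (N * n) • (⊤ : Submodule A M) ≤
    J ^ n • ⊤)) (Submodule.factor_surjective _)).trans ((length_le_mul_pow xs M L hL.ge _).trans ?_)
  · rw [pow_mul]
    exact Submodule.smul_mono_left (Ideal.pow_right_mono hX n)
  · rw [Nat.cast_le, hlen, mul_pow, mul_assoc]
    exact Nat.mul_le_mul_left _ (Nat.mul_le_mul_left _ ((Nat.pow_le_pow_left n.le_succ e).trans
      (Nat.pow_le_pow_right (by omega) hed)))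

omit [IsLocalRing A] in
/-- Artin–Rees: a submodule contributes with a shift -/
theorem exists_shift (J : Ideal A) {P M : Type u} [AddCommGroup P] [Module A P]
    [AddCommGroup M] [Module A M] [Module.Finite A M] (f : P →ₗ[A] M) (hf : Function.Injective f) :
    ∃ k : ℕ, ∀ m ≥ k,
      Module.length A (P ⧸ (J ^ (m - k) • (⊤ : Submodule A P))) +
        Module.length A (M ⧸ (LinearMap.range f ⊔ J ^ m • (⊤ : Submodule A M))) ≤
      Module.length A (M ⧸ (J ^ m • (⊤ : Submodule A M))) := by
  obtain ⟨k, hk⟩ := J.exists_pow_inf_eq_pow_smul (LinearMap.range f)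
  refine ⟨k, fun m hm => ?_⟩
  let W : Submodule A M := J ^ m • ⊤
  let g := W.mkQ ∘ₗ f
  have hker : LinearMap.ker g ≤ J ^ (m - k) • (⊤ : Submodule A P) := by
    intro p hp
    have h1 : f p ∈ J ^ m • (⊤ : Submodule A M) ⊓ LinearMap.range f :=
      ⟨(Submodule.Quotient.mk_eq_zero _).mp hp, ⟨p, rfl⟩⟩
    rw [hk m hm] at h1
    have h2 : f p ∈ J ^ (m - k) • LinearMap.range f := Submodule.smul_mono le_rfl inf_le_right h1
    rw [← Submodule.map_top, ← Submodule.map_smul''] at h2
    obtain ⟨q, hq, hqp⟩ := h2
    rwa [hf hqp] at hq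
  rw [Module.length_eq_add_of_exact (LinearMap.range g).subtype (LinearMap.range g).mkQ
    (Submodule.subtype_injective _) (Submodule.mkQ_surjective _) (LinearMap.exact_subtype_mkQ _)]
  refine add_le_add ?_ ?_
  · rw [← g.quotKerEquivRange.length_eq]
    exact Module.length_le_of_surjective (Submodule.factor hker) (Submodule.factor_surjective _)
  · refine Module.length_le_of_surjective (Submodule.liftQ _ (Submodule.factor le_sup_right) ?_) ?_
    · rintro _ ⟨p, rfl⟩
      exact (Submodule.Quotient.mk_eq_zero _).mpr (Submodule.mem_sup_left ⟨p, rfl⟩)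
    · intro z
      obtain ⟨w, rfl⟩ := Submodule.factor_surjective le_sup_right z
      exact ⟨Submodule.Quotient.mk w, rfl⟩

/-- lower bound for `A/q` -/
theorem exists_lower_prime (J : Ideal A) (hJ : J ≤ maximalIdeal A) (e : ℕ) :
    ∀ (q : PrimeSpectrum A), (∃ l : LTSeries (PrimeSpectrum A), l.head = q ∧ l.length = e) →
      ∃ c : ℕ, ∀ n : ℕ, ((n.choose e : ℕ) : ℕ∞) ≤
        Module.length A ((A ⧸ q.asIdeal) ⧸ (J ^ (c * n + 1) • (⊤ : Submodule A (A ⧸ q.asIdeal)))) := by
  induction e with
  | zero =>
    intro q _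
    refine ⟨0, fun n => ?_⟩
    rw [Nat.choose_zero_right, Nat.cast_one, Order.one_le_iff_pos, Module.length_pos_iff,
      Submodule.Quotient.nontrivial_iff]
    exact (EGA4Alg4.smul_top_lt_top _ (by simpa using hJ)).ne
  | succ e ih =>
    rintro q ⟨l, hl, hlen⟩
    obtain ⟨c, hc⟩ := ih (l ⟨1, by omega⟩) ⟨l.tail (by omega), by simp [RelSeries.head, RelSeries.tail]; rfl, by simp [hlen]⟩
    set q1 := l ⟨1, by omega⟩ with hq1
    have hlt : q.asIdeal < q1.asIdeal := by
      rw [← hl]
      exact l.strictMono (by simp [Fin.lt_def] : (0 : Fin (l.length + 1)) < ⟨1, _⟩)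
    obtain ⟨x, hx1, hxq⟩ := SetLike.exists_of_lt hlt
    let B := A ⧸ q.asIdeal
    let μ : B →ₗ[A] B := LinearMap.lsmul A B x
    have hμ : Function.Injective μ := by
      rw [injective_iff_map_eq_zero]
      intro b hb
      obtain ⟨b, rfl⟩ := Ideal.Quotient.mk_surjective b
      change Ideal.Quotient.mk q.asIdeal (x * b) = 0 at hb
      rw [Ideal.Quotient.eq_zero_iff_mem] at hb ⊢
      exact (q.2.mem_or_mem hb).resolve_left hxq
    obtain ⟨k, hk⟩ := exists_shift J μ hμ
    set C := max c k
    set f : ℕ → ℕ∞ := fun m => Module.length A (B ⧸ (J ^ m • (⊤ : Submodule A B))) with hf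
    have hmono : ∀ a b, a ≤ b → f a ≤ f b := fun a b hab =>
      Module.length_le_of_surjective (Submodule.factor (Submodule.pow_smul_top_le J B hab))
        (Submodule.factor_surjective _)
    have hstep : ∀ n, f (C * n + 1) + ((n.choose e : ℕ) : ℕ∞) ≤ f (C * (n + 1) + 1) := by
      intro n
      set m := C * (n + 1) + 1 with hm
      have hmk : k ≤ m := by
        rw [hm, mul_add, mul_one]
        have : k ≤ C := le_max_right _ _
        omega
      refine le_trans (add_le_add (hmono _ (m - k) ?_) ?_) (hk m hmk)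
      · rw [hm, mul_add, mul_one]
        have : k ≤ C := le_max_right _ _
        omega
      · refine le_trans (le_trans ?_ (hc (n + 1))) ?_
        · exact_mod_cast Nat.choose_le_choose e n.le_succ
        · have hle : LinearMap.range μ ⊔ J ^ m • (⊤ : Submodule A B) ≤
              LinearMap.ker ((J ^ (c * (n + 1) + 1) • (⊤ : Submodule A (A ⧸ q1.asIdeal))).mkQ ∘ₗ
                Submodule.factor (hlt.le : q.asIdeal ≤ q1.asIdeal)) := by
            refine sup_le ?_ ?_
            · rintro _ ⟨b, rfl⟩
              obtain ⟨b, rfl⟩ := Ideal.Quotient.mk_surjective b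
              rw [LinearMap.mem_ker, LinearMap.comp_apply,
                show Submodule.factor (hlt.le : q.asIdeal ≤ q1.asIdeal) (μ (Ideal.Quotient.mk _ b)) =
                  Ideal.Quotient.mk q1.asIdeal (x * b) from rfl,
                Ideal.Quotient.eq_zero_iff_mem.mpr (Ideal.mul_mem_right b _ hx1), map_zero]
            · refine Submodule.smul_le.mpr fun a ha b _ => ?_
              rw [LinearMap.mem_ker, map_smul, LinearMap.comp_apply,
                ← map_smul, Submodule.mkQ_apply, Submodule.Quotient.mk_eq_zero]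
              refine Submodule.smul_mem_smul (Ideal.pow_le_pow_right ?_ ha) Submodule.mem_top
              rw [hm]
              exact Nat.add_le_add_right (Nat.mul_le_mul_right _ (le_max_left _ _)) _
          refine Module.length_le_of_surjective (Submodule.liftQ _ _ hle) fun z => ?_
          obtain ⟨w, rfl⟩ := Submodule.Quotient.mk_surjective _ z
          obtain ⟨b, rfl⟩ := Submodule.factor_surjective (hlt.le : q.asIdeal ≤ q1.asIdeal) w
          exact ⟨Submodule.Quotient.mk b, rfl⟩
    refine ⟨C, fun n => ?_⟩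
    induction n with
    | zero => simp
    | succ n ihn =>
      rw [Nat.choose_succ_succ', Nat.cast_add, add_comm]
      exact le_trans (add_le_add ihn le_rfl) (hstep n)

/-- lower bound -/
theorem exists_lower (J : Ideal A) (hJ : J ≤ maximalIdeal A) (M : Type u) [AddCommGroup M]
    [Module A M] [Module.Finite A M] (e : ℕ) (he : (e : WithBot ℕ∞) ≤ supportDim A M) :
    ∃ c : ℕ, ∀ n : ℕ, ((n.choose e : ℕ) : ℕ∞) ≤
      Module.length A (M ⧸ (J ^ (c * n + 1) • (⊤ : Submodule A M))) := by
  obtain ⟨l, hl⟩ := Order.le_krullDim_iff.mp he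
  have hne : ((l.head : PrimeSpectrum A)) ∈ Module.support A M := l.head.2
  have key : ∀ P : PrimeSpectrum A, P ∈ Module.support A M → Module.annihilator A M ≤ P.asIdeal := by
    intro P hP
    rwa [Module.support_eq_zeroLocus, PrimeSpectrum.mem_zeroLocus, SetLike.coe_subset_coe] at hP
  replace hne := key _ hne
  obtain ⟨q, hq, hql⟩ := Ideal.exists_minimalPrimes_le (J := l.head.1.asIdeal) hne
  have hass := Module.associatedPrimes.minimalPrimes_annihilator_subset_associatedPrimes A M hq
  obtain ⟨hqp, y, hy⟩ := isAssociatedPrime_iff.mp hass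
  let l' : LTSeries (PrimeSpectrum A) := l.map (fun p => p.1) fun _ _ h => h
  have hser : ∃ s : LTSeries (PrimeSpectrum A), s.head = ⟨q, hqp⟩ ∧ s.length = e := by
    have hh : ({ toFun := fun i => if i = 0 then (⟨q, hqp⟩ : PrimeSpectrum A) else l' i
                 length := l'.length
                 step := fun i => by
                   have h0 := l'.step i
                   by_cases hi : i.castSucc = 0
                   · show (if i.castSucc = 0 then (⟨q, hqp⟩ : PrimeSpectrum A) else l' i.castSucc) <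
                       (if i.succ = 0 then (⟨q, hqp⟩ : PrimeSpectrum A) else l' i.succ)
                     rw [if_pos hi, if_neg (Fin.succ_ne_zero i)]
                     refine lt_of_le_of_lt ?_ h0
                     rw [hi]
                     exact hql
                   · show (if i.castSucc = 0 then (⟨q, hqp⟩ : PrimeSpectrum A) else l' i.castSucc) <
                       (if i.succ = 0 then (⟨q, hqp⟩ : PrimeSpectrum A) else l' i.succ)
                     rw [if_neg hi, if_neg (Fin.succ_ne_zero i)]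
                     exact h0 } : LTSeries (PrimeSpectrum A)).head = ⟨q, hqp⟩ := by simp [RelSeries.head]
    exact ⟨_, hh, hl⟩
  obtain ⟨c, hc⟩ := exists_lower_prime J hJ e ⟨q, hqp⟩ hser
  let f : (A ⧸ q) →ₗ[A] M := Submodule.liftQ q (LinearMap.toSpanSingleton A M y) fun a ha => by
    rw [hy, Submodule.mem_colon_singleton, Submodule.mem_bot] at ha
    exact ha
  have hf : Function.Injective f := by
    rw [injective_iff_map_eq_zero]
    intro b hb
    obtain ⟨b, rfl⟩ := Ideal.Quotient.mk_surjective b
    rw [Ideal.Quotient.eq_zero_iff_mem, hy, Submodule.mem_colon_singleton, Submodule.mem_bot]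
    exact hb
  obtain ⟨k, hk⟩ := exists_shift J f hf
  refine ⟨c + k, fun n => ?_⟩
  rcases Nat.eq_zero_or_pos n with rfl | hn
  · rcases Nat.eq_zero_or_pos e with rfl | he0
    · rw [Nat.choose_zero_right, Nat.cast_one, Order.one_le_iff_pos, Module.length_pos_iff,
        Submodule.Quotient.nontrivial_iff]
      have : Nontrivial M := Function.Injective.nontrivial hf
      exact (EGA4Alg4.smul_top_lt_top _ (by simpa using hJ)).ne
    · rw [Nat.choose_eq_zero_of_lt he0, Nat.cast_zero]
      exact zero_le
  · have hkn : k ≤ k * n := Nat.le_mul_of_pos_right k hn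
    have hle : (c + k) * n = c * n + k * n := add_mul _ _ _
    refine (hc n).trans (le_trans ?_ (le_trans le_self_add (hk ((c + k) * n + 1) (by omega))))
    exact Module.length_le_of_surjective (Submodule.factor (Submodule.pow_smul_top_le J _ (by omega)))
      (Submodule.factor_surjective _)

end Groth.Agent.EGA4H10.LengthDim
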