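import Groth.Prelude.Def_EGA4b
import Groth.Agent.EGA4H10.FlatSupport
import Groth.Agent.EGA4Alg4.DepthChange
import Groth.Agent.EGA4Alg4.IntegralDim
import Groth.Agent.CAlg1.FlatDepth
import Groth.Agent.Ega11.SupportLoc
import Mathlib

/-!
# Depth and dimension of the localizations of `F ⊗_A E` for `F` flat over `A`
-/

set_option autoImplicit false
universe u
open IsLocalRing TensorProduct Module

namespace Groth.Agent.EGA4H10

/-- over a local ring, localizing at the maximal ideal changes neither depth nor dimension -/
theorem invariants_at_maximal {R : Type u} [CommRing R] [IsLocalRing R] [IsNoetherianRing R]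
    (M : Type u) [AddCommGroup M] [Module R M] [Module.Finite R M] :
    LocCoh.depth (Localization.AtPrime (maximalIdeal R)) (LocalizedModule (maximalIdeal R).primeCompl M) =
        LocCoh.depth R M ∧
      supportDim (Localization.AtPrime (maximalIdeal R)) (LocalizedModule (maximalIdeal R).primeCompl M) =
        supportDim R M := by
  have hunit : ∀ x ∈ (maximalIdeal R).primeCompl, IsUnit x := fun x hx => by
    have h2 : x ∉ maximalIdeal R := hx
    rw [mem_maximalIdeal, mem_nonunits_iff, not_not] at h2
    exact h2
  let R' := Localization.AtPrime (maximalIdeal R)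
  have : IsNoetherianRing R' := IsLocalization.isNoetherianRing (maximalIdeal R).primeCompl _ inferInstance
  let M' := LocalizedModule (maximalIdeal R).primeCompl M
  have hR : Function.Surjective (algebraMap R R') :=
    (IsLocalization.atUnits R (maximalIdeal R).primeCompl (S := R') hunit).surjective
  have : IsLocalHom (algebraMap R R') := Function.Surjective.isLocalHom _ hR
  have : IsLocalizedModule (maximalIdeal R).primeCompl (LinearMap.id : M →ₗ[R] M) :=
    { map_units := fun s => by
        obtain ⟨v, hv⟩ := hunit s s.2
        exact (Module.End.isUnit_iff _).mpr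
          ⟨fun x y h => by
            have h' : (s : R) • x = (s : R) • y := h
            rw [← hv] at h'
            exact v.isUnit.smul_left_cancel.mp h',
          fun y => ⟨(↑v⁻¹ : R) • y, by
            show (s : R) • ((↑v⁻¹ : R) • y) = y
            rw [← hv, smul_smul, Units.mul_inv, one_smul]⟩⟩
      surj := fun y => ⟨(y, 1), by simp⟩
      exists_of_eq := fun h => ⟨1, by simpa using h⟩ }
  let e : M' ≃ₗ[R] M := IsLocalizedModule.iso (maximalIdeal R).primeCompl LinearMap.id
  have : Module.Finite R M' := Module.Finite.equiv e.symm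
  refine ⟨?_, ?_⟩
  · show LocCoh.depth R' M' = _
    rw [← EGA4Alg4.depth_eq_of_finite (A := R) (B := R') M', EGA4Alg4.depth_eq_of_equiv e]
  · show supportDim R' M' = _
    rw [← EGA4Alg4.supportDim_eq_of_finite_restrictScalars R R' M', Module.supportDim_eq_of_equiv e]

variable {A B : Type u} [CommRing A] [CommRing B] [Algebra A B]
variable (F : Type u) [AddCommGroup F] [Module B F] [Module A F] [IsScalarTower A B F]

theorem flat_localizedModule [Module.Flat A F] (S : Submonoid B) : Module.Flat A (LocalizedModule S F) := by
  refine Module.Flat.iff_lTensor_preserves_injective_linearMap.mpr fun N N' _ _ _ _ h hh => ?_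
  have hinj : Function.Injective (AlgebraTensorModule.lTensor B F h) :=
    Module.Flat.lTensor_preserves_injective_linearMap (M := F) h hh
  have key := IsLocalizedModule.map_injective S
    (AlgebraTensorModule.rTensor A N (LocalizedModule.mkLinearMap S F))
    (AlgebraTensorModule.rTensor A N' (LocalizedModule.mkLinearMap S F))
    (AlgebraTensorModule.lTensor B F h) hinj
  rw [IsLocalizedModule.map_lTensor] at key
  exact key

variable [IsNoetherianRing A] [IsNoetherianRing B] [Module.Finite B F] [Module.Flat A F]
variable (E : Type u) [AddCommGroup E] [Module A E] [Module.Finite A E]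

/-- invariants of `(F ⊗_A E)_q` in terms of `E_p` and the fibre `F_q/pF_q` -/
theorem tensor_loc_invariants (q : Ideal B) [q.IsPrime]
    [Nontrivial (LocalizedModule q.primeCompl F)]
    [Nontrivial (LocalizedModule (q.comap (algebraMap A B)).primeCompl E)] :
    LocCoh.depth (Localization.AtPrime q) (LocalizedModule q.primeCompl (F ⊗[A] E)) =
        LocCoh.depth (Localization.AtPrime (q.comap (algebraMap A B)))
          (LocalizedModule (q.comap (algebraMap A B)).primeCompl E) +
        LocCoh.depth (Localization.AtPrime q) (EGA4.FibLocMod A B q F) ∧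
      supportDim (Localization.AtPrime q) (LocalizedModule q.primeCompl (F ⊗[A] E)) =
        supportDim (Localization.AtPrime (q.comap (algebraMap A B)))
          (LocalizedModule (q.comap (algebraMap A B)).primeCompl E) +
        supportDim (Localization.AtPrime q) (EGA4.FibLocMod A B q F) := by
  let p := q.comap (algebraMap A B)
  let Ap := Localization.AtPrime p
  let Bq := Localization.AtPrime q
  have : q.LiesOver p := ⟨rfl⟩
  let := Localization.AtPrime.algebraOfLiesOver p q
  have : IsLocalHom (algebraMap Ap Bq) := by
    rw [RingHom.algebraMap_toAlgebra]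
    exact Localization.isLocalHom_localRingHom p q (algebraMap A B) Ideal.LiesOver.over
  have : IsNoetherianRing Ap := IsLocalization.isNoetherianRing p.primeCompl _ inferInstance
  have : IsNoetherianRing Bq := IsLocalization.isNoetherianRing q.primeCompl _ inferInstance
  let Fq := LocalizedModule q.primeCompl F
  let Ep := LocalizedModule p.primeCompl E
  let : Module Ap Fq := Module.compHom Fq (algebraMap Ap Bq)
  have : IsScalarTower Ap Bq Fq := .of_compHom _ _ _
  have : IsScalarTower A Ap Fq := IsScalarTower.of_algebraMap_smul fun a x => by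
    show algebraMap Ap Bq (algebraMap A Ap a) • x = a • x
    rw [← IsScalarTower.algebraMap_apply A Ap Bq, algebraMap_smul]
  have : Module.Flat A Fq := flat_localizedModule F q.primeCompl
  have : Module.Flat Ap Fq := (Module.flat_iff_of_isLocalization Ap p.primeCompl Fq).mpr inferInstance
  have : Module.Finite Bq Fq :=
    Module.Finite.of_isLocalizedModule q.primeCompl (LocalizedModule.mkLinearMap q.primeCompl F)
  have : Module.Finite Ap Ep :=
    Module.Finite.of_isLocalizedModule p.primeCompl (LocalizedModule.mkLinearMap p.primeCompl E)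
  let e1 : LocalizedModule q.primeCompl (F ⊗[A] E) ≃ₗ[Bq] Fq ⊗[A] E :=
    (IsLocalizedModule.iso q.primeCompl
      (AlgebraTensorModule.rTensor A E (LocalizedModule.mkLinearMap q.primeCompl F))).extendScalarsOfIsLocalization
      q.primeCompl Bq
  let e2 : Ap ⊗[A] E ≃ₗ[Ap] Ep :=
    ((isLocalizedModule_iff_isBaseChange p.primeCompl Ap (LocalizedModule.mkLinearMap p.primeCompl E)).mp
      inferInstance).equiv
  let e3 : Fq ⊗[Ap] Ep ≃ₗ[Bq] Fq ⊗[A] E :=
    (AlgebraTensorModule.congr (LinearEquiv.refl Bq Fq) e2.symm).trans
      (AlgebraTensorModule.cancelBaseChange A Ap Bq Fq E)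
  let e := e1.trans e3.symm
  have hK : (maximalIdeal Ap).map (algebraMap Ap Bq) = p.map (algebraMap A Bq) := by
    rw [← Localization.AtPrime.map_eq_maximalIdeal, Ideal.map_map, ← IsScalarTower.algebraMap_eq]
  let e4 : (Fq ⧸ (maximalIdeal Ap).map (algebraMap Ap Bq) • (⊤ : Submodule Bq Fq)) ≃ₗ[Bq] EGA4.FibLocMod A B q F :=
    Submodule.quotEquivOfEq _ _ (by rw [hK])
  constructor
  · rw [EGA4Alg4.depth_eq_of_equiv e, CAlg1.depth_tensor_flat, EGA4Alg4.depth_eq_of_equiv e4]
  · rw [Module.supportDim_eq_of_equiv e, supportDim_tensor_flat, Module.supportDim_eq_of_equiv e4]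

omit [Module A F] [IsScalarTower A B F] [IsNoetherianRing A] [IsNoetherianRing B] [Module.Flat A F] in
/-- at a prime minimal in its fibre of `Supp F` the fibre module has dimension at most zero -/
theorem supportDim_fibLocMod_le_zero (q : Ideal B) [q.IsPrime]
    (hq : q ∈ ((q.comap (algebraMap A B)).map (algebraMap A B) ⊔ Module.annihilator B F).minimalPrimes) :
    supportDim (Localization.AtPrime q) (EGA4.FibLocMod A B q F) ≤ 0 := by
  have hsub : ∀ x ∈ support (Localization.AtPrime q) (EGA4.FibLocMod A B q F), x = closedPoint _ := by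
    intro x hx
    have hx' := (Module.support_quotient _).le hx
    have h1 := (Ega11.SupportLoc.mem_support_localizedModule_iff (M := F) q.primeCompl x).mp hx'.1
    have h2 : (q.comap (algebraMap A B)).map (algebraMap A B) ≤ x.asIdeal.comap (algebraMap B (Localization.AtPrime q)) := by
      rw [Ideal.map_le_iff_le_comap, Ideal.comap_comap, ← IsScalarTower.algebraMap_eq, ← Ideal.map_le_iff_le_comap]
      exact SetLike.coe_subset_coe.mp hx'.2
    have h3 : x.asIdeal.comap (algebraMap B (Localization.AtPrime q)) ≤ q := fun y hy => by
      by_contra hyq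
      exact x.2.ne_top (x.asIdeal.eq_top_of_isUnit_mem hy (IsLocalization.map_units _ (⟨y, hyq⟩ : q.primeCompl)))
    have h4 : q ≤ x.asIdeal.comap (algebraMap B (Localization.AtPrime q)) :=
      hq.2 ⟨inferInstance, sup_le h2 (Module.annihilator_le_of_mem_support h1)⟩ h3
    refine PrimeSpectrum.ext (le_antisymm (le_maximalIdeal x.2.ne_top) ?_)
    show maximalIdeal (Localization.AtPrime q) ≤ x.asIdeal
    rw [← Localization.AtPrime.map_eq_maximalIdeal]
    exact Ideal.map_le_iff_le_comap.mpr h4
  have : Subsingleton (support (Localization.AtPrime q) (EGA4.FibLocMod A B q F)) :=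
    ⟨fun a b => Subtype.ext ((hsub _ a.2).trans (hsub _ b.2).symm)⟩
  exact Order.krullDim_nonpos_of_subsingleton

end Groth.Agent.EGA4H10
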