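import Groth.Prelude.Def_EGA4b
import Groth.Agent.EGA4H10.J2Criterion
import Mathlib

set_option autoImplicit false
universe u

namespace Groth.Agent.EGA4H10

theorem regAway_bot_of_field {L : Type u} [CommRing L] [IsDomain L] (hL : IsField L) : RegAway L 1 := by
  intro P _ _
  letI := hL.toField
  exact IsRegularRing.isRegularLocalRing_localization P

theorem open_of_regAway {R : Type u} [CommRing R] [IsDomain R] (g : R) (hg : g ≠ 0) (h : RegAway R g) :
    ∃ U : Set (PrimeSpectrum R), IsOpen U ∧ U.Nonempty ∧ U ⊆ EGA4.regLocus R :=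
  ⟨_, (PrimeSpectrum.basicOpen g).isOpen, ⟨⟨⊥, Ideal.isPrime_bot⟩, fun hm => hg ((Submodule.mem_bot R).mp hm)⟩,
    fun q hq => h q.asIdeal hq⟩

end Groth.Agent.EGA4H10
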