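import Mathlib
import Groth.Prelude.Def_EGA4b
import Groth.Agent.EGA4H10.TensorFields
import Groth.Agent.EGA4H10.FlatSk
import Groth.Agent.CAlg1.SkFlat
import Groth.Agent.Unr55.SmoothStalk

set_option autoImplicit false
universe u
open TensorProduct IsLocalRing

namespace Groth.Agent.EGA4H10

/-! `(S_n)` and codepth for tensor products over a field. -/

theorem hasSk_of_cmRing {R : Type u} [CommRing R] [LocCoh.IsCohenMacaulayRing R] (k : ℕ) :
    LocCoh.HasSk k R R := by
  rw [CAlg1.hasSk_self_iff]
  intro p _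
  have h := (CAlg1.cmLocal_iff).mp (LocCoh.IsCohenMacaulayRing.isCohenMacaulayLocalRing_localization (R := R) p)
  rw [IsLocalization.AtPrime.ringKrullDim_eq_height p, WithBot.coe_le_coe] at h
  exact (min_le_right _ _).trans h

section

variable (k S L : Type u) [Field k] [CommRing S] [Algebra k S] [Field L] [Algebra k L]

/-- the fibres of `S → S ⊗ L` are Cohen-Macaulay -/
theorem cm_fibre_tensor (h : Algebra.EssFiniteType k S ∨ Algebra.EssFiniteType k L) (p : Ideal S) [p.IsPrime] :
    LocCoh.IsCohenMacaulayRing (p.Fiber (S ⊗[k] L)) := by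
  have h' : Algebra.EssFiniteType k p.ResidueField ∨ Algebra.EssFiniteType k L := by
    refine h.imp_left fun hS => ?_
    have : Algebra.EssFiniteType k S := hS
    have : Algebra.EssFiniteType S p.ResidueField := inferInstance
    exact Algebra.EssFiniteType.comp k S p.ResidueField
  exact CAlg1.cmRing_of_ringEquiv
    (Algebra.TensorProduct.cancelBaseChange k S p.ResidueField p.ResidueField L).symm.toRingEquiv
    (isCohenMacaulayRing_field_tensor k p.ResidueField L h')

theorem hasSk_tensor_field [IsNoetherianRing S] [IsNoetherianRing (S ⊗[k] L)]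
    (h : Algebra.EssFiniteType k S ∨ Algebra.EssFiniteType k L) (n : ℕ) (hS : LocCoh.HasSk n S S) :
    LocCoh.HasSk n (S ⊗[k] L) (S ⊗[k] L) :=
  CAlg1.hasSk_of_flat_of_fibres n hS fun p _ => by
    have := cm_fibre_tensor k S L h p
    exact hasSk_of_cmRing n

theorem hasSkAt_tensor_field [IsNoetherianRing S] [IsNoetherianRing (S ⊗[k] L)]
    (h : Algebra.EssFiniteType k S ∨ Algebra.EssFiniteType k L) (n : ℕ) (q' : Ideal (S ⊗[k] L)) [q'.IsPrime] :
    EGA4.HasSkAt n S S (q'.comap (algebraMap S (S ⊗[k] L))) ↔ EGA4.HasSkAt n (S ⊗[k] L) (S ⊗[k] L) q' := by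
  let B := S ⊗[k] L
  have hfib : ∀ (p : Ideal S) [p.IsPrime], LocCoh.HasSk n (p.Fiber B) (p.Fiber B) := fun p _ => by
    have := cm_fibre_tensor k S L h p
    exact hasSk_of_cmRing n
  let e : B ⊗[S] S ≃ₗ[B] B := TensorProduct.AlgebraTensorModule.rid S B B
  constructor
  · intro hS
    exact hasSkAt_congr e n q' (hasSkAt_tensor (A := S) (B := B) B S n
      (fun q _ _ => fibre_condition_of_fiber n hfib q) q' hS)
  · intro hB
    refine hasSkAt_base (A := S) (B := B) B S n ⟨q', inferInstance⟩ ?_ (hasSkAt_congr e.symm n q' hB)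
    rw [Module.mem_support_iff_of_finite, Module.annihilator_eq_bot.mpr inferInstance]
    exact bot_le

theorem codepth_fibre [IsNoetherianRing S] [IsNoetherianRing (S ⊗[k] L)]
    (h : Algebra.EssFiniteType k S ∨ Algebra.EssFiniteType k L) (p : Ideal S) [p.IsPrime]
    (Q : Ideal (p.Fiber (S ⊗[k] L))) [Q.IsPrime] (q : Ideal (S ⊗[k] L)) [q.IsPrime]
    (hq : Q.comap Algebra.TensorProduct.includeRight = q) (hp : p = q.comap (algebraMap S (S ⊗[k] L))) :
    ringKrullDim (Localization.AtPrime p) +
        ((LocCoh.depth (Localization.AtPrime q) (Localization.AtPrime q) : ℕ∞) : WithBot ℕ∞) =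
      ringKrullDim (Localization.AtPrime q) +
        ((LocCoh.depth (Localization.AtPrime p) (Localization.AtPrime p) : ℕ∞) : WithBot ℕ∞) := by
  subst hq
  have := CAlg1.isNoetherianRing_fiber (S := S ⊗[k] L) p
  have hcm := cm_fibre_tensor k S L h p
  obtain ⟨hd, -⟩ := CAlg1.depth_dim_fibre (S := S ⊗[k] L) p Q
  let r : Ideal (S ⊗[k] L) := Q.comap (Algebra.TensorProduct.includeRight : (S ⊗[k] L) →ₐ[S] p.Fiber (S ⊗[k] L))
  have hr : r.LiesOver p := ⟨hp⟩
  let := Localization.AtPrime.algebraOfLiesOver p r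
  let A := Localization.AtPrime p
  let B := Localization.AtPrime r
  have : IsNoetherianRing A := IsLocalization.isNoetherianRing p.primeCompl _ inferInstance
  have : IsNoetherianRing B := IsLocalization.isNoetherianRing r.primeCompl _ inferInstance
  have : IsLocalHom (algebraMap A B) := Localization.isLocalHom_localRingHom p r _ _
  have : Module.Flat A B := inferInstance
  have hdim := Unr55.ringKrullDim_eq_add_of_flat A B
  let e : Localization.AtPrime Q ≃ₐ[A] B ⧸ p.map (algebraMap S B) :=
    Ideal.Fiber.localizationAlgEquivQuotient p Q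
  have hm : (maximalIdeal A).map (algebraMap A B) = p.map (algebraMap S B) := by
    rw [← Localization.AtPrime.map_eq_maximalIdeal, Ideal.map_map, ← IsScalarTower.algebraMap_eq]
  have hdQ : ringKrullDim (Localization.AtPrime Q) = ringKrullDim (B ⧸ p.map (algebraMap S B)) :=
    ringKrullDim_eq_of_ringEquiv e.toRingEquiv
  rw [hm, ← hdQ] at hdim
  have hQ' := (hcm.isCohenMacaulayLocalRing_localization Q).supportDim_eq_depth
  rw [Module.supportDim_self_eq_ringKrullDim] at hQ'
  rw [hd, hdim, hQ', WithBot.coe_add]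
  abel

theorem codepth_tensor_field [IsNoetherianRing S] [IsNoetherianRing (S ⊗[k] L)]
    (h : Algebra.EssFiniteType k S ∨ Algebra.EssFiniteType k L) (q' : Ideal (S ⊗[k] L)) [q'.IsPrime] :
    ringKrullDim (Localization.AtPrime (q'.comap (algebraMap S (S ⊗[k] L)))) +
        ((LocCoh.depth (Localization.AtPrime q') (Localization.AtPrime q') : ℕ∞) : WithBot ℕ∞) =
      ringKrullDim (Localization.AtPrime q') +
        ((LocCoh.depth (Localization.AtPrime (q'.comap (algebraMap S (S ⊗[k] L))))
          (Localization.AtPrime (q'.comap (algebraMap S (S ⊗[k] L)))) : ℕ∞) : WithBot ℕ∞) := by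
  obtain ⟨Q, _, hQ⟩ := CAlg1.exists_fibre_prime (R := S) q'
  exact codepth_fibre k S L h (q'.under S) Q q' hQ rfl

end

theorem hasSk_self_ringEquiv {A B : Type u} [CommRing A] [CommRing B] [IsNoetherianRing A] (e : A ≃+* B)
    (n : ℕ) (h1 : LocCoh.HasSk n A A) : LocCoh.HasSk n B B := by
  have : IsNoetherianRing B := isNoetherianRing_of_ringEquiv A e
  rw [CAlg1.hasSk_self_iff] at h1 ⊢
  intro Q _
  have h2 := h1 (Q.comap e)
  have hL : Localization.AtPrime (Q.comap e) ≃+* Localization.AtPrime Q :=
    IsLocalization.ringEquivOfRingEquiv (M := (Q.comap e).primeCompl) (T := Q.primeCompl) _ _ e (by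
      ext x
      simp [Ideal.primeCompl, Submonoid.mem_map]
      exact ⟨fun ⟨y, hy, hxy⟩ => hxy ▸ hy, fun hx => ⟨e.symm x, by simpa using hx, by simp⟩⟩)
  have : IsNoetherianRing (Localization.AtPrime (Q.comap e)) := IsLocalization.isNoetherianRing (Q.comap e).primeCompl _ inferInstance
  rw [← CAlg1.depth_eq_of_ringEquiv hL]
  refine le_trans (min_le_min le_rfl (le_of_eq ?_)) h2
  have := ringKrullDim_eq_of_ringEquiv hL
  rw [IsLocalization.AtPrime.ringKrullDim_eq_height Q (Localization.AtPrime Q), IsLocalization.AtPrime.ringKrullDim_eq_height (Q.comap e) (Localization.AtPrime (Q.comap e))] at this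
  exact (WithBot.coe_inj.mp this).symm


theorem hasSk_tensor (n : ℕ) (k S T : Type u) [Field k] [CommRing S] [CommRing T] [Algebra k S] [Algebra k T]
    [IsNoetherianRing S] [IsNoetherianRing T] [Algebra.FiniteType k S] [IsNoetherianRing (S ⊗[k] T)]
    (hS : LocCoh.HasSk n S S) (hT : LocCoh.HasSk n T T) :
    LocCoh.HasSk n (S ⊗[k] T) (S ⊗[k] T) := by
  refine CAlg1.hasSk_of_flat_of_fibres n hS fun p _ => ?_
  have : Algebra.EssFiniteType k p.ResidueField := Algebra.EssFiniteType.comp k S p.ResidueField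
  let e : T ⊗[k] p.ResidueField ≃+* p.Fiber (S ⊗[k] T) :=
    (Algebra.TensorProduct.comm k T p.ResidueField).toRingEquiv.trans
      (Algebra.TensorProduct.cancelBaseChange k S p.ResidueField p.ResidueField T).symm.toRingEquiv
  have := CAlg1.isNoetherianRing_fiber (S := S ⊗[k] T) p
  have : IsNoetherianRing (T ⊗[k] p.ResidueField) := isNoetherianRing_of_ringEquiv _ e.symm
  exact hasSk_self_ringEquiv e n (hasSk_tensor_field k T p.ResidueField (Or.inr inferInstance) n hT)

end Groth.Agent.EGA4H10
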