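import Groth.Prelude.Def_EGA4b
import Groth.Agent.GenFree62.Generic
import Mathlib

/-!
# The pieces `IⁿM / Iⁿ⁺¹M` of the associated graded module
-/

set_option autoImplicit false
universe u
open TensorProduct

set_option linter.style.haveILetI false
namespace Groth.Agent.EGA4H10

variable {A : Type u} [CommRing A]

/-- `IⁿM / I·IⁿM`, as in `EGA4.IsNormallyFlat`. -/
abbrev Piece (I : Ideal A) (M : Type u) [AddCommGroup M] [Module A M] (n : ℕ) : Type u :=
  ↥(I ^ n • (⊤ : Submodule A M)) ⧸ (I • (⊤ : Submodule A ↥(I ^ n • (⊤ : Submodule A M))))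

theorem piece_mk_eq_zero_iff {I : Ideal A} {M : Type u} [AddCommGroup M] [Module A M] {n : ℕ}
    (x : ↥(I ^ n • (⊤ : Submodule A M))) :
    (Submodule.Quotient.mk x : Piece I M n) = 0 ↔ (x : M) ∈ I ^ (n + 1) • (⊤ : Submodule A M) := by
  rw [Submodule.Quotient.mk_eq_zero, Submodule.mem_smul_top_iff, pow_succ', Submodule.mul_smul]

section Graded

/-- if the pieces are retracts modulo `I` of a finite module over a finite type algebra -/
theorem exists_finite_model_aux (I : Ideal A) (M : Type u) [AddCommGroup M] [Module A M]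
    (R : Type u) [CommRing R] [Algebra A R] [Algebra.FiniteType A R]
    (N : Type u) [AddCommGroup N] [Module R N] [Module A N] [IsScalarTower A R N] [Module.Finite R N]
    (inc : ∀ n, ↥(I ^ n • (⊤ : Submodule A M)) →ₗ[A] N)
    (prj : ∀ n, N →ₗ[A] ↥(I ^ n • (⊤ : Submodule A M)))
    (hprj : ∀ n x, prj n (inc n x) = x) :
    ∃ (B : Type u) (_ : CommRing B) (_ : Algebra (A ⧸ I) B) (_ : Algebra.FiniteType (A ⧸ I) B)
      (G : Type u) (_ : AddCommGroup G) (_ : Module (A ⧸ I) G) (_ : Module B G)
      (_ : IsScalarTower (A ⧸ I) B G) (_ : Module.Finite B G),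
      ∀ n : ℕ, ∃ (ι : Piece I M n →ₗ[A ⧸ I] G) (π : G →ₗ[A ⧸ I] Piece I M n),
        π.comp ι = LinearMap.id := by
  let J : Ideal R := I.map (algebraMap A R)
  let B := R ⧸ J
  let G := N ⧸ (J • (⊤ : Submodule R N))
  have hIB : ∀ a ∈ I, algebraMap A B a = 0 := fun a ha => by
    rw [IsScalarTower.algebraMap_apply A R B]
    exact Ideal.Quotient.eq_zero_iff_mem.mpr (Ideal.mem_map_of_mem _ ha)
  letI : Algebra (A ⧸ I) B := (Ideal.Quotient.lift I (algebraMap A B) hIB).toAlgebra
  have : IsScalarTower A (A ⧸ I) B := IsScalarTower.of_algebraMap_eq fun a => rfl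
  have : Algebra.FiniteType A B :=
    Algebra.FiniteType.of_surjective (IsScalarTower.toAlgHom A R B) Ideal.Quotient.mk_surjective
  have : Algebra.FiniteType (A ⧸ I) B :=
    Algebra.FiniteType.of_restrictScalars_finiteType A (A ⧸ I) B
  letI : Module (A ⧸ I) G := Module.compHom G (algebraMap (A ⧸ I) B)
  have : IsScalarTower (A ⧸ I) B G := IsScalarTower.of_algebraMap_smul fun _ _ => rfl
  have : IsScalarTower A (A ⧸ I) G := IsScalarTower.of_algebraMap_smul fun a g => by
    obtain ⟨g, rfl⟩ := Submodule.Quotient.mk_surjective _ g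
    show algebraMap A R a • (Submodule.Quotient.mk g : G) = a • Submodule.Quotient.mk g
    rw [algebraMap_smul]
  have : Module.Finite R G := Module.Finite.quotient R _
  have : Module.Finite B G := Module.Finite.of_restrictScalars_finite R B G
  refine ⟨B, inferInstance, inferInstance, inferInstance, G, inferInstance, inferInstance,
    inferInstance, inferInstance, inferInstance, fun n => ?_⟩
  let JN : Submodule A N := (J • (⊤ : Submodule R N)).restrictScalars A
  have hJ : JN = I • (⊤ : Submodule A N) := by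
    simp only [JN, J]
    rw [Ideal.smul_restrictScalars, Submodule.restrictScalars_top]
  have h1 : I • (⊤ : Submodule A ↥(I ^ n • (⊤ : Submodule A M))) ≤ JN.comap (inc n) := by
    rw [hJ]
    exact Submodule.smul_top_le_comap_smul_top I (inc n)
  have h2 : JN ≤ (I • (⊤ : Submodule A ↥(I ^ n • (⊤ : Submodule A M)))).comap (prj n) := by
    rw [hJ]
    exact Submodule.smul_top_le_comap_smul_top I (prj n)
  let e : (N ⧸ JN) ≃ₗ[A] G := Submodule.Quotient.restrictScalarsEquiv A (J • (⊤ : Submodule R N))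
  let ι0 : Piece I M n →ₗ[A] G := e.toLinearMap ∘ₗ Submodule.mapQ _ JN (inc n) h1
  let π0 : G →ₗ[A] Piece I M n := Submodule.mapQ JN _ (prj n) h2 ∘ₗ e.symm.toLinearMap
  refine ⟨ι0.extendScalarsOfSurjective Ideal.Quotient.mk_surjective,
    π0.extendScalarsOfSurjective Ideal.Quotient.mk_surjective, ?_⟩
  apply LinearMap.ext
  intro z
  obtain ⟨x, rfl⟩ := Submodule.Quotient.mk_surjective _ z
  show π0 (ι0 (Submodule.Quotient.mk x)) = Submodule.Quotient.mk x
  simp only [π0, ι0, LinearMap.comp_apply, LinearEquiv.coe_coe, LinearEquiv.symm_apply_apply,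
    Submodule.mapQ_apply, hprj]

/-- The pieces are simultaneously direct summands of one finite module over a finite type
`A/I`-algebra. -/
theorem exists_finite_model [IsNoetherianRing A] (I : Ideal A) (M : Type u) [AddCommGroup M]
    [Module A M] [Module.Finite A M] :
    ∃ (B : Type u) (_ : CommRing B) (_ : Algebra (A ⧸ I) B) (_ : Algebra.FiniteType (A ⧸ I) B)
      (G : Type u) (_ : AddCommGroup G) (_ : Module (A ⧸ I) G) (_ : Module B G)
      (_ : IsScalarTower (A ⧸ I) B G) (_ : Module.Finite B G),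
      ∀ n : ℕ, ∃ (ι : Piece I M n →ₗ[A ⧸ I] G) (π : G →ₗ[A ⧸ I] Piece I M n),
        π.comp ι = LinearMap.id := by
  have : Module.Finite (reesAlgebra I) (I.stableFiltration (⊤ : Submodule A M)).submodule :=
    Module.Finite.iff_fg.mpr ((Ideal.Filtration.submodule_fg_iff_stable _
      fun i => IsNoetherian.noetherian _).mpr (Ideal.stableFiltration_stable I ⊤))
  refine exists_finite_model_aux I M (reesAlgebra I) (I.stableFiltration (⊤ : Submodule A M)).submodule
    (fun n =>
      { toFun := fun x => ⟨PolynomialModule.lsingle A n (x : M), fun i => by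
          rw [PolynomialModule.lsingle_apply]
          split
          · subst i; exact x.2
          · exact zero_mem _⟩
        map_add' := fun x y => Subtype.ext (by simp)
        map_smul' := fun a x => Subtype.ext (by simp) })
    (fun n =>
      { toFun := fun f => ⟨(f : PolynomialModule A M).coeff n, f.2 n⟩
        map_add' := fun f g => Subtype.ext (by simp)
        map_smul' := fun a f => Subtype.ext rfl }) fun n x => ?_
  apply Subtype.ext
  show (PolynomialModule.lsingle A n (x : M)).coeff n = x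
  rw [PolynomialModule.lsingle_apply, if_pos rfl]

/-- one element makes all the pieces flat -/
theorem exists_flat_pieces [IsNoetherianRing A] (p : Ideal A) [p.IsPrime] (M : Type u) [AddCommGroup M]
    [Module A M] [Module.Finite A M] :
    ∃ f : A, f ∉ p ∧ ∀ (T : Type u) [CommRing T] [Algebra (A ⧸ p) T],
      IsUnit (algebraMap (A ⧸ p) T (Ideal.Quotient.mk p f)) →
        ∀ n, Module.Flat T (T ⊗[A ⧸ p] Piece p M n) := by
  obtain ⟨B, _, _, _, G, _, _, _, _, _, hG⟩ := exists_finite_model p M
  obtain ⟨fb, hfb, hfree⟩ := GenFree62.exists_freeAway (A := A ⧸ p) (B := B) (M := G)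
  obtain ⟨f, rfl⟩ := Ideal.Quotient.mk_surjective fb
  refine ⟨f, fun hf => hfb (Ideal.Quotient.eq_zero_iff_mem.mpr hf), fun T _ _ hT n => ?_⟩
  obtain ⟨ι, π, hπι⟩ := hG n
  have := hfree T hT
  refine Module.Flat.of_retract (ι.baseChange T) (π.baseChange T) ?_
  rw [← LinearMap.baseChange_comp, hπι, LinearMap.baseChange_id]

end Graded

section Localization

variable (S : Submonoid A) (I : Ideal A) {M M' : Type u} [AddCommGroup M] [Module A M]
  (A' : Type u) [CommRing A'] [Algebra A A'] [IsLocalization S A']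
  [AddCommGroup M'] [Module A M'] [Module A' M'] [IsScalarTower A A' M']
  (g : M →ₗ[A] M') [IsLocalizedModule S g]

omit [IsLocalization S A'] [IsLocalizedModule S g] in
theorem map_mem_pow_smul {n : ℕ} {x : M} (hx : x ∈ I ^ n • (⊤ : Submodule A M)) :
    g x ∈ (I.map (algebraMap A A')) ^ n • (⊤ : Submodule A' M') := by
  refine Submodule.smul_induction_on hx (fun a ha m _ => ?_) fun a b ha hb => ?_
  · rw [map_smul, ← algebraMap_smul A' a, ← Ideal.map_pow]
    exact Submodule.smul_mem_smul (Ideal.mem_map_of_mem _ ha) Submodule.mem_top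
  · rw [map_add]; exact add_mem ha hb

theorem exists_smul_eq_map {n : ℕ} {y : M'}
    (hy : y ∈ (I.map (algebraMap A A')) ^ n • (⊤ : Submodule A' M')) :
    ∃ s : S, ∃ x ∈ I ^ n • (⊤ : Submodule A M), (s : A) • y = g x := by
  refine Submodule.smul_induction_on hy (fun r hr m _ => ?_) fun a b ha hb => ?_
  · rw [← Ideal.map_pow, IsLocalization.mem_map_algebraMap_iff S] at hr
    obtain ⟨⟨⟨i, hi⟩, t⟩, ht⟩ := hr
    obtain ⟨⟨m0, s⟩, hs⟩ := IsLocalizedModule.surj S g m
    refine ⟨s * t, i • m0, Submodule.smul_mem_smul hi Submodule.mem_top, ?_⟩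
    rw [map_smul, ← hs, Submonoid.smul_def, Submonoid.coe_mul, ← algebraMap_smul A' i,
      ← algebraMap_smul A' ((s : A) * t), ← algebraMap_smul A' (s : A) m, smul_smul, smul_smul]
    congr 1
    simp only at ht
    rw [map_mul, ← ht]
    ring
  · obtain ⟨s, x, hx, h1⟩ := ha
    obtain ⟨t, y', hy', h2⟩ := hb
    refine ⟨s * t, (t : A) • x + (s : A) • y', add_mem (Submodule.smul_mem _ _ hx)
      (Submodule.smul_mem _ _ hy'), ?_⟩
    rw [map_add, map_smul, map_smul, ← h1, ← h2, Submonoid.coe_mul, smul_add, smul_smul, smul_smul,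
      mul_comm (t : A) s]

include S g in
/-- normal flatness of a localization from flatness of the pieces after inverting `S` -/
theorem isNormallyFlat_of_localization
    (h : ∀ (T : Type u) [CommRing T] [Algebra (A ⧸ I) T],
      (∀ s : S, IsUnit (algebraMap (A ⧸ I) T (Ideal.Quotient.mk I s))) →
        ∀ n, Module.Flat T (T ⊗[A ⧸ I] Piece I M n)) :
    EGA4.IsNormallyFlat (I.map (algebraMap A A')) M' := by
  intro n
  set I' := I.map (algebraMap A A') with hI'
  let T := A' ⧸ I'
  let P := Piece I M n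
  let Q := Piece I' M' n
  show Module.Flat T Q
  letI : Algebra (A ⧸ I) T := (Ideal.quotientMap I' (algebraMap A A') Ideal.le_comap_map).toAlgebra
  letI : Module (A ⧸ I) Q := Module.compHom Q (algebraMap (A ⧸ I) T)
  have : IsScalarTower (A ⧸ I) T Q := IsScalarTower.of_algebraMap_smul fun _ _ => rfl
  have hsmul : ∀ (a : A) (q : Q), Ideal.Quotient.mk I a • q = algebraMap A A' a • q := fun a q => rfl
  let g0 : P →+ Q := QuotientAddGroup.map _ _
    (AddMonoidHom.mk' (fun x : ↥(I ^ n • (⊤ : Submodule A M)) =>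
      (⟨g x, map_mem_pow_smul I A' g x.2⟩ : ↥(I' ^ n • (⊤ : Submodule A' M'))))
      fun x y => Subtype.ext (by simp)) fun x hx => by
    change x ∈ (I • (⊤ : Submodule A ↥(I ^ n • (⊤ : Submodule A M)))).toAddSubgroup at hx
    show _ ∈ (I' • (⊤ : Submodule A' ↥(I' ^ n • (⊤ : Submodule A' M')))).toAddSubgroup
    rw [Submodule.mem_toAddSubgroup] at hx ⊢
    rw [Submodule.mem_smul_top_iff, ← Submodule.mul_smul, ← pow_succ'] at hx ⊢
    exact map_mem_pow_smul I A' g hx
  let φ : P →ₗ[A ⧸ I] Q :=
    { toFun := g0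
      map_add' := map_add g0
      map_smul' := fun c z => by
        obtain ⟨a, rfl⟩ := Ideal.Quotient.mk_surjective c
        obtain ⟨x, rfl⟩ := Submodule.Quotient.mk_surjective _ z
        rw [RingHom.id_apply, hsmul]
        refine congrArg Submodule.Quotient.mk (Subtype.ext ?_)
        show g (a • (x : M)) = algebraMap A A' a • g x
        rw [map_smul, algebraMap_smul] }
  have hφ : ∀ x, φ (Submodule.Quotient.mk x) =
      Submodule.Quotient.mk ⟨g x.1, map_mem_pow_smul I A' g x.2⟩ := fun x => rfl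
  have hu : ∀ s : S, IsUnit (algebraMap (A ⧸ I) T (Ideal.Quotient.mk I s)) := fun s =>
    (IsLocalization.map_units A' s).map (Ideal.Quotient.mk I')
  have hflat : Module.Flat T (T ⊗[A ⧸ I] P) := h T hu n
  let ψ : T ⊗[A ⧸ I] P →ₗ[T] Q := φ.liftBaseChange T
  have hkey : ∀ z : T ⊗[A ⧸ I] P, ∃ (s : S) (w : P),
      algebraMap (A ⧸ I) T (Ideal.Quotient.mk I s) • z = 1 ⊗ₜ w := by
    intro z
    induction z with
    | zero => exact ⟨1, 0, by simp⟩
    | tmul t w =>
      obtain ⟨r, rfl⟩ := Ideal.Quotient.mk_surjective t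
      obtain ⟨⟨a, s⟩, hs⟩ := IsLocalization.surj S r
      refine ⟨s, Ideal.Quotient.mk I a • w, ?_⟩
      rw [tmul_smul, smul_tmul', smul_tmul', Algebra.smul_def (Ideal.Quotient.mk I a) (1 : T), mul_one,
        smul_eq_mul]
      congr 1
      show Ideal.Quotient.mk I' _ * _ = Ideal.Quotient.mk I' _
      rw [← map_mul, mul_comm, hs]
    | add a b ha hb =>
      obtain ⟨s, w, hw⟩ := ha
      obtain ⟨t, v, hv⟩ := hb
      refine ⟨s * t, Ideal.Quotient.mk I t • w + Ideal.Quotient.mk I s • v, ?_⟩
      rw [tmul_add, tmul_smul, tmul_smul, ← hw, ← hv, ← algebraMap_smul T (Ideal.Quotient.mk I (t : A)),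
        ← algebraMap_smul T (Ideal.Quotient.mk I (s : A)) (algebraMap (A ⧸ I) T _ • b), smul_smul,
        smul_smul, smul_add, Submonoid.coe_mul, map_mul, map_mul, mul_comm (algebraMap (A ⧸ I) T _)]
  have hbij : Function.Bijective ψ := by
    refine ⟨?_, ?_⟩
    · rw [injective_iff_map_eq_zero]
      intro z hz
      obtain ⟨s, w, hw⟩ := hkey z
      have hw0 : φ w = 0 := by
        have := congrArg ψ hw
        rw [map_smul, hz, smul_zero, LinearMap.liftBaseChange_tmul, one_smul] at this
        exact this.symm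
      obtain ⟨x, rfl⟩ := Submodule.Quotient.mk_surjective _ w
      rw [hφ, piece_mk_eq_zero_iff] at hw0
      obtain ⟨t, y, hy, hty⟩ := exists_smul_eq_map S I A' g hw0
      rw [← map_smul] at hty
      obtain ⟨c, hc⟩ := IsLocalizedModule.exists_of_eq (S := S) hty
      have hzero : Ideal.Quotient.mk I ((c * t : S) : A) • (Submodule.Quotient.mk x : P) = 0 := by
        show ((c * t : S) : A) • (Submodule.Quotient.mk x : P) = 0
        rw [← Submodule.Quotient.mk_smul, piece_mk_eq_zero_iff, Submodule.coe_smul, Submonoid.coe_mul,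
          mul_smul, ← Submonoid.smul_def c, hc, Submonoid.smul_def]
        exact Submodule.smul_mem _ _ hy
      have : algebraMap (A ⧸ I) T (Ideal.Quotient.mk I ((c * t : S) : A)) •
          algebraMap (A ⧸ I) T (Ideal.Quotient.mk I s) • z = 0 := by
        rw [hw, algebraMap_smul, ← tmul_smul, hzero, tmul_zero]
      rwa [(hu _).smul_eq_zero, (hu _).smul_eq_zero] at this
    · intro q
      obtain ⟨y, rfl⟩ := Submodule.Quotient.mk_surjective _ q
      obtain ⟨s, x, hx, hsx⟩ := exists_smul_eq_map S I A' g y.2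
      refine ⟨((hu s).unit⁻¹ : Tˣ) • ((1 : T) ⊗ₜ (Submodule.Quotient.mk ⟨x, hx⟩ : P)), ?_⟩
      rw [Units.smul_def, map_smul, LinearMap.liftBaseChange_tmul, one_smul, hφ,
        ← Units.smul_def, inv_smul_eq_iff, Units.smul_def, IsUnit.unit_spec]
      symm
      show Submodule.Quotient.mk (algebraMap A A' (s : A) • y) = _
      refine congrArg Submodule.Quotient.mk (Subtype.ext ?_)
      rw [Submodule.coe_smul, algebraMap_smul]
      exact hsx
  exact Module.Flat.of_linearEquiv (LinearEquiv.ofBijective ψ hbij).symm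

end Localization

end Groth.Agent.EGA4H10
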