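import Groth.Agent.Cohen12.Completion
import Groth.Agent.EGA4H10.CompleteJ2
import Mathlib

/-!
# Extending derivations to completions and to their base changes
-/

set_option autoImplicit false
set_option linter.style.haveILetI false
universe u

open IsLocalRing TensorProduct

namespace Groth.Agent.EGA4H10

theorem exists_dualHom {R T M : Type u} [CommRing R] [CommRing T] [Algebra R T] [AddCommGroup M] [Module T M]
    [Module Tᵐᵒᵖ M] [IsCentralScalar T M] [Module R M] [IsScalarTower R T M] (d : Derivation ℤ R M) :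
    ∃ h : R →+* TrivSqZeroExt T M, (∀ r, (h r).fst = algebraMap R T r) ∧ ∀ r, (h r).snd = d r := by
  refine ⟨{ toFun := fun r => TrivSqZeroExt.inl (algebraMap R T r) + TrivSqZeroExt.inr (d r)
            map_one' := by simp
            map_mul' := fun a b => TrivSqZeroExt.ext (by simp) (by
              simp [TrivSqZeroExt.snd_mul, op_smul_eq_smul, add_comm])
            map_zero' := by simp
            map_add' := fun a b => TrivSqZeroExt.ext (by simp) (by simp) }, fun r => by simp, fun r => by simp⟩

/-- the projection of a trivial square zero extension -/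
def fstRing (T M : Type u) [CommRing T] [AddCommGroup M] [Module T M] [Module Tᵐᵒᵖ M] [IsCentralScalar T M] :
    TrivSqZeroExt T M →+* T where
  toFun := TrivSqZeroExt.fst
  map_one' := rfl
  map_mul' := TrivSqZeroExt.fst_mul
  map_zero' := rfl
  map_add' := TrivSqZeroExt.fst_add

theorem fstRing_apply {T M : Type u} [CommRing T] [AddCommGroup M] [Module T M] [Module Tᵐᵒᵖ M] [IsCentralScalar T M]
    (x : TrivSqZeroExt T M) : fstRing T M x = x.fst := rfl

theorem exists_der_of_dual {T M : Type u} [CommRing T] [AddCommGroup M] [Module T M] [Module Tᵐᵒᵖ M] [IsCentralScalar T M]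
    (ψ : T →+* TrivSqZeroExt T M) (hψ : ∀ t, (ψ t).fst = t) :
    ∃ d' : T →+ M, (∀ a b, d' (a * b) = a • d' b + b • d' a) ∧ ∀ t, d' t = (ψ t).snd :=
  ⟨{ toFun := fun t => (ψ t).snd, map_zero' := by simp, map_add' := fun a b => by simp }, fun a b => by
      show (ψ (a * b)).snd = _
      rw [map_mul, TrivSqZeroExt.snd_mul, hψ, hψ, op_smul_eq_smul]
      rfl, fun _ => rfl⟩

/-- derivations into finite modules over the completion extend to the completion -/
theorem exists_derivation_cpl {R : Type u} [CommRing R] [IsNoetherianRing R] (p : Ideal R) [p.IsPrime]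
    (M : Type u) [AddCommGroup M] [Module (EGA4.Cpl (Localization.AtPrime p)) M]
    [Module.Finite (EGA4.Cpl (Localization.AtPrime p)) M]
    [Module R M] [IsScalarTower R (EGA4.Cpl (Localization.AtPrime p)) M]
    (d : Derivation ℤ R M) :
    ∃ d' : EGA4.Cpl (Localization.AtPrime p) →+ M, (∀ a b, d' (a * b) = a • d' b + b • d' a) ∧
      ∀ r : R, d' (algebraMap R (EGA4.Cpl (Localization.AtPrime p)) r) = d r := by
  let Rp := Localization.AtPrime p
  let T := EGA4.Cpl Rp
  have hN : IsNoetherianRing T := Cohen12.isNoetherianRing_completion (A := Rp)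
  have hC : IsAdicComplete (maximalIdeal T) T := Cohen12.isAdicComplete_completion (A := Rp)
  letI : Module Tᵐᵒᵖ M := Module.compHom M ((RingHom.id T).fromOpposite mul_comm)
  have : IsCentralScalar T M := ⟨fun _ _ => rfl⟩
  let E := TrivSqZeroExt T M
  have : IsLocalRing E := by
    refine IsLocalRing.of_isUnit_or_isUnit_one_sub_self fun x => ?_
    rw [TrivSqZeroExt.isUnit_iff_isUnit_fst, TrivSqZeroExt.isUnit_iff_isUnit_fst, TrivSqZeroExt.fst_sub,
      TrivSqZeroExt.fst_one]
    exact IsLocalRing.isUnit_or_isUnit_one_sub_self _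
  have : Module.Finite T E := inferInstanceAs (Module.Finite T (T × M))
  have : IsNoetherianRing E := isNoetherian_of_tower T inferInstance
  have : IsAdicComplete (maximalIdeal E) E := isAdicComplete_maximalIdeal_of_finite T E
  obtain ⟨h, hh1, hh2⟩ := exists_dualHom (T := T) d
  have hu : ∀ s : p.primeCompl, IsUnit (h s) := fun s => by
    rw [TrivSqZeroExt.isUnit_iff_isUnit_fst]
    have : (h s).fst = algebraMap R T s := hh1 s
    rw [this, IsScalarTower.algebraMap_apply R Rp T]
    exact (IsLocalization.map_units Rp s).map _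
  let h' : Rp →+* E := IsLocalization.lift hu
  have hcomp : ∀ a : Rp, (h' a).fst = algebraMap Rp T a := by
    have : (fstRing T M).comp h' = algebraMap Rp T := by
      refine IsLocalization.ringHom_ext p.primeCompl (RingHom.ext fun r => ?_)
      simp only [RingHom.comp_apply, h', IsLocalization.lift_eq, ← IsScalarTower.algebraMap_apply]
      show (h r).fst = _
      exact hh1 r
    exact fun a => RingHom.congr_fun this a
  have hm : (maximalIdeal Rp).map h' ≤ maximalIdeal E := by
    refine Ideal.map_le_iff_le_comap.2 fun a ha hua => ?_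
    rw [TrivSqZeroExt.isUnit_iff_isUnit_fst, hcomp] at hua
    have := (AdicCompletion.maximalIdeal_eq_map (R := Rp)).ge (Ideal.mem_map_of_mem (algebraMap Rp T) ha)
    exact this hua
  obtain ⟨ψ, hψ⟩ := Cohen12.exists_extension (A := Rp) h' hm
  have hfst : ∀ t : T, (ψ t).fst = t := by
    intro t
    refine IsHausdorff.eq_iff_smodEq (I := maximalIdeal T).mpr fun n => ?_
    rw [smul_eq_mul, Ideal.mul_top, SModEq.sub_mem]
    let φ : T →+* T := (fstRing T M).comp ψ
    have hφ : ∀ a, φ (algebraMap Rp T a) = algebraMap Rp T a := fun a => by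
      simp only [φ, RingHom.comp_apply, fstRing_apply]
      rw [hψ, hcomp]
    have hφm : (maximalIdeal T).map φ ≤ maximalIdeal T := by
      rw [show maximalIdeal T = _ from AdicCompletion.maximalIdeal_eq_map (R := Rp), Ideal.map_map]
      refine (le_of_eq ?_)
      congr 1
      exact RingHom.ext hφ
    obtain ⟨a, ha⟩ := Cohen12.exists_sub_mem_pow Rp n t
    have h2 : φ (t - algebraMap Rp T a) ∈ maximalIdeal T ^ n := by
      refine Ideal.pow_right_mono hφm n ?_
      rw [← Ideal.map_pow]
      exact Ideal.mem_map_of_mem φ ha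
    rw [map_sub, hφ] at h2
    rw [← fstRing_apply, ← RingHom.comp_apply]
    have h3 := sub_mem h2 ha
    rwa [sub_sub_sub_cancel_right] at h3
  obtain ⟨d', hl, hd'⟩ := exists_der_of_dual (T := T) (M := M) ψ hfst
  refine ⟨d', hl, fun r => ?_⟩
  rw [hd', IsScalarTower.algebraMap_apply R Rp T, hψ, IsLocalization.lift_eq]
  exact hh2 r

/-- derivations of an algebra whose values on `R` lie in a finite submodule extend to the base
change to a completion -/
theorem exists_derivation_tensor {R : Type u} [CommRing R] [IsNoetherianRing R] (p : Ideal R) [p.IsPrime]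
    (L : Type u) [CommRing L] [Algebra R L] (δ : Derivation ℤ L L) (N : Submodule R L) [Module.Finite R N]
    (hN : ∀ r : R, δ (algebraMap R L r) ∈ N) :
    ∃ Δ : (L ⊗[R] EGA4.Cpl (Localization.AtPrime p)) →+ (L ⊗[R] EGA4.Cpl (Localization.AtPrime p)),
      (∀ a b, Δ (a * b) = a * Δ b + b * Δ a) ∧ ∀ l : L, Δ (l ⊗ₜ 1) = δ l ⊗ₜ 1 := by
  let T := EGA4.Cpl (Localization.AtPrime p)
  let X := L ⊗[R] T
  let M := T ⊗[R] N
  let d : Derivation ℤ R M := Derivation.mk'
    (AddMonoidHom.toIntLinearMap
      { toFun := fun r => (1 : T) ⊗ₜ[R] (⟨δ (algebraMap R L r), hN r⟩ : N)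
        map_zero' := by
          rw [show (⟨δ (algebraMap R L 0), hN 0⟩ : N) = 0 from Subtype.ext (by simp), TensorProduct.tmul_zero]
        map_add' := fun a b => by rw [← TensorProduct.tmul_add]; simp })
    (fun a b => by
      simp only [AddMonoidHom.coe_toIntLinearMap, AddMonoidHom.coe_mk, ZeroHom.coe_mk]
      rw [← TensorProduct.tmul_smul, ← TensorProduct.tmul_smul, ← TensorProduct.tmul_add]
      congr 1
      ext
      simp [Algebra.smul_def])
  obtain ⟨d', hleib, hd'⟩ := exists_derivation_cpl p M d
  let ι : M →ₗ[R] X := (TensorProduct.comm R T L).toLinearMap ∘ₗ TensorProduct.map LinearMap.id N.subtype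
  have hι : ∀ (t : T) (m : M), ι (t • m) = ((1 : L) ⊗ₜ t) * ι m := by
    intro t m
    induction m using TensorProduct.induction_on with
    | zero => simp
    | tmul t' n =>
      show (n : L) ⊗ₜ[R] (t * t') = ((1 : L) ⊗ₜ t) * ((n : L) ⊗ₜ t')
      rw [Algebra.TensorProduct.tmul_mul_tmul, one_mul]
    | add a b ha hb => rw [smul_add, map_add, map_add, ha, hb, mul_add]
  let f : L →+ T →+ X :=
    { toFun := fun l =>
        { toFun := fun t => δ l ⊗ₜ t + (l ⊗ₜ 1) * ι (d' t)
          map_zero' := by simp
          map_add' := fun a b => by simp [TensorProduct.tmul_add, mul_add]; abel }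
      map_zero' := by ext t; simp
      map_add' := fun a b => by ext t; simp [TensorProduct.add_tmul, add_mul]; abel }
  have hf : ∀ (r : R) (l : L) (t : T), f (r • l) t = f l (r • t) := by
    intro r l t
    show δ (r • l) ⊗ₜ t + ((r • l) ⊗ₜ 1) * ι (d' t) = δ l ⊗ₜ (r • t) + (l ⊗ₜ 1) * ι (d' (r • t))
    rw [Algebra.smul_def r t, hleib, hd', map_add, hι, hι, ← Algebra.smul_def r t]
    have h1 : ι (d r) = δ (algebraMap R L r) ⊗ₜ[R] (1 : T) := rfl
    rw [h1, Algebra.smul_def r l, δ.leibniz, mul_add, ← mul_assoc, ← mul_assoc, Algebra.TensorProduct.tmul_mul_tmul,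
      Algebra.TensorProduct.tmul_mul_tmul, Algebra.TensorProduct.tmul_mul_tmul, mul_one, one_mul, one_mul, smul_eq_mul,
      smul_eq_mul, TensorProduct.add_tmul, mul_one]
    rw [show l ⊗ₜ[R] (algebraMap R T r) = (algebraMap R L r * l) ⊗ₜ[R] (1 : T) by
      rw [← Algebra.smul_def, TensorProduct.smul_tmul, Algebra.smul_def, mul_one],
      show δ l ⊗ₜ[R] (r • t) = (algebraMap R L r * δ l) ⊗ₜ[R] t by
      rw [← TensorProduct.smul_tmul, Algebra.smul_def]]
    abel
  let Δ0 : X →+ X := TensorProduct.liftAddHom f hf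
  have hΔ0 : ∀ l t, Δ0 (l ⊗ₜ t) = δ l ⊗ₜ t + (l ⊗ₜ 1) * ι (d' t) := fun l t => rfl
  refine ⟨Δ0, fun a b => ?_, fun l => ?_⟩
  · induction a using TensorProduct.induction_on with
    | zero => simp
    | add a a' ha ha' => simp only [add_mul, map_add, mul_add, ha, ha']; abel
    | tmul l t =>
      induction b using TensorProduct.induction_on with
      | zero => simp
      | add b b' hb hb' => simp only [mul_add, map_add, add_mul, hb, hb']; abel
      | tmul l' t' =>
        rw [Algebra.TensorProduct.tmul_mul_tmul, hΔ0, hΔ0, hΔ0, δ.leibniz, hleib, map_add, hι, hι,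
          smul_eq_mul, smul_eq_mul, TensorProduct.add_tmul, mul_add, mul_add, mul_add,
          ← mul_assoc, ← mul_assoc, ← mul_assoc, ← mul_assoc]
        simp only [Algebra.TensorProduct.tmul_mul_tmul, one_mul, mul_one]
        rw [mul_comm t t', mul_comm l' l]
        abel
  · show Δ0 (l ⊗ₜ 1) = _
    have h1 : d' 1 = 0 := by
      have h := hleib 1 1
      rw [mul_one, one_smul] at h
      exact left_eq_add.1 h
    rw [hΔ0, h1, map_zero, mul_zero, add_zero]

end Groth.Agent.EGA4H10
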