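import Groth.Agent.EGA4Alg4.CMLoc
import Mathlib

/-!
# `depth M ≤ depth M_p + dim A/p`
-/

set_option autoImplicit false
universe u
open IsLocalRing RingTheory.Sequence Module
open scoped Pointwise
open Groth.Agent.EGA4Alg4

namespace Groth.Agent.EGA4H10

variable {A : Type u} [CommRing A] [IsLocalRing A] [IsNoetherianRing A]

theorem exists_seq_in_prime (n : ℕ) : ∀ {M : Type u} [AddCommGroup M] [Module A M] [Module.Finite A M] [Nontrivial M]
    {p : PrimeSpectrum A}, p ∈ support A M → (n : ℕ∞) ≤ LocCoh.depth A M →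
    ∃ xs : List A, (∀ x ∈ xs, x ∈ p.asIdeal) ∧ IsWeaklyRegular M xs ∧
      (n : WithBot ℕ∞) ≤ (xs.length : WithBot ℕ∞) + ringKrullDim (A ⧸ p.asIdeal) := by
  induction n with
  | zero =>
    intro M _ _ _ _ p _ _
    refine ⟨[], by simp, IsWeaklyRegular.nil A _, ?_⟩
    have : Nontrivial (A ⧸ p.asIdeal) := Ideal.Quotient.nontrivial_iff.mpr p.2.ne_top
    simpa using ringKrullDim_nonneg_of_nontrivial
  | succ n ih =>
    intro M _ _ _ _ p hp hn
    by_cases hex : ∃ x ∈ p.asIdeal, IsSMulRegular M x
    · obtain ⟨x, hxp, hreg⟩ := hex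
      have hxm : x ∈ maximalIdeal A := le_maximalIdeal p.2.ne_top hxp
      have := nontrivial_quotSMulTop_of_mem_maximalIdeal M hxm
      have hp' : p ∈ support A (QuotSMulTop x M) := by
        rw [support_quotSMulTop]; exact ⟨hp, Set.singleton_subset_iff.mpr hxp⟩
      have hn' : (n : ℕ∞) ≤ LocCoh.depth A (QuotSMulTop x M) := by
        rw [← depth_quotSMulTop_add_one hxm hreg] at hn
        push_cast at hn
        exact (ENat.add_le_add_iff_right ENat.one_ne_top).mp hn
      obtain ⟨xs, hmem, hxs, hle⟩ := ih hp' hn'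
      refine ⟨x :: xs, List.forall_mem_cons.mpr ⟨hxp, hmem⟩, IsWeaklyRegular.cons hreg hxs, ?_⟩
      simp only [List.length_cons]
      push_cast
      rw [add_right_comm]
      exact add_le_add hle le_rfl
    · push Not at hex
      obtain ⟨q, hq, hle⟩ := exists_le_assoc_of_forall_not_regular _ hex
      refine ⟨[], by simp, IsWeaklyRegular.nil A _, ?_⟩
      simp only [List.length_nil, Nat.cast_zero, zero_add]
      calc ((n + 1 : ℕ) : WithBot ℕ∞) ≤ ((LocCoh.depth A M : ℕ∞) : WithBot ℕ∞) := WithBot.coe_le_coe.mpr hn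
        _ ≤ ringKrullDim (A ⧸ q) := depth_le_ringKrullDim_quotient hq
        _ ≤ _ := ringKrullDim_le_of_surjective _ (Ideal.Quotient.factor_surjective hle)

/-- `depth M ≤ depth M_p + dim A/p` -/
theorem depth_le_depth_localized_add {M : Type u} [AddCommGroup M] [Module A M] [Module.Finite A M]
    (p : Ideal A) [hp : p.IsPrime] [Nontrivial (LocalizedModule p.primeCompl M)] :
    ((LocCoh.depth A M : ℕ∞) : WithBot ℕ∞) ≤
      ((LocCoh.depth (Localization.AtPrime p) (LocalizedModule p.primeCompl M) : ℕ∞) : WithBot ℕ∞) +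
        ringKrullDim (A ⧸ p) := by
  have hsupp : (⟨p, hp⟩ : PrimeSpectrum A) ∈ support A M := Module.mem_support_iff.mpr inferInstance
  have : Nontrivial M := Module.nonempty_support_iff.mp ⟨_, hsupp⟩
  have : Module.Finite (Localization.AtPrime p) (LocalizedModule p.primeCompl M) :=
    Module.Finite.of_isLocalizedModule p.primeCompl (LocalizedModule.mkLinearMap p.primeCompl M)
  obtain ⟨n, hn⟩ := exists_depth_eq (A := A) (M := M)
  obtain ⟨xs, hmem, hreg, hle⟩ := exists_seq_in_prime n hsupp hn.ge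
  have h1 := length_le_depth (hreg.of_isLocalizedModule (Localization.AtPrime p)
      p.primeCompl (LocalizedModule.mkLinearMap p.primeCompl M)) (by
    intro r hr
    obtain ⟨s, hs, rfl⟩ := List.mem_map.mp hr
    exact (IsLocalization.AtPrime.to_map_mem_maximal_iff (Localization.AtPrime p) p s).mpr (hmem s hs))
  rw [List.length_map] at h1
  rw [hn]
  exact hle.trans (add_le_add (WithBot.coe_le_coe.mpr h1) le_rfl)

end Groth.Agent.EGA4H10
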