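import Groth.Agent.EGA4H10.NFDepth
import Groth.Agent.EGA4H10.SkLocus
import Groth.Agent.EGA4H10.Ischebeck
import Groth.Agent.EGA4H10.CMFibre
import Groth.Agent.EGA4H10.RkLocus
import Groth.Agent.EGA4H10.RegAway
import Groth.Agent.EGA4H10.GrPieces
import Groth.Agent.EGA4Alg4.Semilocal
import Groth.Agent.EGA4Alg4.DepthChange
import Groth.Agent.EGA4Alg4.IntegralDim
import Groth.Agent.LC17.LocVanish
import Mathlib

/-!
# Depth, dimension and codepth near a prime
-/

set_option autoImplicit false
set_option linter.unusedSectionVars false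
universe u
open IsLocalRing Module RingTheory.Sequence
open scoped Pointwise
open Groth.Agent.EGA4Alg4

namespace Groth.Agent.EGA4H10.Codepth

variable {A : Type u} [CommRing A]

/-- depth at a prime -/
noncomputable abbrev Dep (M : Type u) [AddCommGroup M] [Module A M] (p : Ideal A) [p.IsPrime] : ℕ∞ :=
  LocCoh.depth (Localization.AtPrime p) (LocalizedModule p.primeCompl M)

/-- dimension at a prime -/
noncomputable abbrev Dim (M : Type u) [AddCommGroup M] [Module A M] (p : Ideal A) [p.IsPrime] : WithBot ℕ∞ :=
  supportDim (Localization.AtPrime p) (LocalizedModule p.primeCompl M)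

/-- codepth at most `n` -/
def CodepthLE (M : Type u) [AddCommGroup M] [Module A M] (n : ℕ) (p : Ideal A) [p.IsPrime] : Prop :=
  Dim M p ≤ ((Dep M p : ℕ∞) : WithBot ℕ∞) + n

variable [IsNoetherianRing A] {M : Type u} [AddCommGroup M] [Module A M] [Module.Finite A M]

theorem exists_vals (p : Ideal A) [p.IsPrime] [Nontrivial (LocalizedModule p.primeCompl M)] :
    ∃ a b : ℕ, Dim M p = a ∧ Dep M p = b ∧ b ≤ a := by
  have : Module.Finite (Localization.AtPrime p) (LocalizedModule p.primeCompl M) :=
    Module.Finite.of_isLocalizedModule p.primeCompl (LocalizedModule.mkLinearMap p.primeCompl M)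
  obtain ⟨a, ha⟩ := exists_supportDim_eq (A := Localization.AtPrime p) (M := LocalizedModule p.primeCompl M)
  obtain ⟨b, hb⟩ := exists_depth_eq (A := Localization.AtPrime p) (M := LocalizedModule p.primeCompl M)
  refine ⟨a, b, ha, hb, ?_⟩
  have h := depth_le_supportDim (A := Localization.AtPrime p) (M := LocalizedModule p.primeCompl M)
  rw [ha, hb] at h
  exact_mod_cast h

theorem codepthLE_iff {n : ℕ} {p : Ideal A} [p.IsPrime] {a b : ℕ} (ha : Dim M p = a) (hb : Dep M p = b) :
    CodepthLE M n p ↔ a ≤ b + n := by
  rw [CodepthLE, ha, hb]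
  exact ⟨fun h => by exact_mod_cast h, fun h => by exact_mod_cast h⟩

theorem codepthLE_of_subsingleton {n : ℕ} {p : Ideal A} [p.IsPrime]
    [Subsingleton (LocalizedModule p.primeCompl M)] : CodepthLE M n p := by
  rw [CodepthLE, Dim, supportDim_eq_bot_of_subsingleton]
  exact bot_le

/-- `(A/p)` at `q` -/
theorem exists_quotient_equiv (p : Ideal A) [p.IsPrime] (q : Ideal (A ⧸ p)) [q.IsPrime] :
    Nonempty ((Localization.AtPrime (q.comap (Ideal.Quotient.mk p)) ⧸
        p.map (algebraMap A (Localization.AtPrime (q.comap (Ideal.Quotient.mk p))))) ≃+*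
      Localization.AtPrime q) := by
  obtain ⟨e⟩ := exists_quotLoc_equiv (Ideal.Quotient.mk p) Ideal.Quotient.mk_surjective q ⊥
  rw [← RingHom.ker_eq_comap_bot, Ideal.mk_ker] at e
  exact ⟨e.trans ((Ideal.quotEquivOfEq Ideal.map_bot).trans (RingEquiv.quotientBot _))⟩

/-- localization commutes with the quotient by a list of elements -/
theorem exists_quotList_equiv (S : Submonoid A) (xs : List A) :
    Nonempty (LocalizedModule S (M ⧸ (Ideal.ofList xs • (⊤ : Submodule A M))) ≃ₗ[Localization S]
      LocalizedModule S M ⧸ (Ideal.ofList (xs.map (algebraMap A (Localization S))) •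
        (⊤ : Submodule (Localization S) (LocalizedModule S M)))) := by
  refine ⟨(localizedQuotientEquiv S _).symm.trans (Submodule.quotEquivOfEq _ _ ?_)⟩
  rw [← Ideal.map_ofList]
  set J := Ideal.ofList xs
  let g := LocalizedModule.mkLinearMap S M
  apply le_antisymm
  · rintro z ⟨m, hm, s, rfl⟩
    have h1 : g m ∈ J.map (algebraMap A (Localization S)) • (⊤ : Submodule (Localization S) (LocalizedModule S M)) := by
      have := map_mem_pow_smul (n := 1) J (Localization S) g (by rwa [pow_one])
      rwa [pow_one] at this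
    obtain ⟨u, hu⟩ := IsLocalization.map_units (Localization S) s
    have : IsLocalizedModule.mk' g m s = (↑u⁻¹ : Localization S) • g m := by
      rw [← Units.smul_def, eq_inv_smul_iff, Units.smul_def, hu, algebraMap_smul, ← Submonoid.smul_def,
        IsLocalizedModule.mk'_cancel']
    rw [this]
    exact Submodule.smul_mem _ _ h1
  · intro z hz
    obtain ⟨s, x, hx, hsx⟩ := exists_smul_eq_map S J (Localization S) g (n := 1) (by rwa [pow_one])
    rw [pow_one] at hx
    refine ⟨x, hx, s, ?_⟩
    rw [IsLocalizedModule.mk'_eq_iff]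
    exact hsx.symm

theorem support_localized {p q : Ideal A} [p.IsPrime] [q.IsPrime] (hpq : p ≤ q)
    [Nontrivial (LocalizedModule p.primeCompl M)] : Nontrivial (LocalizedModule q.primeCompl M) :=
  Module.mem_support_iff.mp (Module.mem_support_mono (p := ⟨p, inferInstance⟩) (q := ⟨q, inferInstance⟩) hpq
    (Module.mem_support_iff.mpr inferInstance))

/-- invariants at a generalization, computed in the local ring -/
theorem loc_invariants (M : Type u) [AddCommGroup M] [Module A M] [Module.Finite A M]
    {p q : Ideal A} [p.IsPrime] [q.IsPrime] (hpq : p ≤ q) (P : Ideal (Localization.AtPrime q)) [P.IsPrime]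
    (hP : P.comap (algebraMap A (Localization.AtPrime q)) = p) :
    LocCoh.depth (Localization.AtPrime P) (LocalizedModule P.primeCompl (LocalizedModule q.primeCompl M)) =
        Dep M p ∧
      supportDim (Localization.AtPrime P) (LocalizedModule P.primeCompl (LocalizedModule q.primeCompl M)) =
        Dim M p := by
  subst hP
  exact locLoc_invariants M q.primeCompl P

/-- `dim M_p + dim (A/p)_q ≤ dim M_q` and `depth M_q ≤ depth M_p + dim (A/p)_q` -/
theorem generalization_bounds {p q : Ideal A} [p.IsPrime] [q.IsPrime] (hpq : p ≤ q)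
    [Nontrivial (LocalizedModule p.primeCompl M)] :
    Dim M p + ringKrullDim (Localization.AtPrime q ⧸ p.map (algebraMap A (Localization.AtPrime q))) ≤ Dim M q ∧
    ((Dep M q : ℕ∞) : WithBot ℕ∞) ≤ ((Dep M p : ℕ∞) : WithBot ℕ∞) +
      ringKrullDim (Localization.AtPrime q ⧸ p.map (algebraMap A (Localization.AtPrime q))) := by
  let R := Localization.AtPrime q
  let P := p.map (algebraMap A R)
  have : P.IsPrime := Ideal.isPrime_map_of_isLocalizationAtPrime q hpq
  have hP : P.comap (algebraMap A R) = p :=
    IsLocalization.under_map_of_isPrime_disjoint q.primeCompl R ‹p.IsPrime›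
      (Set.disjoint_left.mpr fun x hx hxp => hx (hpq hxp))
  have : Module.Finite R (LocalizedModule q.primeCompl M) :=
    Module.Finite.of_isLocalizedModule q.primeCompl (LocalizedModule.mkLinearMap q.primeCompl M)
  obtain ⟨h1, h2⟩ := loc_invariants M hpq P hP
  have : Nontrivial (LocalizedModule P.primeCompl (LocalizedModule q.primeCompl M)) := by
    by_contra hc
    rw [not_nontrivial_iff_subsingleton] at hc
    rw [supportDim_eq_bot_of_subsingleton] at h2
    exact Module.supportDim_ne_bot_of_nontrivial (Localization.AtPrime p) (LocalizedModule p.primeCompl M) h2.symm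
  refine ⟨?_, ?_⟩
  · have h3 := supportDim_localizedModule_add_le (LocalizedModule q.primeCompl M) P
    rw [supportDim_quotient_prime (p := ⟨P, inferInstance⟩) (Module.mem_support_iff.mpr inferInstance)] at h3
    exact h2 ▸ h3
  · have h3 := depth_le_depth_localized_add (A := R) (M := LocalizedModule q.primeCompl M) P
    rwa [h1] at h3

/-- the codepth does not drop under specialization -/
theorem codepthLE_of_le {n : ℕ} {p q : Ideal A} [p.IsPrime] [q.IsPrime] (hpq : p ≤ q)
    (h : CodepthLE M n q) : CodepthLE M n p := by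
  rcases subsingleton_or_nontrivial (LocalizedModule p.primeCompl M) with hM | hM
  · exact codepthLE_of_subsingleton
  have := support_localized (M := M) hpq
  obtain ⟨a, b, ha, hb, hba⟩ := exists_vals (M := M) p
  obtain ⟨c, d, hc, hd, hdc⟩ := exists_vals (M := M) q
  rw [codepthLE_iff hc hd] at h
  rw [codepthLE_iff ha hb]
  obtain ⟨h1, h2⟩ := generalization_bounds (M := M) hpq
  have : Nontrivial (Localization.AtPrime q ⧸ p.map (algebraMap A (Localization.AtPrime q))) :=
    Ideal.Quotient.nontrivial_iff.mpr (Ideal.isPrime_map_of_isLocalizationAtPrime q hpq).ne_top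
  obtain ⟨k, hk⟩ := exists_supportDim_eq (A := Localization.AtPrime q)
    (M := Localization.AtPrime q ⧸ p.map (algebraMap A (Localization.AtPrime q)))
  rw [Module.supportDim_quotient_eq_ringKrullDim] at hk
  rw [ha, hc, hk] at h1
  rw [hd, hb, hk] at h2
  have h1' : a + k ≤ c := by exact_mod_cast h1
  have h2' : d ≤ b + k := by exact_mod_cast h2
  omega

/-- a regular sequence of maximal length at `p`, regular at the nearby primes -/
theorem exists_regular_seq (p : Ideal A) [p.IsPrime] : ∀ (d : ℕ) (M : Type u) [AddCommGroup M] [Module A M]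
    [Module.Finite A M], Dep M p = d →
    ∃ (f : A) (xs : List A), f ∉ p ∧ xs.length = d ∧ (∀ x ∈ xs, x ∈ p) ∧
      p ∈ associatedPrimes A (M ⧸ (Ideal.ofList xs • (⊤ : Submodule A M))) ∧
      ∀ (q : Ideal A) [q.IsPrime], f ∉ q →
        IsWeaklyRegular (LocalizedModule q.primeCompl M) (xs.map (algebraMap A (Localization.AtPrime q))) := by
  classical
  intro d
  induction d with
  | zero =>
    intro M _ _ _ hd
    have : Module.Finite (Localization.AtPrime p) (LocalizedModule p.primeCompl M) :=
      Module.Finite.of_isLocalizedModule p.primeCompl (LocalizedModule.mkLinearMap p.primeCompl M)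
    rw [Dep, Nat.cast_zero, depth_eq_zero_iff] at hd
    have hp := Module.associatedPrimes.comap_mem_associatedPrimes_of_mem_associatedPrimes_of_isLocalizedModule_of_fg
      p.primeCompl (LocalizedModule.mkLinearMap p.primeCompl M) _ hd (IsNoetherian.noetherian _)
    rw [← Ideal.under_def, IsLocalization.AtPrime.under_maximalIdeal (Localization.AtPrime p) p] at hp
    refine ⟨1, [], (Ideal.ne_top_iff_one p).mp (Ideal.IsPrime.ne_top inferInstance), rfl, by simp, ?_,
      fun q _ _ => IsWeaklyRegular.nil _ _⟩
    exact IsAssociatedPrime.map_of_injective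
      (Submodule.quotEquivOfEqBot _ (by simp)).symm.toLinearMap hp (LinearEquiv.injective _)
  | succ d ih =>
    intro M _ _ _ hd
    let F := (associatedPrimes.finite A M).toFinset
    have hnp : p ∉ associatedPrimes A M := fun hp => by
      have h0 := Module.associatedPrimes.mem_associatedPrimes_atPrime_of_mem_associatedPrimes hp
      have : Module.Finite (Localization.AtPrime p) (LocalizedModule p.primeCompl M) :=
        Module.Finite.of_isLocalizedModule p.primeCompl (LocalizedModule.mkLinearMap p.primeCompl M)
      rw [← depth_eq_zero_iff] at h0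
      rw [Dep, h0] at hd
      exact (Nat.succ_ne_zero d) (by exact_mod_cast hd.symm)
    let F1 := F.filter (fun Q => Q ≤ p)
    let F2 := F.filter (fun Q => ¬ Q ≤ p)
    have hnsub : ¬ ((p : Set A) ⊆ ⋃ Q ∈ (F1 : Set (Ideal A)), (Q : Set A)) := by
      intro h
      rw [Ideal.subset_union_prime ⊥ ⊥ fun Q hQ _ _ => by
        have := (associatedPrimes.finite A M).mem_toFinset.mp (Finset.mem_filter.mp hQ).1
        exact this.isPrime] at h
      obtain ⟨Q, hQ, hpQ⟩ := h
      obtain ⟨hQF, hQp⟩ := Finset.mem_filter.mp hQ
      exact hnp (le_antisymm hpQ hQp ▸ (associatedPrimes.finite A M).mem_toFinset.mp hQF)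
    obtain ⟨x, hxp, hx⟩ := Set.not_subset.mp hnsub
    have hF2 : ∀ Q ∈ F2, ∃ c ∈ Q, c ∉ p := fun Q hQ => SetLike.not_le_iff_exists.mp (Finset.mem_filter.mp hQ).2
    choose c hc1 hc2 using hF2
    let f1 := ∏ Q ∈ F2.attach, c Q.1 Q.2
    have hf1 : f1 ∉ p := fun hmem => by
      obtain ⟨Q, -, hQ⟩ := (‹p.IsPrime›.prod_mem_iff).mp hmem
      exact hc2 _ _ hQ
    have hreg : ∀ (q : Ideal A) [q.IsPrime], f1 ∉ q →
        IsSMulRegular (LocalizedModule q.primeCompl M) (algebraMap A (Localization.AtPrime q) x) := by
      intro q _ hfq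
      have : IsNoetherianRing (Localization.AtPrime q) := IsLocalization.isNoetherianRing q.primeCompl _ inferInstance
      by_contra hc
      have hmem : algebraMap A (Localization.AtPrime q) x ∈
          ⋃ Q ∈ associatedPrimes (Localization.AtPrime q) (LocalizedModule q.primeCompl M), (Q : Set _) := by
        rw [biUnion_associatedPrimes_eq_compl_regular]
        exact hc
      obtain ⟨Q, hQ, hxQ⟩ := Set.mem_iUnion₂.mp hmem
      have hQ' := Module.associatedPrimes.comap_mem_associatedPrimes_of_mem_associatedPrimes_of_isLocalizedModule_of_fg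
        q.primeCompl (LocalizedModule.mkLinearMap q.primeCompl M) Q hQ (IsNoetherian.noetherian _)
      have hQq : Q.comap (algebraMap A (Localization.AtPrime q)) ≤ q := fun a ha =>
        (IsLocalization.AtPrime.to_map_mem_maximal_iff (Localization.AtPrime q) q a).mp
          (IsLocalRing.le_maximalIdeal hQ.isPrime.ne_top ha)
      by_cases hle : Q.comap (algebraMap A (Localization.AtPrime q)) ≤ p
      · exact hx (Set.mem_biUnion (Finset.mem_coe.mpr (Finset.mem_filter.mpr
          ⟨(associatedPrimes.finite A M).mem_toFinset.mpr hQ', hle⟩)) hxQ)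
      · have hin : Q.comap (algebraMap A (Localization.AtPrime q)) ∈ F2 := Finset.mem_filter.mpr
          ⟨(associatedPrimes.finite A M).mem_toFinset.mpr hQ', hle⟩
        exact hfq (Ideal.mem_of_dvd q
          (Finset.dvd_prod_of_mem (fun Q : F2 => c Q.1 Q.2) (Finset.mem_attach F2 ⟨_, hin⟩)) (hQq (hc1 _ hin)))
    have : IsNoetherianRing (Localization.AtPrime p) := IsLocalization.isNoetherianRing p.primeCompl _ inferInstance
    have : Module.Finite (Localization.AtPrime p) (LocalizedModule p.primeCompl M) :=
      Module.Finite.of_isLocalizedModule p.primeCompl (LocalizedModule.mkLinearMap p.primeCompl M)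
    have hd' : Dep (QuotSMulTop x M) p = d := by
      have h1 := depth_quotSMulTop_add_one (M := LocalizedModule p.primeCompl M)
        ((IsLocalization.AtPrime.to_map_mem_maximal_iff (Localization.AtPrime p) p x).mpr hxp) (hreg p hf1)
      rw [← depth_eq_of_equiv (LC17.quotLocEquiv p.primeCompl x), show LocCoh.depth _ (LocalizedModule p.primeCompl M) =
        ((d + 1 : ℕ) : ℕ∞) from hd, Nat.cast_add, Nat.cast_one] at h1
      exact WithTop.add_right_cancel (ENat.natCast_ne_top 1) h1
    obtain ⟨f, xs, hf, hlen, hxs, hass, hxr⟩ := ih (QuotSMulTop x M) hd'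
    refine ⟨f1 * f, x :: xs, fun h => (‹p.IsPrime›.mem_or_mem h).elim hf1 hf, by simp [hlen],
      List.forall_mem_cons.mpr ⟨hxp, hxs⟩, ?_, fun q _ hq => ?_⟩
    · exact IsAssociatedPrime.map_of_injective
        (Submodule.quotOfListConsSMulTopEquivQuotSMulTopInner M x xs).symm.toLinearMap hass
        (LinearEquiv.injective _)
    · rw [List.map_cons]
      refine IsWeaklyRegular.cons (hreg q fun h => hq (Ideal.mul_mem_right _ _ h)) ?_
      exact ((LC17.quotLocEquiv q.primeCompl x).isWeaklyRegular_congr _).mp
        (hxr q fun h => hq (Ideal.mul_mem_left _ _ h))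

/-- depth in a local ring from a regular sequence in `P` and an exact sequence -/
theorem depth_eq_of_data {R : Type u} [CommRing R] [IsLocalRing R] [IsNoetherianRing R] (P : Ideal R) (hP : P ≠ ⊤)
    (N : Type u) [AddCommGroup N] [Module R N] [Module.Finite R N] (xs : List R)
    (hxs : ∀ x ∈ xs, x ∈ maximalIdeal R) (hreg : IsWeaklyRegular N xs)
    (C : Type u) [AddCommGroup C] [Module R C] [Module.Finite R C] (hC : EGA4.IsNormallyFlat P C)
    (ι : (R ⧸ P) →ₗ[R] N ⧸ (Ideal.ofList xs • (⊤ : Submodule R N)))
    (π : (N ⧸ (Ideal.ofList xs • (⊤ : Submodule R N))) →ₗ[R] C)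
    (hι : Function.Injective ι) (hex : Function.Exact ι π) (hπ : Function.Surjective π) :
    LocCoh.depth R N = LocCoh.depth R (R ⧸ P) + xs.length := by
  rw [← depth_quotient_add_length hreg hxs]
  congr 1
  have : Nontrivial (R ⧸ P) := Ideal.Quotient.nontrivial_iff.mpr hP
  obtain ⟨r, hr⟩ := exists_depth_eq (A := R) (M := R ⧸ P)
  obtain ⟨ys, hlen, hys, hyreg⟩ := (natCast_le_depth_iff (A := R) (M := R ⧸ P) r).mp hr.ge
  have hdQ : LocCoh.depth R ((R ⧸ P) ⧸ (Ideal.ofList ys • (⊤ : Submodule R (R ⧸ P)))) = 0 := by
    have h1 := depth_quotient_add_length hyreg hys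
    rw [hr, hlen] at h1
    exact WithTop.add_right_cancel (ENat.natCast_ne_top r) (h1.trans (zero_add _).symm)
  obtain ⟨h1, h2⟩ := isWeaklyRegular_of_exact ys ι π hι hex hπ hyreg (isWeaklyRegular_of_isNormallyFlat hP hC hyreg)
  have : Nontrivial (N ⧸ (Ideal.ofList xs • (⊤ : Submodule R N))) := hι.nontrivial
  rw [depth_eq_length_of_pure hys h1 ι h2 hdQ, hr, hlen]

/-- EGA IV 6.10.6: near `p`, dimension and depth are additive over `A/p` -/
theorem exists_invariants_add (M : Type u) [AddCommGroup M] [Module A M] [Module.Finite A M] (p : Ideal A) [p.IsPrime] :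
    ∃ f : A, f ∉ p ∧ ∀ (q : Ideal A) [q.IsPrime], p ≤ q → f ∉ q →
      (Subsingleton (LocalizedModule q.primeCompl M) ∧ Subsingleton (LocalizedModule p.primeCompl M)) ∨
      (Nontrivial (LocalizedModule p.primeCompl M) ∧
        Dim M q = Dim M p + ringKrullDim (Localization.AtPrime q ⧸ p.map (algebraMap A (Localization.AtPrime q))) ∧
        Dep M q = Dep M p + LocCoh.depth (Localization.AtPrime q)
          (Localization.AtPrime q ⧸ p.map (algebraMap A (Localization.AtPrime q)))) := by
  classical
  rcases subsingleton_or_nontrivial (LocalizedModule p.primeCompl M) with hM | hM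
  · have hns : (⟨p, inferInstance⟩ : PrimeSpectrum A) ∉ Module.support A M := by
      rw [Module.mem_support_iff, not_nontrivial_iff_subsingleton]; exact hM
    rw [Module.mem_support_iff_of_finite] at hns
    obtain ⟨f, hf, hfp⟩ := SetLike.not_le_iff_exists.mp hns
    refine ⟨f, hfp, fun q _ _ hfq => Or.inl ⟨?_, hM⟩⟩
    rw [← not_nontrivial_iff_subsingleton, ← Module.mem_support_iff (p := ⟨q, inferInstance⟩),
      Module.mem_support_iff_of_finite]
    exact fun h => hfq (h hf)
  obtain ⟨a, b, ha, hb, -⟩ := exists_vals (M := M) p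
  have : IsNoetherianRing (Localization.AtPrime p) := IsLocalization.isNoetherianRing p.primeCompl _ inferInstance
  have : Module.Finite (Localization.AtPrime p) (LocalizedModule p.primeCompl M) :=
    Module.Finite.of_isLocalizedModule p.primeCompl (LocalizedModule.mkLinearMap p.primeCompl M)
  -- parameters of `M_p` taken in `A`
  obtain ⟨ys, hyl, hys, hyfin⟩ := Semilocal.exists_parameters (A := Localization.AtPrime p)
    (M := LocalizedModule p.primeCompl M) a ha
  rw [IsLocalRing.ringJacobson_eq_maximalIdeal] at hys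
  choose num hnum using fun y : Localization.AtPrime p => IsLocalization.surj p.primeCompl y
  let zs := ys.map fun y => (num y).1
  have hzs : ∀ z ∈ zs, z ∈ p := by
    intro z hz
    obtain ⟨y, hy, rfl⟩ := List.mem_map.mp hz
    rw [← IsLocalization.AtPrime.to_map_mem_maximal_iff (Localization.AtPrime p) p, ← hnum]
    exact Ideal.mul_mem_right _ _ (hys y hy)
  let Mz := M ⧸ (Ideal.ofList zs • (⊤ : Submodule A M))
  have hzle : Ideal.ofList ys ≤ Ideal.ofList (zs.map (algebraMap A (Localization.AtPrime p))) := by
    refine Ideal.span_le.mpr fun y hy => ?_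
    have h1 : algebraMap A (Localization.AtPrime p) (num y).1 ∈
        Ideal.ofList (zs.map (algebraMap A (Localization.AtPrime p))) :=
      Ideal.subset_span (List.mem_map.mpr ⟨_, List.mem_map.mpr ⟨y, hy, rfl⟩, rfl⟩)
    rw [← hnum] at h1
    exact (Ideal.mul_unit_mem_iff_mem _ (IsLocalization.map_units _ (num y).2)).mp h1
  obtain ⟨ez⟩ := exists_quotList_equiv (M := M) p.primeCompl zs
  have hfinz : IsFiniteLength (Localization.AtPrime p) (LocalizedModule p.primeCompl Mz) :=
    ez.symm.isFiniteLength (IsFiniteLength.of_surjective hyfin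
      (f := Submodule.factor (Submodule.smul_mono_left hzle)) (Submodule.factor_surjective _))
  let Fz := (Module.annihilator A Mz).finite_minimalPrimes_of_isNoetherianRing.toFinset.filter fun Q => ¬ Q ≤ p
  have hFz : ∀ Q ∈ Fz, ∃ c ∈ Q, c ∉ p := fun Q hQ => SetLike.not_le_iff_exists.mp (Finset.mem_filter.mp hQ).2
  choose c hc1 hc2 using hFz
  let f1 := ∏ Q ∈ Fz.attach, c Q.1 Q.2
  have hf1 : f1 ∉ p := fun hmem => by
    obtain ⟨Q, -, hQ⟩ := (‹p.IsPrime›.prod_mem_iff).mp hmem
    exact hc2 _ _ hQ
  -- regular sequence and cokernel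
  obtain ⟨f2, xs, hf2, hxl, hxs, hass, hxr⟩ := exists_regular_seq p b M hb
  let M' := M ⧸ (Ideal.ofList xs • (⊤ : Submodule A M))
  obtain ⟨-, m0, hm0⟩ := isAssociatedPrime_iff.mp hass
  let C := M' ⧸ Submodule.span A {m0}
  obtain ⟨f3, hf3, hflat⟩ := exists_flat_pieces p C
  refine ⟨f1 * f2 * f3, fun h => (‹p.IsPrime›.mem_or_mem h).elim
    (fun h => (‹p.IsPrime›.mem_or_mem h).elim hf1 hf2) hf3, fun q _ hpq hfq => Or.inr ⟨hM, ?_⟩⟩
  have hq1 : f1 ∉ q := fun h => hfq (Ideal.mul_mem_right _ _ (Ideal.mul_mem_right _ _ h))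
  have hq2 : f2 ∉ q := fun h => hfq (Ideal.mul_mem_right _ _ (Ideal.mul_mem_left _ _ h))
  have hq3 : f3 ∉ q := fun h => hfq (Ideal.mul_mem_left _ _ h)
  let R := Localization.AtPrime q
  let P := p.map (algebraMap A R)
  have : P.IsPrime := Ideal.isPrime_map_of_isLocalizationAtPrime q hpq
  have hP : P.comap (algebraMap A R) = p :=
    IsLocalization.under_map_of_isPrime_disjoint q.primeCompl R ‹p.IsPrime›
      (Set.disjoint_left.mpr fun x hx hxp => hx (hpq hxp))
  let N := LocalizedModule q.primeCompl M
  have : IsNoetherianRing R := IsLocalization.isNoetherianRing q.primeCompl _ inferInstance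
  have : Module.Finite R N :=
    Module.Finite.of_isLocalizedModule q.primeCompl (LocalizedModule.mkLinearMap q.primeCompl M)
  have := support_localized (M := M) hpq
  refine ⟨le_antisymm ?_ (generalization_bounds (M := M) hpq).1, ?_⟩
  · -- dimension
    have hmem : ∀ z ∈ zs.map (algebraMap A R), z ∈ maximalIdeal R := by
      intro z hz
      obtain ⟨z, hz', rfl⟩ := List.mem_map.mp hz
      exact (IsLocalization.AtPrime.to_map_mem_maximal_iff R q z).mpr (hpq (hzs z hz'))
    refine (supportDim_le_quotient_add_length hmem).trans ?_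
    rw [List.length_map, List.length_map, hyl, ha, add_comm]
    refine add_le_add le_rfl ?_
    obtain ⟨eq'⟩ := exists_quotList_equiv (M := M) q.primeCompl zs
    rw [← supportDim_eq_of_equiv eq', ← Module.supportDim_quotient_eq_ringKrullDim]
    have : Module.Finite R (LocalizedModule q.primeCompl Mz) :=
      Module.Finite.of_isLocalizedModule q.primeCompl (LocalizedModule.mkLinearMap q.primeCompl Mz)
    -- every point of the support contains `P`
    refine Order.krullDim_le_of_strictMono (fun x => ⟨x.1, ?_⟩) (fun _ _ h => h)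
    rw [Module.support_eq_zeroLocus, Ideal.annihilator_quotient, PrimeSpectrum.mem_zeroLocus, SetLike.coe_subset_coe]
    obtain ⟨X, hX⟩ := x
    show p.map (algebraMap A R) ≤ X.asIdeal
    rw [Ideal.map_le_iff_le_comap]
    have hX' : (⟨X.asIdeal.comap (algebraMap A R), inferInstance⟩ : PrimeSpectrum A) ∈ Module.support A Mz := by
      rw [Module.mem_support_iff_of_finite] at hX ⊢
      intro t ht
      refine hX (Module.mem_annihilator.mpr fun w => ?_)
      obtain ⟨⟨m, s⟩, rfl⟩ := IsLocalizedModule.mk'_surjective q.primeCompl (LocalizedModule.mkLinearMap q.primeCompl Mz) w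
      rw [Function.uncurry_apply_pair, algebraMap_smul, ← IsLocalizedModule.mk'_smul, Module.mem_annihilator.mp ht m,
        IsLocalizedModule.mk'_zero]
    rw [Module.mem_support_iff_of_finite] at hX'
    obtain ⟨Q, hQ, hQX⟩ := Ideal.exists_minimalPrimes_le (J := X.asIdeal.comap (algebraMap A R)) hX'
    have hXq : X.asIdeal.comap (algebraMap A R) ≤ q := fun t ht =>
      (IsLocalization.AtPrime.to_map_mem_maximal_iff R q t).mp (IsLocalRing.le_maximalIdeal X.2.ne_top ht)
    by_cases hQp : Q ≤ p
    swap
    · have hin : Q ∈ Fz := Finset.mem_filter.mpr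
        ⟨(Module.annihilator A Mz).finite_minimalPrimes_of_isNoetherianRing.mem_toFinset.mpr hQ, hQp⟩
      exact absurd (Ideal.mem_of_dvd q
        (Finset.dvd_prod_of_mem (fun Q : Fz => c Q.1 Q.2) (Finset.mem_attach Fz ⟨_, hin⟩))
        (hXq (hQX (hc1 _ hin)))) hq1
    -- the only prime of the support below `p` is `p`
    have hQprime := hQ.isPrime
    have hQs : (⟨Q, hQprime⟩ : PrimeSpectrum A) ∈ Module.support A Mz := by
      rw [Module.mem_support_iff_of_finite]; exact hQ.1.2
    have hpQ : Q = p := by
      have hQmax : (Q.map (algebraMap A (Localization.AtPrime p))).IsMaximal := by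
        have hPr : (Q.map (algebraMap A (Localization.AtPrime p))).IsPrime :=
          Ideal.isPrime_map_of_isLocalizationAtPrime p hQp
        have : Module.Finite (Localization.AtPrime p) (LocalizedModule p.primeCompl Mz) :=
          Module.Finite.of_isLocalizedModule p.primeCompl (LocalizedModule.mkLinearMap p.primeCompl Mz)
        have hs : (⟨_, hPr⟩ : PrimeSpectrum (Localization.AtPrime p)) ∈
            Module.support (Localization.AtPrime p) (LocalizedModule p.primeCompl Mz) := by
          have hh : (Q.map (algebraMap A (Localization.AtPrime p))).comap (algebraMap A (Localization.AtPrime p)) = Q :=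
            IsLocalization.under_map_of_isPrime_disjoint p.primeCompl _ hQprime
              (Set.disjoint_left.mpr fun x hx hxp => hx (hQp hxp))
          rw [Module.mem_support_iff_of_finite]
          intro t ht
          obtain ⟨t0, s, rfl⟩ := IsLocalization.exists_mk'_eq p.primeCompl t
          rw [IsLocalization.mk'_mem_iff]
          refine Ideal.mem_map_of_mem _ ?_
          by_contra hcon
          obtain ⟨m, hm⟩ := Module.mem_support_iff'.mp hQs
          have h1 := Module.mem_annihilator.mp ht (IsLocalizedModule.mk' (LocalizedModule.mkLinearMap p.primeCompl Mz) m (1 : p.primeCompl))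
          rw [IsLocalizedModule.mk'_smul_mk', IsLocalizedModule.mk'_eq_zero'] at h1
          obtain ⟨v, hv⟩ := h1
          rw [Submonoid.smul_def, smul_smul] at hv
          exact hm ((v : A) * t0) (fun hmem => (hQprime.mem_or_mem hmem).elim (fun hvQ => v.2 (hQp hvQ)) hcon) hv
        have hdim := Semilocal.supportDim_nonpos_of_isFiniteLength hfinz
        rw [Module.supportDim, Order.krullDim_nonpos_iff_forall_isMax] at hdim
        have hle := IsLocalRing.le_maximalIdeal hPr.ne_top
        have hmx : (IsLocalRing.closedPoint (Localization.AtPrime p)) ∈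
            Module.support (Localization.AtPrime p) (LocalizedModule p.primeCompl Mz) :=
          Module.mem_support_mono (p := ⟨_, hPr⟩) hle hs
        have heq : maximalIdeal (Localization.AtPrime p) ≤ Q.map (algebraMap A (Localization.AtPrime p)) :=
          hdim ⟨⟨_, hPr⟩, hs⟩ (b := ⟨_, hmx⟩) hle
        rw [le_antisymm hle heq]
        exact maximalIdeal.isMaximal _
      have := IsLocalRing.eq_maximalIdeal hQmax
      rw [← IsLocalization.under_map_of_isPrime_disjoint p.primeCompl (Localization.AtPrime p) hQprime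
        (Set.disjoint_left.mpr fun x hx hxp => hx (hQp hxp)), this]
      exact IsLocalization.AtPrime.under_maximalIdeal (Localization.AtPrime p) p
    exact hpQ ▸ hQX
  · -- depth
    rw [show Dep M p = (b : ℕ∞) from hb, ← hxl, add_comm]
    obtain ⟨ex⟩ := exists_quotList_equiv (M := M) q.primeCompl xs
    let M'q := LocalizedModule q.primeCompl M'
    let Cq := LocalizedModule q.primeCompl C
    have : Module.Finite R Cq :=
      Module.Finite.of_isLocalizedModule q.primeCompl (LocalizedModule.mkLinearMap q.primeCompl C)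
    let gq := LocalizedModule.mkLinearMap q.primeCompl M'
    have hnf : EGA4.IsNormallyFlat P Cq :=
      isNormallyFlat_of_localization q.primeCompl p R (LocalizedModule.mkLinearMap q.primeCompl C)
        fun T _ _ hT n => hflat T (hT ⟨f3, hq3⟩) n
    let ι0 : (R ⧸ P) →ₗ[R] M'q := Submodule.liftQ P (LinearMap.toSpanSingleton R M'q (gq m0)) (by
      rw [Ideal.map_le_iff_le_comap]
      intro t ht
      rw [Ideal.mem_comap, LinearMap.mem_ker, LinearMap.toSpanSingleton_apply, algebraMap_smul, ← map_smul]
      rw [hm0, Submodule.mem_colon_singleton, Submodule.mem_bot] at ht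
      rw [ht, map_zero])
    have hι0 : Function.Injective ι0 := by
      rw [injective_iff_map_eq_zero]
      intro z hz
      obtain ⟨r, rfl⟩ := Ideal.Quotient.mk_surjective z
      obtain ⟨t, s, rfl⟩ := IsLocalization.exists_mk'_eq q.primeCompl r
      rw [Ideal.Quotient.eq_zero_iff_mem, IsLocalization.mk'_mem_iff]
      refine Ideal.mem_map_of_mem _ ?_
      change IsLocalization.mk' R t s • gq m0 = 0 at hz
      rw [← IsLocalizedModule.mk'_one q.primeCompl gq m0, IsLocalizedModule.mk'_smul_mk',
        IsLocalizedModule.mk'_eq_zero'] at hz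
      obtain ⟨v, hv⟩ := hz
      rw [Submonoid.smul_def, smul_smul] at hv
      have : (v : A) * t ∈ p := by rw [hm0, Submodule.mem_colon_singleton, Submodule.mem_bot]; exact hv
      exact (‹p.IsPrime›.mem_or_mem this).resolve_left fun h => v.2 (hpq h)
    let π0 : M'q →ₗ[R] Cq := IsLocalizedModule.mapExtendScalars q.primeCompl gq
      (LocalizedModule.mkLinearMap q.primeCompl C) R (Submodule.span A {m0}).mkQ
    have hπ0 : Function.Surjective π0 :=
      IsLocalizedModule.map_surjective q.primeCompl gq _ _ (Submodule.mkQ_surjective _)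
    have hex0 : Function.Exact ι0 π0 := by
      have hloc := IsLocalizedModule.map_exact q.primeCompl
        (LocalizedModule.mkLinearMap q.primeCompl ↥(Submodule.span A {m0})) gq
        (LocalizedModule.mkLinearMap q.primeCompl C) _ _ (LinearMap.exact_subtype_mkQ (Submodule.span A {m0}))
      intro y
      refine (hloc y).trans ?_
      constructor
      · rintro ⟨w, rfl⟩
        obtain ⟨⟨⟨w, hw⟩, s⟩, rfl⟩ := IsLocalizedModule.mk'_surjective q.primeCompl (LocalizedModule.mkLinearMap q.primeCompl _) w
        obtain ⟨t, rfl⟩ := Submodule.mem_span_singleton.mp hw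
        refine ⟨Ideal.Quotient.mk P (IsLocalization.mk' R t s), ?_⟩
        rw [Function.uncurry_apply_pair, IsLocalizedModule.map_mk']
        show IsLocalization.mk' R t s • gq m0 = _
        rw [← IsLocalizedModule.mk'_one q.primeCompl gq m0, IsLocalizedModule.mk'_smul_mk', mul_one]
        rfl
      · rintro ⟨z, rfl⟩
        obtain ⟨r, rfl⟩ := Ideal.Quotient.mk_surjective z
        obtain ⟨t, s, rfl⟩ := IsLocalization.exists_mk'_eq q.primeCompl r
        refine ⟨IsLocalizedModule.mk' (LocalizedModule.mkLinearMap q.primeCompl _)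
          (⟨t • m0, Submodule.smul_mem _ _ (Submodule.mem_span_singleton_self _)⟩ : ↥(Submodule.span A {m0})) s, ?_⟩
        rw [IsLocalizedModule.map_mk']
        show _ = IsLocalization.mk' R t s • gq m0
        rw [← IsLocalizedModule.mk'_one q.primeCompl gq m0, IsLocalizedModule.mk'_smul_mk', mul_one]
        rfl
    have hmem : ∀ z ∈ xs.map (algebraMap A R), z ∈ maximalIdeal R := by
      intro z hz
      obtain ⟨z, hz', rfl⟩ := List.mem_map.mp hz
      exact (IsLocalization.AtPrime.to_map_mem_maximal_iff R q z).mpr (hpq (hxs z hz'))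
    have h := depth_eq_of_data P (Ideal.IsPrime.ne_top inferInstance) N (xs.map (algebraMap A R)) hmem (hxr q hq2) Cq hnf
      (ex.toLinearMap ∘ₗ ι0) (π0 ∘ₗ ex.symm.toLinearMap) (ex.injective.comp hι0)
      (by
        intro y
        refine (hex0 (ex.symm y)).trans ?_
        constructor
        · rintro ⟨z, hz⟩
          exact ⟨z, by rw [LinearMap.comp_apply, hz]; exact ex.apply_symm_apply y⟩
        · rintro ⟨z, rfl⟩
          exact ⟨z, (ex.symm_apply_apply _).symm⟩)
      (hπ0.comp ex.symm.surjective)
    rw [List.length_map] at h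
    exact h

end Groth.Agent.EGA4H10.Codepth
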