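import Groth.Agent.EGA4H10.FEquidim
import Groth.Agent.Hens22.CompletionUnrAdic
import Groth.Agent.CAlg1.CMPoly
import Groth.Agent.EGA4Alg4.FlatReg
import Mathlib

/-!
# Formal equidimensionality of algebras essentially of finite type
-/

set_option autoImplicit false
set_option linter.style.haveILetI false
universe u
open IsLocalRing TensorProduct

namespace Groth.Agent.EGA4H10

theorem isEquidim_of_isDomain (R : Type u) [CommRing R] [IsDomain R] : EGA4.IsEquidim R := by
  intro p hp
  have hbot : p = ⊥ := le_bot_iff.mp (hp.2 ⟨Ideal.isPrime_bot, le_rfl⟩ bot_le)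
  subst hbot
  exact ringKrullDim_eq_of_ringEquiv (RingEquiv.quotientBot R)

theorem isFormallyEquidim_of_ringEquiv {R S : Type u} [CommRing R] [IsNoetherianRing R] [IsLocalRing R]
    [CommRing S] [IsLocalRing S] (e : R ≃+* S) (h : EGA4.IsFormallyEquidim R) : EGA4.IsFormallyEquidim S := by
  letI : Algebra R S := e.toRingHom.toAlgebra
  have hker : (RingHom.ker (algebraMap R S)).map (algebraMap R (EGA4.Cpl R)) = ⊥ := by
    rw [show RingHom.ker (algebraMap R S) = ⊥ from (RingHom.injective_iff_ker_eq_bot _).mp e.injective, Ideal.map_bot]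
  exact isEquidim_of_ringEquiv ((RingEquiv.quotientBot _).symm.trans
    ((Ideal.quotEquivOfEq hker.symm).trans (cplQuotEquiv R S e.surjective))) h

/-- descent of formal equidimensionality along flat local maps -/
theorem isFormallyEquidim_of_flat (B D : Type u) [CommRing B] [CommRing D] [IsLocalRing B] [IsLocalRing D]
    [IsNoetherianRing B] [IsNoetherianRing D] [Algebra B D] [IsLocalHom (algebraMap B D)] [Module.Flat B D]
    (h : EGA4.IsFormallyEquidim D) : EGA4.IsFormallyEquidim B := by
  have hB := Hens22.isCompl'_adic B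
  have hD := Hens22.isCompl'_adic D
  have := hB.noetherian
  have := hD.noetherian
  have := Cohen12.isAdicComplete_completion (A := D)
  obtain ⟨ψ, hψ⟩ := Cohen12.exists_extension (A := B)
    ((algebraMap D (EGA4.Cpl D)).comp (algebraMap B D)) (by
      rw [← Ideal.map_map, ← hD.map_eq]
      exact Ideal.map_mono (IsLocalRing.map_maximalIdeal_le (algebraMap B D)))
  let _ : Algebra (EGA4.Cpl B) (EGA4.Cpl D) := ψ.toAlgebra
  have : IsScalarTower B D (EGA4.Cpl D) := IsScalarTower.of_algebraMap_eq fun _ => rfl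
  have : IsScalarTower B (EGA4.Cpl B) (EGA4.Cpl D) := IsScalarTower.of_algebraMap_eq fun a => (hψ a).symm
  have : IsLocalHom (algebraMap (EGA4.Cpl B) (EGA4.Cpl D)) := Hens22.isLocalHom_completed (B := D) hB hD
  have : Module.Flat (EGA4.Cpl B) (EGA4.Cpl D) := Hens22.flat_completed (B := D) hB hD
  exact isEquidim_of_coverSucc (coverSucc_of_flat_local (EGA4.Cpl B) (EGA4.Cpl D) (coverSucc_cpl h))

/-- an equidimensional local ring with formally equidimensional components -/
theorem isFormallyEquidim_of_components (C : Type u) [CommRing C] [IsLocalRing C] [IsNoetherianRing C]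
    (hC : EGA4.IsEquidim C)
    (h : ∀ (P : Ideal C) [P.IsPrime], P ∈ minimalPrimes C → EGA4.IsFormallyEquidim (C ⧸ P)) :
    EGA4.IsFormallyEquidim C := by
  let Ch := EGA4.Cpl C
  have : IsNoetherianRing Ch := Cohen12.isNoetherianRing_completion (A := C)
  have : Module.Flat C Ch := inferInstanceAs (Module.Flat C (AdicCompletion (maximalIdeal C) C))
  intro Q hQ
  have hQprime := hQ.1.1
  have hQb : Q ∈ ((⊥ : Ideal C).map (algebraMap C Ch)).minimalPrimes := by
    rw [Ideal.map_bot]; exact hQ
  obtain ⟨hP, hQmin⟩ := comap_minimal_of_flat ⊥ hQb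
  let P := Q.comap (algebraMap C Ch)
  let e := cplQuotEquiv C (C ⧸ P) Ideal.Quotient.mk_surjective
  have hk : (RingHom.ker (algebraMap C (C ⧸ P))).map (algebraMap C Ch) = P.map (algebraMap C Ch) := by
    rw [show RingHom.ker (algebraMap C (C ⧸ P)) = P from Ideal.mk_ker]
  have : IsNoetherianRing (EGA4.Cpl (C ⧸ P)) := Cohen12.isNoetherianRing_completion (A := C ⧸ P)
  let e' : (Ch ⧸ P.map (algebraMap C Ch)) ≃+* EGA4.Cpl (C ⧸ P) := (Ideal.quotEquivOfEq hk.symm).trans e
  have hE : EGA4.IsEquidim (Ch ⧸ P.map (algebraMap C Ch)) := isEquidim_of_ringEquiv e'.symm (h P hP)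
  let mk := Ideal.Quotient.mk (P.map (algebraMap C Ch))
  have hQc : (Q.map mk).comap mk = Q := by
    rw [Ideal.comap_map_of_surjective' _ Ideal.Quotient.mk_surjective, Ideal.mk_ker, sup_eq_left.mpr hQmin.1.2]
  have hQbar : Q.map mk ∈ minimalPrimes (Ch ⧸ P.map (algebraMap C Ch)) := by
    have hm := hQmin
    rw [Ideal.minimalPrimes_eq_comap] at hm
    obtain ⟨W, hW, hWQ⟩ := hm
    rwa [← hWQ, Ideal.map_comap_of_surjective _ Ideal.Quotient.mk_surjective]
  rw [← hQc, dim_quotient_comap mk Ideal.Quotient.mk_surjective, hE _ hQbar, ringKrullDim_eq_of_ringEquiv e',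
    CAlg1.ringKrullDim_adicCompletion (C ⧸ P), hC P hP, CAlg1.ringKrullDim_adicCompletion C]

/-- equidimensional quotients of CM local rings are formally equidimensional -/
theorem isFormallyEquidim_of_cm_quotient {T C : Type u} [CommRing T] [CommRing C] [IsLocalRing C]
    [LocCoh.IsCohenMacaulayLocalRing T] (f : T →+* C) (hf : Function.Surjective f) (hC : EGA4.IsEquidim C) :
    EGA4.IsFormallyEquidim C := by
  have : IsNoetherianRing C := isNoetherianRing_of_surjective T C f hf
  refine isFormallyEquidim_of_components C hC fun P _ _ => ?_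
  letI : Algebra T (C ⧸ P) := ((Ideal.Quotient.mk P).comp f).toAlgebra
  have hs : Function.Surjective (algebraMap T (C ⧸ P)) := Ideal.Quotient.mk_surjective.comp hf
  have : (RingHom.ker (algebraMap T (C ⧸ P))).IsPrime := RingHom.ker_isPrime _
  have : IsNoetherianRing (EGA4.Cpl (C ⧸ P)) := Cohen12.isNoetherianRing_completion (A := C ⧸ P)
  refine isEquidim_of_strictly (R := EGA4.Cpl (C ⧸ P)) ?_
  refine strict_cpl_quotient (A := T) (M := T) ?_ (C ⧸ P) hs ?_
  · rw [LocCoh.IsCohenMacaulayModule]
    exact LocCoh.IsCohenMacaulayLocalRing.supportDim_eq_depth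
  · rw [Module.mem_support_iff_of_finite]
    intro x hx
    have := Module.mem_annihilator.mp hx 1
    simp only [smul_eq_mul, mul_one] at this
    rw [this]
    exact zero_mem _

/-- quotients by primes, descended from a flat extension that is a quotient of a CM local ring -/
theorem isFormallyEquidim_quotient_of_flat {T R D : Type u} [CommRing T] [CommRing R] [CommRing D]
    [LocCoh.IsCohenMacaulayLocalRing T] [IsLocalRing R] [IsLocalRing D] [IsNoetherianRing R] [IsNoetherianRing D]
    [Algebra R D] [IsLocalHom (algebraMap R D)] [Module.Flat R D] (hcov : CoverSucc D) (g : T →+* D)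
    (hg : Function.Surjective g) (K : Ideal R) [K.IsPrime] : EGA4.IsFormallyEquidim (R ⧸ K) := by
  let KQ := K.map (algebraMap R D)
  have heq : EGA4.IsEquidim (D ⧸ KQ) :=
    (isEquidim_quotient_iff_map (coverSucc_of_flat_local R D hcov) hcov K).mp (isEquidim_of_isDomain _)
  have hKne : KQ ≠ ⊤ := fun h => (maximalIdeal.isMaximal D).ne_top (top_le_iff.mp (h.ge.trans
    ((Ideal.map_mono (le_maximalIdeal ‹K.IsPrime›.ne_top)).trans (IsLocalRing.map_maximalIdeal_le _))))
  have : Nontrivial (D ⧸ KQ) := Ideal.Quotient.nontrivial_iff.mpr hKne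
  have : IsLocalRing (D ⧸ KQ) := IsLocalRing.of_surjective' (Ideal.Quotient.mk KQ) Ideal.Quotient.mk_surjective
  have hD : EGA4.IsFormallyEquidim (D ⧸ KQ) :=
    isFormallyEquidim_of_cm_quotient ((Ideal.Quotient.mk KQ).comp g) (Ideal.Quotient.mk_surjective.comp hg) heq
  have : IsLocalHom (algebraMap (R ⧸ K) (D ⧸ KQ)) := ⟨fun x hx => by
    obtain ⟨x, rfl⟩ := Ideal.Quotient.mk_surjective x
    have hl : IsLocalHom (Ideal.Quotient.mk KQ) := IsLocalHom.of_surjective _ Ideal.Quotient.mk_surjective
    exact (isUnit_of_map_unit (algebraMap R D) x (isUnit_of_map_unit (Ideal.Quotient.mk KQ) _ hx)).map _⟩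
  have : Module.Flat (R ⧸ K) (D ⧸ KQ) := by
    let l : (R ⧸ K) ⊗[R] D ≃ₗ[R] D ⧸ KQ :=
      (TensorProduct.quotTensorEquivQuotSMul D K).trans
        ((Submodule.quotEquivOfEq _ _ (by rw [Ideal.smul_top_eq_map])).trans
          (Submodule.Quotient.restrictScalarsEquiv R KQ))
    exact Module.Flat.of_linearEquiv (l.extendScalarsOfSurjective Ideal.Quotient.mk_surjective).symm
  exact isFormallyEquidim_of_flat (R ⧸ K) (D ⧸ KQ) hD

section Main

variable {A : Type u} [CommRing A] [IsNoetherianRing A] [IsLocalRing A]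

/-- quotients of local rings of polynomial rings -/
theorem isFormallyEquidim_quotient_poly (hA : EGA4.IsFormallyEquidim A) {n : ℕ}
    (q : Ideal (MvPolynomial (ULift.{u} (Fin n)) A)) [q.IsPrime]
    (K : Ideal (Localization.AtPrime q)) [K.IsPrime] :
    EGA4.IsFormallyEquidim (Localization.AtPrime q ⧸ K) := by
  let σ := ULift.{u} (Fin n)
  let Ah := EGA4.Cpl A
  have : IsNoetherianRing Ah := Cohen12.isNoetherianRing_completion (A := A)
  have : Module.Flat A Ah := inferInstanceAs (Module.Flat A (AdicCompletion (maximalIdeal A) A))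
  have : Module.FaithfullyFlat A Ah := Module.FaithfullyFlat.of_flat_of_isLocalHom
  have huc := isUniversallyCatenary_cpl A
  let R := MvPolynomial σ A
  let R' := R ⊗[A] Ah
  let e : R' ≃+* MvPolynomial σ Ah :=
    (Algebra.TensorProduct.comm A R Ah).toRingEquiv.trans (MvPolynomial.algebraTensorAlgEquiv A Ah).toRingEquiv
  have : IsNoetherianRing R' := isNoetherianRing_of_ringEquiv _ e.symm
  have : Module.FaithfullyFlat R R' := inferInstance
  obtain ⟨Q', hQ'⟩ := PrimeSpectrum.comap_surjective_of_faithfullyFlat (B := R') ⟨q, inferInstance⟩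
  have hq : Q'.asIdeal.comap (algebraMap R R') = q := congrArg PrimeSpectrum.asIdeal hQ'
  let Rq := Localization.AtPrime q
  let RQ := Localization.AtPrime Q'.asIdeal
  let Qp := Q'.asIdeal.comap e.symm
  have hcov : CoverSucc RQ :=
    coverSucc_of_ringEquiv (IsLocalization.ringEquivOfRingEquiv (Localization.AtPrime Qp) RQ e.symm
      (e.symm.map_primeCompl_comap_eq Q'.asIdeal))
      (coverSucc_mvPolynomial_localization Ah huc (coverSucc_cpl hA) σ Qp)
  have : IsNoetherianRing Rq := IsLocalization.isNoetherianRing q.primeCompl _ inferInstance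
  have : IsNoetherianRing RQ := IsLocalization.isNoetherianRing Q'.asIdeal.primeCompl _ inferInstance
  let φ : Rq →+* RQ := Localization.localRingHom q Q'.asIdeal (algebraMap R R') hq.symm
  letI : Algebra Rq RQ := φ.toAlgebra
  have : IsScalarTower R Rq RQ := IsScalarTower.of_algebraMap_eq fun x => by
    show _ = φ (algebraMap R Rq x)
    rw [Localization.localRingHom_to_map]
    rfl
  have : Module.Flat R RQ := Module.Flat.trans R R' RQ
  have : Module.Flat Rq RQ := (Module.flat_iff_of_isLocalization Rq q.primeCompl RQ).mpr inferInstance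
  have : IsLocalHom (algebraMap Rq RQ) := Localization.isLocalHom_localRingHom q Q'.asIdeal (algebraMap R R') hq.symm
  -- `RQ` is a quotient of a CM local ring
  obtain ⟨S, _, _, π, hπ⟩ : ∃ (S : Type u) (_ : CommRing S) (_ : IsRegularLocalRing S) (π : S →+* Ah),
      Function.Surjective π :=
    have := Cohen12.isAdicComplete_completion (A := A)
    exists_regular_surjection Ah
  let g : MvPolynomial (Fin n) S →+* R' :=
    (e.symm.toRingHom.comp (MvPolynomial.renameEquiv Ah Equiv.ulift.symm).toAlgHom.toRingHom).comp (MvPolynomial.map π)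
  have hg : Function.Surjective g :=
    (e.symm.surjective.comp (MvPolynomial.renameEquiv Ah (Equiv.ulift.symm : Fin n ≃ σ)).surjective).comp
      (MvPolynomial.map_surjective π hπ)
  have := isCohenMacaulayRing_of_regular S
  have := CAlg1.cm_mvPolynomial (R := S) n
  let QS := Q'.asIdeal.comap g
  have : LocCoh.IsCohenMacaulayLocalRing (Localization.AtPrime QS) :=
    LocCoh.IsCohenMacaulayRing.isCohenMacaulayLocalRing_localization QS
  let gQ : Localization.AtPrime QS →+* RQ := Localization.localRingHom QS Q'.asIdeal g rfl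
  have hgQ : Function.Surjective gQ := by
    intro z
    obtain ⟨x, s, rfl⟩ := IsLocalization.exists_mk'_eq Q'.asIdeal.primeCompl z
    obtain ⟨x0, rfl⟩ := hg x
    obtain ⟨s0, hs0⟩ := hg s
    have hs0' : s0 ∉ QS := fun hm => s.2 (hs0 ▸ (hm : g s0 ∈ Q'.asIdeal))
    refine ⟨IsLocalization.mk' _ x0 (⟨s0, hs0'⟩ : QS.primeCompl), ?_⟩
    rw [Localization.localRingHom_mk']
    congr 1
    exact Subtype.ext hs0
  exact isFormallyEquidim_quotient_of_flat (R := Rq) (D := RQ) hcov gQ hgQ K

/-- domains essentially of finite type over a formally catenary ring -/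
theorem isFormallyEquidim_of_domain (hA : EGA4.IsFormallyCatenary A) (B : Type u) [CommRing B] [IsDomain B]
    [IsLocalRing B] [Algebra A B] [Algebra.EssFiniteType A B] : EGA4.IsFormallyEquidim B := by
  let P := RingHom.ker (algebraMap A B)
  have : P.IsPrime := RingHom.ker_isPrime _
  let S0 := Algebra.EssFiniteType.subalgebra A B
  let M := Algebra.EssFiniteType.submonoid A B
  have : Algebra.FiniteType A S0 := inferInstance
  have : IsLocalization M B := Algebra.EssFiniteType.isLocalization A B
  obtain ⟨n, f, hf⟩ := Algebra.FiniteType.iff_quotient_mvPolynomial''.mp ‹Algebra.FiniteType A S0›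
  let σ := ULift.{u} (Fin n)
  let f' : MvPolynomial σ A →+* B :=
    (algebraMap S0 B).comp (f.toRingHom.comp (MvPolynomial.renameEquiv A (Equiv.ulift : σ ≃ Fin n)).toAlgHom.toRingHom)
  have hC : ∀ a, f' (MvPolynomial.C a) = algebraMap A B a := fun a => by
    simp [f', ← MvPolynomial.algebraMap_eq]
  let R1 := MvPolynomial σ (A ⧸ P)
  let h : R1 →+* B := MvPolynomial.eval₂Hom (Ideal.Quotient.lift P (algebraMap A B) fun a ha => ha)
    fun i => f' (MvPolynomial.X i)
  have hh : h.comp (MvPolynomial.map (Ideal.Quotient.mk P)) = f' := by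
    apply MvPolynomial.ringHom_ext
    · intro a
      rw [RingHom.comp_apply, MvPolynomial.map_C, MvPolynomial.eval₂Hom_C, hC]
      rfl
    · intro i
      rw [RingHom.comp_apply, MvPolynomial.map_X, MvPolynomial.eval₂Hom_X']
  have hfrac : ∀ b : B, ∃ x y : R1, IsUnit (h y) ∧ b * h y = h x := by
    intro b
    obtain ⟨⟨x, s⟩, hxs⟩ := IsLocalization.surj M b
    obtain ⟨x0, hx0⟩ := (hf.comp (MvPolynomial.renameEquiv A (Equiv.ulift : σ ≃ Fin n)).surjective) x
    obtain ⟨s0, hs0⟩ := (hf.comp (MvPolynomial.renameEquiv A (Equiv.ulift : σ ≃ Fin n)).surjective) s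
    refine ⟨MvPolynomial.map (Ideal.Quotient.mk P) x0, MvPolynomial.map (Ideal.Quotient.mk P) s0, ?_, ?_⟩
    · rw [← RingHom.comp_apply, hh]
      show IsUnit (algebraMap S0 B _)
      rw [show (f.toRingHom.comp _) s0 = s.1 from hs0]
      exact IsLocalization.map_units B s
    · rw [← RingHom.comp_apply, hh, ← RingHom.comp_apply, hh]
      show b * algebraMap S0 B ((f.toRingHom.comp _) s0) = algebraMap S0 B ((f.toRingHom.comp _) x0)
      rw [show (f.toRingHom.comp _) s0 = s.1 from hs0, show (f.toRingHom.comp _) x0 = x from hx0]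
      exact hxs
  let q : Ideal R1 := (maximalIdeal B).comap h
  let ψ : Localization.AtPrime q →+* B := IsLocalization.lift (M := q.primeCompl) (g := h) fun y => by
    by_contra hu
    exact y.2 ((mem_maximalIdeal _).mpr hu)
  have hψ : Function.Surjective ψ := by
    intro b
    obtain ⟨x, y, hy, hxy⟩ := hfrac b
    have hyq : y ∈ q.primeCompl := fun hm => (mem_maximalIdeal _).mp (hm : h y ∈ maximalIdeal B) hy
    refine ⟨IsLocalization.mk' _ x ⟨y, hyq⟩, ?_⟩
    rw [IsLocalization.lift_mk'_spec, mul_comm]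
    exact hxy.symm
  have : (RingHom.ker ψ).IsPrime := RingHom.ker_isPrime _
  have : IsNoetherianRing (Localization.AtPrime q) := IsLocalization.isNoetherianRing q.primeCompl _ inferInstance
  exact isFormallyEquidim_of_ringEquiv (RingHom.quotientKerEquivOfSurjective hψ)
    (isFormallyEquidim_quotient_poly (hA P) q (RingHom.ker ψ))

theorem isFormallyEquidim_of_essFiniteType (hA : EGA4.IsFormallyCatenary A) (B : Type u) [CommRing B]
    [IsNoetherianRing B] [IsLocalRing B] [Algebra A B] [Algebra.EssFiniteType A B]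
    (hB : EGA4.IsEquidim B) : EGA4.IsFormallyEquidim B :=
  isFormallyEquidim_of_components B hB fun P _ _ =>
    have : Algebra.EssFiniteType A (B ⧸ P) := Algebra.EssFiniteType.comp A B (B ⧸ P)
    isFormallyEquidim_of_domain hA (B ⧸ P)

end Main

end Groth.Agent.EGA4H10
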