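import Mathlib
import Groth.Prelude.Def_EGA4b
import Groth.Agent.CAlg1.Regular
import Groth.Agent.CAlg1.Serre
import Groth.Agent.CAlg1.SkFlat

/-!
# A derivation criterion for regularity of generic fibres
-/

set_option autoImplicit false
set_option linter.style.haveILetI false
universe u

open IsLocalRing TensorProduct

namespace Groth.Agent.EGA4H10

/-- elements independent modulo the square of the maximal ideal cut out a regular ring -/
theorem regular_quotient_indep : ∀ (r : ℕ) {L : Type u} [CommRing L] [IsRegularLocalRing L] (f : Fin r → L),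
    (∀ i, f i ∈ maximalIdeal L) →
    (∀ a : Fin r → L, ∑ i, a i * f i ∈ maximalIdeal L ^ 2 → ∀ i, a i ∈ maximalIdeal L) →
    IsRegularLocalRing (L ⧸ Ideal.span (Set.range f))
  | 0, L, _, _, f, _, _ => by
    have : Ideal.span (Set.range f) = ⊥ := by simp
    exact IsRegularLocalRing.of_ringEquiv ((Ideal.quotEquivOfEq this).trans (RingEquiv.quotientBot L)).symm
  | r + 1, L, _, _, f, hf, hind => by
    classical
    have h2 : f 0 ∉ maximalIdeal L ^ 2 := fun h => by
      have := hind (Pi.single 0 1) (by
        rw [Finset.sum_eq_single 0 (fun j _ hj => by simp [hj]) (by simp)]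
        simpa using h) 0
      simp at this
    have hreg := (CAlg1.regular_quotient_singleton (hf 0) h2).1
    let q := Ideal.Quotient.mk (Ideal.span ({f 0} : Set L))
    have hmax : ∀ x, q x ∈ maximalIdeal (L ⧸ Ideal.span ({f 0} : Set L)) ↔ x ∈ maximalIdeal L := fun x => by
      rw [← CAlg1.comap_maximalIdeal_of_surjective q Ideal.Quotient.mk_surjective]; rfl
    have key : IsRegularLocalRing ((L ⧸ Ideal.span ({f 0} : Set L)) ⧸
        Ideal.span (Set.range fun i : Fin r => q (f i.succ))) := by
      refine regular_quotient_indep r _ (fun i => (hmax _).2 (hf _)) fun a ha i => ?_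
      choose a' ha' using fun i => Ideal.Quotient.mk_surjective (a i)
      simp only [← ha'] at ha ⊢
      rw [hmax]
      rw [← Finset.sum_congr rfl (fun j _ => map_mul q (a' j) (f j.succ)), ← map_sum,
        CAlg1.maximalIdeal_quotient, ← Ideal.map_pow, ← Ideal.mem_comap,
        Ideal.comap_map_of_surjective' q Ideal.Quotient.mk_surjective, Ideal.mk_ker,
        Submodule.mem_sup] at ha
      obtain ⟨u, hu, v, hv, huv⟩ := ha
      obtain ⟨b, rfl⟩ := Ideal.mem_span_singleton'.1 hv
      have := hind (Fin.cons (-b) a') (by
        rw [Fin.sum_univ_succ]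
        simp only [Fin.cons_zero, Fin.cons_succ]
        rw [← huv, show -b * f 0 + (u + b * f 0) = u by ring]
        exact hu) i.succ
      simpa using this
    have hrange : Set.range f = {f 0} ∪ Set.range fun i : Fin r => f i.succ := by
      ext x; constructor
      · rintro ⟨i, rfl⟩
        refine Fin.cases (Or.inl rfl) (fun j => Or.inr ⟨j, rfl⟩) i
      · rintro (rfl | ⟨j, rfl⟩) <;> exact ⟨_, rfl⟩
    have hmap : Ideal.span (Set.range fun i : Fin r => q (f i.succ)) =
        (Ideal.span (Set.range fun i : Fin r => f i.succ)).map q := by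
      rw [Ideal.map_span, ← Set.range_comp]; rfl
    have heq : Ideal.span ({f 0} : Set L) ⊔ Ideal.span (Set.range fun i : Fin r => f i.succ) =
        Ideal.span (Set.range f) := by rw [← Ideal.span_union, hrange]
    exact IsRegularLocalRing.of_ringEquiv
      ((Ideal.quotEquivOfEq hmap).trans ((DoubleQuot.quotQuotEquivQuotSup _ _).trans (Ideal.quotEquivOfEq heq)))

set_option maxHeartbeats 1000000 in
/-- **Jacobian criterion for a generic fibre.**  If a regular `S`-algebra `X` carries additive maps into the
fibre at `q`, which satisfy the Leibniz rule and are dual to generators of `q S_q`, the fibre is regular. -/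
theorem isRegularRing_fiber_of_derivations {S X : Type u} [CommRing S] [CommRing X] [IsNoetherianRing S]
    [IsRegularRing X] [Algebra S X] (q : Ideal S) [q.IsPrime] {n : ℕ} (f : Fin n → S) (hf : ∀ l, f l ∈ q)
    (hgen : maximalIdeal (Localization.AtPrime q) =
      Ideal.span (Set.range fun l => algebraMap S (Localization.AtPrime q) (f l)))
    (D : Fin n → X →+ q.Fiber X)
    (hD : ∀ j x y, D j (x * y) = ((1 : q.ResidueField) ⊗ₜ[S] x) * D j y + ((1 : q.ResidueField) ⊗ₜ[S] y) * D j x)
    (hDf : ∀ j l, D j (algebraMap S X (f l)) = if j = l then 1 else 0) :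
    IsRegularRing (q.Fiber X) := by
  classical
  let F := q.Fiber X
  let ι : X →+* F := (Algebra.TensorProduct.includeRight : X →ₐ[S] F).toRingHom
  have hι : ∀ x, ι x = (1 : q.ResidueField) ⊗ₜ[S] x := fun _ => rfl
  have hιf : ∀ l, ι (algebraMap S X (f l)) = 0 := fun l => by
    show (Algebra.TensorProduct.includeRight : X →ₐ[S] F) (algebraMap S X (f l)) = 0
    rw [AlgHom.commutes, IsScalarTower.algebraMap_apply S q.ResidueField F, Ideal.algebraMap_residueField_eq_zero.mpr (hf l),
      map_zero]
  have : IsNoetherianRing F := CAlg1.isNoetherianRing_fiber (S := X) q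
  refine isRegularRing_iff.mpr fun Q _ => ?_
  let r : Ideal X := Q.comap ι
  have hq : ∀ s ∈ q, algebraMap S X s ∈ r := fun s hs => by
    show (Algebra.TensorProduct.includeRight : X →ₐ[S] F) (algebraMap S X s) ∈ Q
    rw [AlgHom.commutes, IsScalarTower.algebraMap_apply S q.ResidueField F, Ideal.algebraMap_residueField_eq_zero.mpr hs,
      map_zero]
    exact Q.zero_mem
  let r' : Ideal X := Q.comap (Algebra.TensorProduct.includeRight : X →ₐ[S] F)
  have hr : r'.LiesOver q := ⟨by
    show q = (Q.comap (Algebra.TensorProduct.includeRight : X →ₐ[S] F)).comap (algebraMap S X)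
    rw [← Ideal.comap_coe (Algebra.TensorProduct.includeRight : X →ₐ[S] F), Ideal.comap_comap,
      AlgHom.comp_algebraMap]
    exact Ideal.over_def Q q⟩
  let := Localization.AtPrime.algebraOfLiesOver q r'
  let A := Localization.AtPrime q
  let B := Localization.AtPrime r'
  have : IsRegularLocalRing B := IsRegularRing.isRegularLocalRing_localization r'
  let e : Localization.AtPrime Q ≃ₐ[A] B ⧸ q.map (algebraMap S B) :=
    Ideal.Fiber.localizationAlgEquivQuotient q Q
  have hspan : q.map (algebraMap S B) = Ideal.span (Set.range fun l => algebraMap S B (f l)) := by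
    have h1 : (maximalIdeal A).map (algebraMap A B) = q.map (algebraMap S B) := by
      rw [← Localization.AtPrime.map_eq_maximalIdeal, Ideal.map_map, ← IsScalarTower.algebraMap_eq]
    rw [← h1, hgen, Ideal.map_span, ← Set.range_comp]
    congr 2
    funext l
    exact (IsScalarTower.algebraMap_apply S A B (f l)).symm
  have hmem : ∀ x : X, algebraMap X B x ∈ maximalIdeal B ↔ ι x ∈ Q := fun x => by
    rw [IsLocalization.AtPrime.to_map_mem_maximal_iff B r']
    rfl
  have key : IsRegularLocalRing (B ⧸ Ideal.span (Set.range fun l => algebraMap S B (f l))) := by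
    refine regular_quotient_indep n _ (fun l => ?_) fun a ha => ?_
    · rw [IsScalarTower.algebraMap_apply S X B, hmem]
      exact hq _ (hf l)
    -- clear the denominators of the coefficients
    obtain ⟨⟨t, ht⟩, htl⟩ := IsLocalization.exist_integer_multiples r'.primeCompl Finset.univ a
    choose x hx using fun l => htl l (Finset.mem_univ _)
    have hsum : algebraMap X B (∑ l, x l * algebraMap S X (f l)) ∈ maximalIdeal B ^ 2 := by
      have : algebraMap X B (∑ l, x l * algebraMap S X (f l)) =
          algebraMap X B t * ∑ l, a l * algebraMap S B (f l) := by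
        rw [map_sum, Finset.mul_sum]
        refine Finset.sum_congr rfl fun l _ => ?_
        rw [map_mul, hx, ← IsScalarTower.algebraMap_apply S X B]
        show t • a l * _ = _
        rw [Algebra.smul_def, mul_assoc]
      rw [this]
      exact Ideal.mul_mem_left _ _ ha
    rw [← Localization.AtPrime.map_eq_maximalIdeal, ← Ideal.map_pow,
      IsLocalization.algebraMap_mem_map_algebraMap_iff r'.primeCompl] at hsum
    obtain ⟨s, hs, hsw⟩ := hsum
    have hD2 : ∀ j, ∀ w ∈ r' ^ 2, D j w ∈ Q := by
      intro j w hw
      rw [pow_two] at hw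
      refine Submodule.mul_induction_on hw (fun u hu v hv => ?_) (fun u v hu hv => ?_)
      · rw [hD]
        exact add_mem (Q.mul_mem_right _ hu) (Q.mul_mem_right _ hv)
      · rw [map_add]; exact add_mem hu hv
    intro j
    have h1 := hD2 j _ hsw
    have hy : ι (∑ l, x l * algebraMap S X (f l)) = 0 := by simp [map_sum, hιf]
    have hDy : D j (∑ l, x l * algebraMap S X (f l)) = ι (x j) := by
      rw [map_sum, Finset.sum_eq_single j]
      · rw [hD, hDf, if_pos rfl, mul_one, ← hι, ← hι, hιf, zero_mul, add_zero]
      · intro l _ hl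
        rw [hD, hDf, if_neg (Ne.symm hl), mul_zero, ← hι, hιf, zero_mul, add_zero]
      · simp
    rw [hD, ← hι, ← hι, hy, zero_mul, add_zero, hDy] at h1
    have h2 : ι (x j) ∈ Q := (Ideal.IsPrime.mem_or_mem ‹Q.IsPrime› h1).resolve_left hs
    rw [← hmem, hx] at h2
    have h3 : algebraMap X B t * a j ∈ maximalIdeal B := by
      rw [← Algebra.smul_def]; exact h2
    exact (Ideal.unit_mul_mem_iff_mem _ (IsLocalization.map_units B (⟨t, ht⟩ : r'.primeCompl))).1 h3
  exact IsRegularLocalRing.of_ringEquiv ((Ideal.quotEquivOfEq hspan.symm).trans e.symm.toRingEquiv)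

end Groth.Agent.EGA4H10
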