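import Mathlib

/-!
# Coefficient fields of square zero extensions relative to a subfield
-/

set_option autoImplicit false
set_option linter.style.haveILetI false
universe u
open Polynomial

namespace Groth.Agent.EGA4H10

variable {K L E : Type u} [Field K] [Field L] [CommRing E]

/-- the separable case -/
theorem exists_section_of_separable (ι : K →+* E) (π : E →+* L) (hπ : Function.Surjective π)
    (hsq : ∀ a b, π a = 0 → π b = 0 → a * b = 0) [Algebra K L] (hιπ : ∀ c, π (ι c) = algebraMap K L c)
    [Module.Finite K L] [Algebra.IsSeparable K L] :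
    ∃ σ : L →+* E, (∀ x, π (σ x) = x) ∧ ∀ c, σ (π (ι c)) = ι c := by
  letI := ι.toAlgebra
  let πa : E →ₐ[K] L := AlgHom.mk π hιπ
  have : Algebra.FormallySmooth K L :=
    have := Algebra.FormallyEtale.of_isSeparable K L
    inferInstance
  have hnil : IsNilpotent (RingHom.ker (πa : E →+* L)) := by
    refine ⟨2, ?_⟩
    rw [pow_two, Ideal.zero_eq_bot, eq_bot_iff, Ideal.mul_le]
    exact fun a ha b hb => hsq a b ha hb
  let σ := Algebra.FormallySmooth.liftOfSurjective (AlgHom.id K L) πa hπ hnil
  refine ⟨σ.toRingHom, fun x => AlgHom.congr_fun (Algebra.FormallySmooth.comp_liftOfSurjective (AlgHom.id K L) πa hπ hnil) x,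
    fun c => ?_⟩
  rw [hιπ]
  exact σ.commutes c

set_option maxHeartbeats 800000 in
/-- the inseparable case: the `p`-th powers of `L` are linearly disjoint from `k` over those of `K` -/
theorem exists_section_of_disjoint (p : ℕ) [Fact p.Prime] [CharP K p] (k : Subfield K) [Module.Finite k K] (hk : ∀ e : K, e ^ p ∈ k)
    (ι : K →+* E) (π : E →+* L) (hπ : Function.Surjective π) (hsq : ∀ a b, π a = 0 → π b = 0 → a * b = 0)
    [Algebra K L] (hιπ : ∀ c, π (ι c) = algebraMap K L c) [Module.Finite K L]
    {d : ℕ} (b : Module.Basis (Fin d) K L)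
    (hind : ∀ c : Fin d → K, (∀ l, c l ∈ k) → ∑ l, algebraMap K L (c l) * b l ^ p = 0 → c = 0) :
    ∃ σ : L →+* E, (∀ x, π (σ x) = x) ∧ ∀ c ∈ k, σ (π (ι c)) = ι c := by
  classical
  have hp : p.Prime := Fact.out
  have : Nontrivial E := π.domain_nontrivial
  have : CharP E p := charP_of_injective_ringHom ι.injective p
  have : CharP L p := charP_of_injective_algebraMap (algebraMap K L).injective p
  -- the lifting of Frobenius
  let g := Function.surjInv hπ
  have hg : ∀ z, π (g z) = z := Function.surjInv_eq hπ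
  have hlift : ∀ e e', π e = π e' → e ^ p = e' ^ p := fun e e' h => by
    have h0 : π (e - e') = 0 := by rw [map_sub, h, sub_self]
    rw [← sub_eq_zero, ← sub_pow_char, ← Nat.sub_add_cancel hp.two_le, pow_add, pow_two, hsq _ _ h0 h0, mul_zero]
  let Fr : L →+* E :=
    { toFun := fun z => g z ^ p
      map_one' := by rw [hlift _ 1 (by rw [hg, map_one]), one_pow]
      map_mul' := fun x y => by rw [hlift _ (g x * g y) (by rw [hg, map_mul, hg, hg]), mul_pow]
      map_zero' := by rw [hlift _ 0 (by rw [hg, map_zero]), zero_pow hp.ne_zero]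
      map_add' := fun x y => by rw [hlift _ (g x + g y) (by rw [hg, map_add, hg, hg]), add_pow_char] }
  have hFr : ∀ z, π (Fr z) = z ^ p := fun z => (map_pow π _ _).trans (by rw [hg])
  have hFrι : ∀ e, Fr (algebraMap K L e) = ι (e ^ p) := fun e => by
    show g _ ^ p = _
    rw [map_pow, hlift _ (ι e) (by rw [hg, hιπ])]
  let E1 : Subring E := Subring.closure (ι '' (k : Set K) ∪ Set.range Fr)
  let P : E → Prop := fun e => ∃ c : Fin d → K, (∀ l, c l ∈ k) ∧ e = ∑ l, ι (c l) * Fr (b l)
  have hPadd : ∀ e e', P e → P e' → P (e + e') := by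
    rintro _ _ ⟨c, hc, rfl⟩ ⟨c', hc', rfl⟩
    exact ⟨c + c', fun l => add_mem (hc l) (hc' l), by simp [add_mul, Finset.sum_add_distrib]⟩
  have hPsmul : ∀ a ∈ k, ∀ e, P e → P (ι a * e) := by
    rintro a ha _ ⟨c, hc, rfl⟩
    exact ⟨fun l => a * c l, fun l => mul_mem ha (hc l), by simp [Finset.mul_sum, mul_assoc]⟩
  have hP0 : P 0 := ⟨0, fun _ => k.zero_mem, by simp⟩
  have hPsum : ∀ (s : Finset (Fin d)) (e : Fin d → E), (∀ l, P (e l)) → P (∑ l ∈ s, e l) := fun s e he =>
    Finset.sum_induction e P hPadd hP0 fun l _ => he l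
  have hPFr : ∀ z, P (Fr z) := fun z => by
    refine ⟨fun l => b.repr z l ^ p, fun l => hk _, ?_⟩
    conv_lhs => rw [← b.sum_repr z]
    rw [map_sum]
    refine Finset.sum_congr rfl fun l _ => ?_
    rw [Algebra.smul_def, map_mul, hFrι]
  have hPι : ∀ a ∈ k, P (ι a) := fun a ha => by
    have := hPsmul a ha _ (hPFr 1)
    rwa [map_one, mul_one] at this
  have hE1 : ∀ e ∈ E1, P e := fun e he => by
    induction he using Subring.closure_induction with
    | mem x hx => rcases hx with ⟨a, ha, rfl⟩ | ⟨z, rfl⟩; exacts [hPι a ha, hPFr z]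
    | zero => exact hP0
    | one => rw [← map_one ι]; exact hPι 1 k.one_mem
    | add x y _ _ hx hy => exact hPadd x y hx hy
    | neg x _ hx =>
      have := hPsmul (-1) (neg_mem k.one_mem) x hx
      rwa [map_neg, map_one, neg_one_mul] at this
    | mul x y _ _ hx hy =>
      obtain ⟨c, hc, rfl⟩ := hx
      rw [Finset.sum_mul]
      refine hPsum _ _ fun l => ?_
      rw [mul_assoc]
      refine hPsmul _ (hc l) _ ?_
      obtain ⟨c', hc', rfl⟩ := hy
      rw [Finset.mul_sum]
      refine hPsum _ _ fun m => ?_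
      rw [mul_left_comm, ← map_mul]
      exact hPsmul _ (hc' m) _ (hPFr _)
  have hinj : ∀ x ∈ E1, π x = 0 → x = 0 := by
    intro x hx h0
    obtain ⟨c, hc, rfl⟩ := hE1 x hx
    have := hind c hc (by simpa [map_sum, hιπ, hFr] using h0)
    simp [this]
  let π1 : E1 →+* L := π.comp E1.subtype
  have hπ1 : Function.Injective π1 := (injective_iff_map_eq_zero π1).2 fun x hx => Subtype.ext (hinj x x.2 hx)
  have hFrE : ∀ z, Fr z ∈ E1 := fun z => Subring.subset_closure (Or.inr ⟨z, rfl⟩)
  let F0 : Subfield L :=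
    { π1.range with
      inv_mem' := by
        intro z hz
        rcases eq_or_ne z 0 with rfl | h0
        · rw [inv_zero]; exact π1.range.zero_mem
        have h1 : (z⁻¹) ^ p ∈ π1.range := ⟨⟨_, hFrE z⁻¹⟩, hFr _⟩
        have h2 := π1.range.mul_mem (π1.range.pow_mem hz (p - 1)) h1
        have h3 : z ^ (p - 1) * z⁻¹ ^ p = z⁻¹ := by
          conv_lhs => rw [← Nat.sub_add_cancel hp.one_le, Nat.add_sub_cancel, pow_succ, ← mul_assoc, ← mul_pow,
            mul_inv_cancel₀ h0, one_pow, one_mul]
        rwa [h3] at h2 }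
  let e0 : E1 ≃+* F0 := RingEquiv.ofBijective (π1.codRestrict F0 fun x => ⟨x, rfl⟩)
    ⟨fun x y h => hπ1 (congrArg Subtype.val h), fun z => by
      obtain ⟨x, hx⟩ := z.2
      exact ⟨x, Subtype.ext hx⟩⟩
  let σ0 : F0 →+* E := E1.subtype.comp e0.symm.toRingHom
  have hσ0 : ∀ (x : E1) (z : F0), π x.1 = z → σ0 z = x := fun x z h => by
    show (e0.symm z : E) = x
    rw [show z = e0 x from Subtype.ext h.symm, e0.symm_apply_apply]
  letI := σ0.toAlgebra
  have hπ0 : ∀ z : F0, π (σ0 z) = z := fun z => congrArg Subtype.val (e0.apply_symm_apply z)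
  have hpF0 : ∀ z : L, z ^ p ∈ F0 := fun z => ⟨⟨_, hFrE z⟩, hFr z⟩
  have : Module.Finite F0 L := by
    refine Module.Finite.of_fg_top ?_
    obtain ⟨G, hG⟩ := (Module.Finite.fg_top : (⊤ : Submodule k K).FG)
    have hgen : Algebra.adjoin F0 (Set.range b ∪ algebraMap K L '' (G : Set K)) = ⊤ := by
      rw [eq_top_iff]
      intro z _
      rw [← b.sum_repr z]
      refine sum_mem fun l _ => ?_
      rw [Algebra.smul_def]
      refine mul_mem ?_ (Algebra.subset_adjoin (Or.inl ⟨l, rfl⟩))
      have he : b.repr z l ∈ Submodule.span k (G : Set K) := hG.symm ▸ Submodule.mem_top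
      generalize b.repr z l = e at he ⊢
      induction he using Submodule.span_induction with
      | mem e he => exact Algebra.subset_adjoin (Or.inr ⟨e, he, rfl⟩)
      | zero => rw [map_zero]; exact zero_mem _
      | add u v _ _ hu hv => rw [map_add]; exact add_mem hu hv
      | smul a u _ hu =>
        rw [Subfield.smul_def, smul_eq_mul, map_mul]
        refine mul_mem ?_ hu
        exact Subalgebra.algebraMap_mem _ (⟨algebraMap K L a, ⟨ι a, Subring.subset_closure (Or.inl ⟨a, a.2, rfl⟩)⟩, hιπ _⟩ : F0)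
    rw [← Algebra.top_toSubmodule, ← hgen]
    exact fg_adjoin_of_finite ((Set.finite_range b).union (G.finite_toSet.image _)) fun x _ =>
      IsIntegral.of_pow hp.pos (isIntegral_algebraMap (x := (⟨x ^ p, hpF0 x⟩ : F0)))
  obtain ⟨σ, hσ⟩ : ∃ σ : (⊤ : IntermediateField F0 L) →ₐ[F0] E, ∀ x, π (σ x) = (x : L) := by
    refine IntermediateField.induction_on_adjoin (fun F : IntermediateField F0 L => ∃ σ : F →ₐ[F0] E, ∀ x : F, π (σ x) = (x : L)) ?_ ?_ ⊤
    · refine ⟨(Algebra.ofId F0 E).comp (IntermediateField.botEquiv F0 L).toAlgHom, fun x => ?_⟩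
      obtain ⟨z, rfl⟩ := (IntermediateField.botEquiv F0 L).symm.surjective x
      show π (σ0 ((IntermediateField.botEquiv F0 L) ((IntermediateField.botEquiv F0 L).symm z))) = _
      rw [AlgEquiv.apply_symm_apply, hπ0]
      rfl
    · rintro F x ⟨σF, hσF⟩
      by_cases hx : x ∈ F
      · have hle : (IntermediateField.adjoin F {x}).restrictScalars F0 = F := by
          have hb : x ∈ (⊥ : IntermediateField F L) := IntermediateField.mem_bot.mpr ⟨⟨x, hx⟩, rfl⟩
          rw [IntermediateField.adjoin_simple_eq_bot_iff.mpr hb]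
          exact IntermediateField.restrictScalars_bot_eq_self F
        exact ⟨σF.comp (IntermediateField.equivOfEq hle).toAlgHom, fun z => (hσF _).trans rfl⟩
      · let a : F := ⟨x ^ p, F.algebraMap_mem ⟨x ^ p, hpF0 x⟩⟩
        have hnot : ∀ c : F, c ^ p ≠ a := fun c hc => hx (by
          rw [← frobenius_inj L p (congrArg Subtype.val hc : (c : L) ^ p = x ^ p)]
          exact c.2)
        have hirr : Irreducible (X ^ p - C a) := X_pow_sub_C_irreducible_of_prime hp hnot
        have hint : IsIntegral F x := ⟨X ^ p - C a, monic_X_pow_sub_C _ hp.ne_zero, by simp [a]⟩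
        have hmin : minpoly F x = X ^ p - C a :=
          (minpoly.eq_of_irreducible_of_monic hirr (by simp [a]) (monic_X_pow_sub_C _ hp.ne_zero)).symm
        let pb := IntermediateField.adjoin.powerBasis hint
        letI := σF.toRingHom.toAlgebra
        have : IsScalarTower F0 F E := IsScalarTower.of_algebraMap_eq fun z => (σF.commutes z).symm
        have hy : aeval (g x) (minpoly F pb.gen) = 0 := by
          rw [IntermediateField.adjoin.powerBasis_gen, IntermediateField.minpoly_gen, hmin, map_sub, map_pow, aeval_X, aeval_C,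
            sub_eq_zero]
          show Fr x = σF a
          rw [show a = algebraMap F0 F ⟨x ^ p, hpF0 x⟩ from Subtype.ext rfl, σF.commutes]
          exact (hσ0 ⟨Fr x, hFrE x⟩ _ (hFr x)).symm
        let σ' : IntermediateField.adjoin F {x} →ₐ[F] E := pb.lift (g x) hy
        refine ⟨σ'.restrictScalars F0, fun z => ?_⟩
        let πF : E →ₐ[F] L := AlgHom.mk π fun c => hσF c
        have h : πF.comp σ' = (IntermediateField.adjoin F {x}).val := pb.algHom_ext (by
          show π (pb.lift (g x) hy pb.gen) = _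
          rw [PowerBasis.lift_gen, hg]
          simp [pb])
        exact AlgHom.congr_fun h z
  refine ⟨(σ.comp IntermediateField.topEquiv.symm.toAlgHom).toRingHom, fun x => hσ _, fun c hc => ?_⟩
  have hcE : ι c ∈ E1 := Subring.subset_closure (Or.inl ⟨c, hc, rfl⟩)
  let z : F0 := ⟨π (ι c), ⟨_, hcE⟩, rfl⟩
  show σ (IntermediateField.topEquiv.symm (algebraMap F0 L z)) = ι c
  rw [AlgEquiv.commutes, σ.commutes]
  exact hσ0 ⟨_, hcE⟩ z rfl

end Groth.Agent.EGA4H10
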