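import Groth.Agent.Sep12.Admissible
import Groth.Agent.OmegaHat14.Frac
import Mathlib

/-!
# Families of subrings with intersection of fraction fields equal to the `p`-th powers

For such a family every element of a finite domain extension which is not a `p`-th power in the
fraction field is moved by some derivation of that domain.
-/

set_option autoImplicit false
set_option linter.style.haveILetI false
universe u

namespace Groth.Agent.EGA4H10

/-- A downward directed family of subrings over which `R` is finite, saturated, containing the `p`-th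
powers, and with intersection the `p`-th powers. -/
structure SepFamily (p : ℕ) (R : Type u) [CommRing R] where
  ι : Type u
  nonempty : Nonempty ι
  S : ι → Subring R
  directed : ∀ a b : ι, ∃ c, S c ≤ S a ⊓ S b
  finite : ∀ i, Module.Finite (S i) R
  pow_mem : ∀ i r, r ^ p ∈ S i
  saturated : ∀ i, ∀ h v : R, v ∈ S i → v ≠ 0 → h * v ∈ S i → h ∈ S i
  exists_pow : ∀ h : R, (∀ i, h ∈ S i) → ∃ g, g ^ p = h

/-- A finite family independent over the intersection of a directed family of subfields is independent
over one of them. -/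
theorem exists_independent_of_directed {L : Type u} [Field L] {ι : Type u} [Nonempty ι] (Kf : ι → Subfield L)
    (hdir : ∀ a b, ∃ c, Kf c ≤ Kf a ⊓ Kf b) :
    ∀ {n : ℕ} (w : Fin n → L),
      (∀ c : Fin n → L, (∀ l i, c l ∈ Kf i) → ∑ l, c l * w l = 0 → c = 0) →
      ∃ i, ∀ c : Fin n → L, (∀ l, c l ∈ Kf i) → ∑ l, c l * w l = 0 → c = 0 := by
  intro n
  induction n with
  | zero => exact fun _ _ => ⟨Classical.arbitrary ι, fun c _ _ => Subsingleton.elim _ _⟩
  | succ n ih =>
    intro w hw
    obtain ⟨i₀, hi₀⟩ := ih (fun l => w l.succ) fun c hc hsum => by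
      have h := hw (Fin.cons 0 c) (Fin.cases (fun i => by simp [zero_mem]) (fun l i => by simpa using hc l i))
        (by simpa [Fin.sum_univ_succ] using hsum)
      funext l
      simpa using congrFun h l.succ
    by_contra hno
    have key : ∀ j, Kf j ≤ Kf i₀ → ∃ e : Fin n → L, (∀ l, e l ∈ Kf j) ∧ w 0 = ∑ l, e l * w l.succ := by
      intro j hj
      obtain ⟨c, hc, hsum, hne⟩ : ∃ c : Fin (n + 1) → L, (∀ l, c l ∈ Kf j) ∧ (∑ l, c l * w l = 0) ∧ c ≠ 0 := by
        by_contra hcon
        exact hno ⟨j, fun c hc hs => by_contra fun h => hcon ⟨c, hc, hs, h⟩⟩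
      rw [Fin.sum_univ_succ] at hsum
      have h0 : c 0 ≠ 0 := fun h0 => hne <| by
        rw [h0, zero_mul, zero_add] at hsum
        have := hi₀ (fun l => c l.succ) (fun l => hj (hc _)) hsum
        exact funext (Fin.cases (by simpa using h0) fun l => congrFun this l)
      refine ⟨fun l => -c l.succ / c 0, fun l => div_mem (neg_mem (hc _)) (hc 0), ?_⟩
      simp only [div_eq_mul_inv, neg_mul, mul_right_comm _ (c 0)⁻¹, Finset.sum_neg_distrib, ← Finset.sum_mul]
      field_simp
      linear_combination hsum
    obtain ⟨e, he, hwe⟩ := key i₀ le_rfl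
    have heall : ∀ l j, e l ∈ Kf j := by
      intro l j
      obtain ⟨c, hc⟩ := hdir i₀ j
      obtain ⟨e', he', hwe'⟩ := key c (hc.trans inf_le_left)
      have h := hi₀ (fun l => e l - e' l) (fun l => sub_mem (he l) ((hc.trans inf_le_left) (he' l))) (by
        simp only [sub_mul, Finset.sum_sub_distrib, ← hwe, ← hwe', sub_self])
      rw [show e l = e' l from sub_eq_zero.mp (congrFun h l)]
      exact (hc.trans inf_le_right) (he' l)
    have h := hw (Fin.cons (-1) e) (Fin.cases (fun i => by simp) (fun l i => by simpa using heall l i))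
      (by simp [Fin.sum_univ_succ, ← hwe])
    simpa using congrFun h 0

variable {p : ℕ} [Fact p.Prime] {R : Type u} [CommRing R] [IsDomain R] [CharP R p]

theorem SepFamily.exists_derivation (F : SepFamily p R) (B : Type u) [CommRing B] [IsDomain B] [Algebra R B]
    [Module.Finite R B] [FaithfulSMul R B] (a : B)
    (ha : ∀ y : FractionRing B, y ^ p ≠ algebraMap B (FractionRing B) a) :
    ∃ D : Derivation ℤ B B, D a ≠ 0 := by
  classical
  let K := FractionRing R
  let L := FractionRing B
  have : FaithfulSMul R L := (faithfulSMul_iff_algebraMap_injective R L).2 <| by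
    rw [IsScalarTower.algebraMap_eq R B L]
    exact (IsFractionRing.injective B L).comp (FaithfulSMul.algebraMap_injective R B)
  letI : Algebra K L := FractionRing.liftAlgebra R L
  have : IsScalarTower R K L := FractionRing.isScalarTower_liftAlgebra R L
  have : Module.Finite K L := OmegaHat14.finite_fractionRing R B
  have : CharP L p := charP_of_injective_algebraMap (FaithfulSMul.algebraMap_injective R L) p
  let Kf : F.ι → Subfield L := fun i => Subfield.closure (algebraMap R L '' F.S i)
  have hmemK : ∀ i r, r ∈ F.S i → algebraMap R L r ∈ Kf i := fun i r hr =>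
    Subfield.subset_closure ⟨r, hr, rfl⟩
  have hfrac : ∀ i z, z ∈ Kf i → ∃ u ∈ F.S i, ∃ v ∈ F.S i, v ≠ 0 ∧ z * algebraMap R L v = algebraMap R L u := by
    intro i z hz
    obtain ⟨y, hy, w, hw, rfl⟩ := Subfield.mem_closure_iff.1 hz
    have hcl : Subring.closure (algebraMap R L '' F.S i) ≤ (F.S i).map (algebraMap R L) :=
      Subring.closure_le.2 (by rintro _ ⟨r, hr, rfl⟩; exact ⟨r, hr, rfl⟩)
    obtain ⟨u, hu, rfl⟩ := hcl hy
    obtain ⟨v, hv, rfl⟩ := hcl hw
    by_cases hv0 : v = 0
    · exact ⟨0, zero_mem _, 1, one_mem _, one_ne_zero, by simp [hv0]⟩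
    · exact ⟨u, hu, v, hv, hv0, div_mul_cancel₀ _
        ((map_ne_zero_iff _ (FaithfulSMul.algebraMap_injective R L)).2 hv0)⟩
  have hroot : ∀ z : L, (∀ i, z ∈ Kf i) → ∃ c : K, z = algebraMap K L c ^ p := by
    intro z hz
    obtain ⟨i₁⟩ := F.nonempty
    obtain ⟨u, hu, v, hv, hv0, huv⟩ := hfrac i₁ z (hz i₁)
    have hvL : algebraMap R L v ≠ 0 := (map_ne_zero_iff _ (FaithfulSMul.algebraMap_injective R L)).2 hv0
    have hp : p = p - 1 + 1 := (Nat.succ_pred_eq_of_pos (Fact.out : p.Prime).pos).symm
    obtain ⟨g, hg⟩ := F.exists_pow (u * v ^ (p - 1)) fun j => by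
      obtain ⟨u', hu', v', hv', hv0', huv'⟩ := hfrac j z (hz j)
      refine F.saturated j _ v' hv' hv0' ?_
      have : u * v ^ (p - 1) * v' = u' * v ^ p := FaithfulSMul.algebraMap_injective R L (by
        rw [hp]
        simp only [map_mul, map_pow, ← huv, ← huv', Nat.add_sub_cancel]
        ring)
      rw [this]
      exact mul_mem hu' (F.pow_mem j v)
    refine ⟨algebraMap R K g / algebraMap R K v, ?_⟩
    rw [map_div₀, ← IsScalarTower.algebraMap_apply, ← IsScalarTower.algebraMap_apply, div_pow,
      eq_div_iff (pow_ne_zero _ hvL), ← map_pow, ← map_pow, hg, map_mul, ← huv, map_pow, map_pow, mul_assoc]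
    congr 1
    conv_lhs => rw [hp]
    exact pow_succ' _ _
  have hdirK : ∀ a b, ∃ c, Kf c ≤ Kf a ⊓ Kf b := fun a b => by
    obtain ⟨c, hc⟩ := F.directed a b
    exact ⟨c, le_inf (Subfield.closure_mono (Set.image_mono (hc.trans inf_le_left)))
      (Subfield.closure_mono (Set.image_mono (hc.trans inf_le_right)))⟩
  have := F.nonempty
  let bL := Module.finBasis K L
  let w : Fin (Module.finrank K L + 1) → L :=
    Fin.cons (algebraMap B L a) fun l => bL l ^ p
  obtain ⟨i, hi⟩ := exists_independent_of_directed Kf hdirK w fun c hc hsum => by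
    choose e he using fun l => hroot (c l) (hc l)
    rw [Fin.sum_univ_succ] at hsum
    simp only [w, Fin.cons_zero, Fin.cons_succ, he] at hsum
    have hsum' : algebraMap K L (e 0) ^ p * algebraMap B L a + (∑ l : Fin (Module.finrank K L), algebraMap K L (e l.succ) * bL l) ^ p = 0 := by
      rw [sum_pow_char]
      simpa only [mul_pow] using hsum
    have h0 : e 0 = 0 := by
      by_contra h0
      have h0' : algebraMap K L (e 0) ≠ 0 := (map_ne_zero _).2 h0
      refine ha (-(∑ l : Fin (Module.finrank K L), algebraMap K L (e l.succ) * bL l) / algebraMap K L (e 0)) ?_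
      have hneg : ∀ x : L, (-x) ^ p = -(x ^ p) := fun x => map_neg (frobenius L p) x
      rw [div_pow, div_eq_iff (pow_ne_zero _ h0'), hneg]
      linear_combination -hsum'
    rw [h0, map_zero, zero_pow (Fact.out : p.Prime).ne_zero, zero_mul, zero_add,
      pow_eq_zero_iff (Fact.out : p.Prime).ne_zero] at hsum'
    have hl := Fintype.linearIndependent_iff.1 bL.linearIndependent (fun l => e l.succ)
      (by simpa [Algebra.smul_def] using hsum')
    funext l
    refine Fin.cases ?_ (fun l => ?_) l
    · simp [he, h0, (Fact.out : p.Prime).ne_zero]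
    · simp [he, hl l, (Fact.out : p.Prime).ne_zero]
  let k₀ := Kf i
  have hnot : algebraMap B L a ∉ Sep12.powField p k₀ L := by
    intro hmem
    rw [← Sep12.mem_pPower_base_iff] at hmem
    have hspan : ∀ y : L, y ∈ EGA41.pPowerSubalgebra p k₀ L →
        y ∈ Submodule.span k₀ (Set.range fun l => bL l ^ p) := by
      intro y hy
      have hy' : y ∈ Subalgebra.toSubmodule (Algebra.adjoin k₀ (Set.range fun z : L => z ^ p)) := hy
      rw [Algebra.adjoin_eq_span] at hy'
      refine Submodule.span_le.2 ?_ hy'
      intro y hy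
      obtain ⟨z, rfl⟩ : y ∈ MonoidHom.mrange (powMonoidHom p : L →* L) :=
        Submonoid.closure_le.2 (fun y hy => hy) hy
      rw [SetLike.mem_coe, powMonoidHom_apply, ← bL.sum_repr z, sum_pow_char]
      refine sum_mem fun l _ => ?_
      have hc : algebraMap K L (bL.repr z l) ^ p ∈ k₀ := by
        obtain ⟨f, g, -, hfg⟩ := IsFractionRing.div_surjective (A := R) (bL.repr z l)
        rw [← hfg, map_div₀, ← IsScalarTower.algebraMap_apply, ← IsScalarTower.algebraMap_apply, div_pow,
          ← map_pow, ← map_pow]
        exact div_mem (hmemK i _ (F.pow_mem i f)) (hmemK i _ (F.pow_mem i g))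
      rw [Algebra.smul_def, mul_pow]
      exact Submodule.smul_mem _ (⟨_, hc⟩ : k₀) (Submodule.subset_span ⟨l, rfl⟩)
    obtain ⟨c, hc⟩ := (Submodule.mem_span_range_iff_exists_fun k₀).1 (hspan _ hmem)
    have h := hi (Fin.cons (-1) fun l => (c l : L)) (Fin.cases (by simpa using neg_mem (one_mem (Kf i))) fun l => by simpa using (c l).2) (by
      simp [Fin.sum_univ_succ, w, ← hc, Subfield.smul_def]
      try ring)
    simpa using congrFun h 0
  obtain ⟨φ, hφ⟩ : ∃ φ : Ω[L⁄k₀] →ₗ[L] L, φ (KaehlerDifferential.D k₀ L (algebraMap B L a)) ≠ 0 := by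
    by_contra hcon
    exact (Sep12.notMem_powField_iff _).1 hnot
      (by
        have : Module.Free L (Ω[L⁄k₀]) := Module.Free.of_divisionRing L _
        have : Module.Projective L (Ω[L⁄k₀]) := Module.Projective.of_free
        exact (Module.forall_dual_apply_eq_zero_iff L _).1 fun φ => by_contra fun h => hcon ⟨φ, h⟩)
  let δ := φ.compDer (KaehlerDifferential.D k₀ L)
  -- clearing denominators
  have := F.finite i
  have : Module.Finite (F.S i) B := Module.Finite.trans R B
  obtain ⟨n, β, hβ⟩ := Module.Finite.exists_fin (R := F.S i) (M := B)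
  obtain ⟨⟨c, hc⟩, hcint⟩ := IsLocalization.exist_integer_multiples_of_finset (nonZeroDivisors B)
    (Finset.univ.image fun l => δ (algebraMap B L (β l)))
  have hR : ∀ y : B, ∃ r : B, algebraMap B L r = algebraMap B L c * δ (algebraMap B L y) := by
    intro y
    obtain ⟨s, rfl⟩ := (Submodule.mem_span_range_iff_exists_fun (F.S i)).1 (hβ ▸ Submodule.mem_top : y ∈ _)
    choose r hr using fun l => hcint (δ (algebraMap B L (β l))) (Finset.mem_image.2 ⟨l, Finset.mem_univ _, rfl⟩)
    refine ⟨∑ l, s l • r l, ?_⟩
    rw [map_sum, map_sum, map_sum, Finset.mul_sum]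
    refine Finset.sum_congr rfl fun l _ => ?_
    rw [Algebra.smul_def, Algebra.smul_def, map_mul, map_mul, Derivation.leibniz,
      show δ (algebraMap B L (algebraMap (F.S i) B (s l))) = 0 from
        δ.map_algebraMap (⟨_, hmemK i _ (s l).2⟩ : k₀) |> fun h => by
          convert h using 2
          exact (IsScalarTower.algebraMap_apply R B L _).symm, smul_zero, add_zero]
    rw [hr l, Algebra.smul_def, smul_eq_mul]
    ring
  choose Df hDf using hR
  have hinjL := IsFractionRing.injective B L
  refine ⟨Derivation.mk'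
    (AddMonoidHom.toIntLinearMap
      { toFun := Df
        map_zero' := hinjL (by simp only [hDf, map_zero, mul_zero])
        map_add' := fun x y => hinjL (by simp only [map_add, hDf, mul_add]) })
    (fun x y => hinjL (by
      simp only [AddMonoidHom.coe_toIntLinearMap, AddMonoidHom.coe_mk, ZeroHom.coe_mk, smul_eq_mul, map_add,
        map_mul, hDf, Derivation.leibniz]
      ring)), fun h => ?_⟩
  have h' : algebraMap B L c * δ (algebraMap B L a) = 0 := by
    rw [← hDf, show Df a = 0 from h, map_zero]
  rcases mul_eq_zero.1 h' with h | h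
  · exact IsFractionRing.to_map_ne_zero_of_mem_nonZeroDivisors hc h
  · exact hφ h

end Groth.Agent.EGA4H10
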