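import Mathlib
import Groth.Agent.EGA4H10.JacFibre
import Groth.Agent.EGA4H10.JacSection
import Groth.Agent.EGA4H10.SepFamily
import Groth.Agent.EGA4H10.FormalDer
import Groth.Agent.EGA4Alg4.RegCompletion
import Groth.Agent.CAlg5.GeomRegularFG

/-!
# Generic formal fibres of finite type algebras over a domain with enough derivations
-/

set_option autoImplicit false
set_option linter.style.haveILetI false
universe u

open IsLocalRing TensorProduct

namespace Groth.Agent.EGA4H10

/-- a family of subrings gives a cofinite subfield over which given `p`-th powers stay independent -/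
theorem exists_subfield_disjoint {p : ℕ} [Fact p.Prime] {R : Type u} [CommRing R] [IsDomain R] [CharP R p]
    (F : SepFamily p R) (K L : Type u) [Field K] [Algebra R K] [IsFractionRing R K] [Field L] [Algebra K L]
    {d : ℕ} (b : Module.Basis (Fin d) K L) :
    ∃ (i : F.ι) (k : Subfield K), Module.Finite k K ∧ (∀ e : K, e ^ p ∈ k) ∧ (∀ r ∈ F.S i, algebraMap R K r ∈ k) ∧
      ∀ c : Fin d → K, (∀ l, c l ∈ k) → ∑ l, algebraMap K L (c l) * b l ^ p = 0 → c = 0 := by
  classical
  have hinj : Function.Injective (algebraMap R K) := IsFractionRing.injective R K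
  have : CharP K p := charP_of_injective_algebraMap hinj p
  have : CharP L p := charP_of_injective_algebraMap (algebraMap K L).injective p
  have hp : p.Prime := Fact.out
  let Kf : F.ι → Subfield K := fun i => Subfield.closure (algebraMap R K '' F.S i)
  have hmem : ∀ i r, r ∈ F.S i → algebraMap R K r ∈ Kf i := fun i r hr => Subfield.subset_closure ⟨r, hr, rfl⟩
  have hfrac : ∀ i z, z ∈ Kf i → ∃ u ∈ F.S i, ∃ v ∈ F.S i, v ≠ 0 ∧ z * algebraMap R K v = algebraMap R K u := by
    intro i z hz
    obtain ⟨y, hy, w, hw, rfl⟩ := Subfield.mem_closure_iff.1 hz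
    have hcl : Subring.closure (algebraMap R K '' F.S i) ≤ (F.S i).map (algebraMap R K) :=
      Subring.closure_le.2 (by rintro _ ⟨r, hr, rfl⟩; exact ⟨r, hr, rfl⟩)
    obtain ⟨u, hu, rfl⟩ := hcl hy
    obtain ⟨v, hv, rfl⟩ := hcl hw
    by_cases hv0 : v = 0
    · exact ⟨0, zero_mem _, 1, one_mem _, one_ne_zero, by simp [hv0]⟩
    · exact ⟨u, hu, v, hv, hv0, div_mul_cancel₀ _ ((map_ne_zero_iff _ hinj).2 hv0)⟩
  have hroot : ∀ z : K, (∀ i, z ∈ Kf i) → ∃ c : K, z = c ^ p := by
    intro z hz
    obtain ⟨i₁⟩ := F.nonempty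
    obtain ⟨u, hu, v, hv, hv0, huv⟩ := hfrac i₁ z (hz i₁)
    have hvK : algebraMap R K v ≠ 0 := (map_ne_zero_iff _ hinj).2 hv0
    have hp1 : p = p - 1 + 1 := (Nat.succ_pred_eq_of_pos hp.pos).symm
    obtain ⟨g, hg⟩ := F.exists_pow (u * v ^ (p - 1)) fun j => by
      obtain ⟨u', hu', v', hv', hv0', huv'⟩ := hfrac j z (hz j)
      refine F.saturated j _ v' hv' hv0' ?_
      have : u * v ^ (p - 1) * v' = u' * v ^ p := hinj (by
        rw [hp1]
        simp only [map_mul, map_pow, ← huv, ← huv', Nat.add_sub_cancel]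
        ring)
      rw [this]
      exact mul_mem hu' (F.pow_mem j v)
    refine ⟨algebraMap R K g / algebraMap R K v, ?_⟩
    rw [div_pow, eq_div_iff (pow_ne_zero _ hvK), ← map_pow, ← map_pow, hg, map_mul, ← huv, map_pow, map_pow,
      mul_assoc]
    congr 1
    conv_lhs => rw [hp1]
    exact pow_succ' _ _
  let KL : F.ι → Subfield L := fun i => (Kf i).map (algebraMap K L)
  have hdir : ∀ a b, ∃ c, KL c ≤ KL a ⊓ KL b := fun a b => by
    obtain ⟨c, hc⟩ := F.directed a b
    exact ⟨c, le_inf ((Subfield.gc_map_comap (algebraMap K L)).monotone_l (Subfield.closure_mono (Set.image_mono (hc.trans inf_le_left))))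
      ((Subfield.gc_map_comap (algebraMap K L)).monotone_l (Subfield.closure_mono (Set.image_mono (hc.trans inf_le_right))))⟩
  have := F.nonempty
  obtain ⟨i, hi⟩ := exists_independent_of_directed KL hdir (fun l => b l ^ p) fun c hc hsum => by
    have : ∀ l, ∃ e : K, c l = algebraMap K L e ^ p := fun l => by
      obtain ⟨i₀⟩ := F.nonempty
      obtain ⟨z, hz, hzc⟩ := Subfield.mem_map.1 (hc l i₀)
      obtain ⟨e, he⟩ := hroot z fun j => by
        obtain ⟨z', hz', hzc'⟩ := Subfield.mem_map.1 (hc l j)
        rw [(algebraMap K L).injective (hzc.trans hzc'.symm)]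
        exact hz'
      exact ⟨e, by rw [← hzc, he, map_pow]⟩
    choose e he using this
    have h0 : (∑ l, algebraMap K L (e l) * b l) ^ p = 0 := by
      rw [sum_pow_char]
      simpa [mul_pow, he] using hsum
    rw [pow_eq_zero_iff hp.ne_zero] at h0
    have hl := Fintype.linearIndependent_iff.1 b.linearIndependent e (by simpa [Algebra.smul_def] using h0)
    funext l
    simp [he, hl l, hp.ne_zero]
  refine ⟨i, Kf i, ?_, ?_, hmem i, fun c hc hsum => ?_⟩
  · have := F.finite i
    obtain ⟨G, hG⟩ := (Module.Finite.fg_top : (⊤ : Submodule (F.S i) R).FG)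
    refine ⟨⟨G.image (algebraMap R K), eq_top_iff.2 fun z _ => ?_⟩⟩
    obtain ⟨a, v, hv, rfl⟩ := IsFractionRing.div_surjective (A := R) z
    have hv0 : algebraMap R K v ≠ 0 := IsFractionRing.to_map_ne_zero_of_mem_nonZeroDivisors hv
    have h1 : ∀ r : R, algebraMap R K r ∈ Submodule.span (Kf i) ((G.image (algebraMap R K) : Finset K) : Set K) := by
      intro r
      have hr : r ∈ Submodule.span (F.S i) (G : Set R) := hG.symm ▸ Submodule.mem_top
      induction hr using Submodule.span_induction with
      | mem g hg => exact Submodule.subset_span (Finset.mem_coe.2 (Finset.mem_image_of_mem _ hg))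
      | zero => simp
      | add x y _ _ hx hy => rw [map_add]; exact add_mem hx hy
      | smul s x _ hx =>
        rw [Subring.smul_def, smul_eq_mul, map_mul]
        exact Submodule.smul_mem _ (⟨_, hmem i s s.2⟩ : Kf i) hx
    have h2 : algebraMap R K a / algebraMap R K v =
        ((⟨_, inv_mem (hmem i _ (F.pow_mem i v))⟩ : Kf i) : K) * algebraMap R K (a * v ^ (p - 1)) := by
      show _ = (algebraMap R K (v ^ p))⁻¹ * _
      have h3 : algebraMap R K (v ^ (p - 1)) * algebraMap R K v = algebraMap R K (v ^ p) := by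
        rw [← map_mul, ← pow_succ, Nat.sub_add_cancel hp.one_le]
      have h4 : algebraMap R K (v ^ (p - 1)) ≠ 0 := by rw [map_pow]; exact pow_ne_zero _ hv0
      rw [← h3, map_mul]
      field_simp
    rw [h2]
    exact Submodule.smul_mem _ _ (h1 _)
  · intro e
    obtain ⟨a, v, -, rfl⟩ := IsFractionRing.div_surjective (A := R) e
    rw [div_pow, ← map_pow, ← map_pow]
    exact div_mem (hmem i _ (F.pow_mem i a)) (hmem i _ (F.pow_mem i v))
  · have h := hi (fun l => algebraMap K L (c l)) (fun l => ⟨c l, hc l, rfl⟩) hsum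
    funext l
    exact (algebraMap K L).injective (by simpa using congrFun h l)

/-- derivations towards the residue field of `q`, dual to generators of `q S_q` -/
theorem exists_dual_derivations {R S : Type u} [CommRing R] [IsDomain R] [CommRing S] [Algebra R S]
    [IsNoetherianRing S] (S0 : Type u) [CommRing S0] [Algebra R S0] [Algebra.FiniteType R S0] [Algebra S0 S]
    [IsScalarTower R S0 S]
    (hR : ∀ p : ℕ, p.Prime → CharP R p → Nonempty (SepFamily p R))
    (q : Ideal S) [q.IsPrime] (hq : ∀ r : R, algebraMap R S r ∈ q → r = 0)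
    [Algebra (FractionRing R) q.ResidueField] [IsScalarTower R (FractionRing R) q.ResidueField]
    [Module.Finite (FractionRing R) q.ResidueField] :
    ∃ (n : ℕ) (f : Fin n → S) (D : Fin n → Derivation ℤ S q.ResidueField) (N : Submodule S0 q.ResidueField),
      (∀ l, f l ∈ q) ∧
      maximalIdeal (Localization.AtPrime q) = Ideal.span (Set.range fun l => algebraMap S (Localization.AtPrime q) (f l)) ∧
      (∀ j l, D j (f l) = if j = l then 1 else 0) ∧ Module.Finite S0 N ∧ ∀ j s, D j (algebraMap S0 S s) ∈ N := by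
  classical
  let K := FractionRing R
  let L := q.ResidueField
  let A := Localization.AtPrime q
  let E := A ⧸ (maximalIdeal A) ^ 2
  let mk := Ideal.Quotient.mk ((maximalIdeal A) ^ 2)
  let π : E →+* L := Ideal.Quotient.lift _ (residue A) fun a ha =>
    (residue_eq_zero_iff a).2 (Ideal.pow_le_self two_ne_zero ha)
  have hπ : Function.Surjective π := fun z => by
    obtain ⟨a, rfl⟩ := residue_surjective z
    exact ⟨mk a, rfl⟩
  have hker : ∀ e, π e = 0 → ∃ a ∈ maximalIdeal A, mk a = e := fun e he => by
    obtain ⟨a, rfl⟩ := Ideal.Quotient.mk_surjective e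
    exact ⟨a, (residue_eq_zero_iff a).1 he, rfl⟩
  have hsq : ∀ a b, π a = 0 → π b = 0 → a * b = 0 := fun a b ha hb => by
    obtain ⟨a, ha', rfl⟩ := hker a ha
    obtain ⟨b, hb', rfl⟩ := hker b hb
    rw [← map_mul, Ideal.Quotient.eq_zero_iff_mem, pow_two]
    exact Ideal.mul_mem_mul ha' hb'
  let g0 : R →+* E := mk.comp ((algebraMap S A).comp (algebraMap R S))
  have hu : ∀ r : nonZeroDivisors R, IsUnit (g0 r) := fun r =>
    (IsLocalization.map_units A (⟨algebraMap R S r, fun h => nonZeroDivisors.ne_zero r.2 (hq _ h)⟩ : q.primeCompl)).map mk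
  let ι : K →+* E := IsLocalization.lift hu
  have hπS : ∀ s : S, π (mk (algebraMap S A s)) = algebraMap S L s := fun s => by
    show residue A (algebraMap S A s) = _
    rw [← ResidueField.algebraMap_eq, ← IsScalarTower.algebraMap_apply]
  have hιπ : ∀ c, π (ι c) = algebraMap K L c := by
    have : π.comp ι = algebraMap K L := IsLocalization.ringHom_ext (nonZeroDivisors R) (RingHom.ext fun r => by
      simp only [RingHom.comp_apply, ι, IsLocalization.lift_eq]
      rw [← IsScalarTower.algebraMap_apply R K L, IsScalarTower.algebraMap_apply R S L]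
      exact hπS _)
    exact fun c => RingHom.congr_fun this c
  -- the section, and a subring of constants over which `R` is finite
  obtain ⟨σ, C, hCfin, hσ, hσC⟩ : ∃ (σ : L →+* E) (C : Subring R), Module.Finite C R ∧ (∀ x, π (σ x) = x) ∧
      ∀ c ∈ C, σ (π (g0 c)) = g0 c := by
    obtain ⟨p, hc⟩ := CharP.exists R
    rcases CharP.char_is_prime_or_zero R p with hp | rfl
    · have : Fact p.Prime := ⟨hp⟩
      obtain ⟨F⟩ := hR p hp hc
      have : CharP K p := charP_of_injective_algebraMap (IsFractionRing.injective R K) p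
      let b := Module.finBasis K L
      obtain ⟨i, k, hkfin, hkp, hSk, hind⟩ := exists_subfield_disjoint F K L b
      obtain ⟨σ, h1, h2⟩ := exists_section_of_disjoint p k hkp ι π hπ hsq hιπ b hind
      refine ⟨σ, F.S i, F.finite i, h1, fun c hc => ?_⟩
      have := h2 _ (hSk c hc)
      simpa [ι, IsLocalization.lift_eq] using this
    · have : CharZero R := CharP.charP_to_charZero R
      have : CharZero K := charZero_of_injective_algebraMap (IsFractionRing.injective R K)
      obtain ⟨σ, h1, h2⟩ := exists_section_of_separable ι π hπ hsq hιπ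
      refine ⟨σ, ⊤, ?_, h1, fun c _ => ?_⟩
      · exact Module.Finite.of_surjective (Algebra.linearMap (⊤ : Subring R) R) fun r => ⟨⟨r, Subring.mem_top r⟩, rfl⟩
      have := h2 (algebraMap R K c)
      simpa [ι, IsLocalization.lift_eq] using this
  letI : Algebra L E := σ.toAlgebra
  let πl : E →ₗ[L] L :=
    { toFun := π, map_add' := map_add π, map_smul' := fun x e => by
        rw [Algebra.smul_def, map_mul, RingHom.id_apply, smul_eq_mul]
        congr 1
        exact hσ x }
  let W := LinearMap.ker πl
  have hWmem : ∀ e, e ∈ W ↔ π e = 0 := fun e => Iff.rfl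
  have hWmul : ∀ (e w : E), w ∈ W → e * w = π e • w := fun e w hw => by
    rw [Algebra.smul_def, ← sub_eq_zero, ← sub_mul]
    refine hsq _ _ ?_ hw
    rw [map_sub, show π (algebraMap L E (π e)) = π e from hσ _, sub_self]
  have hmemW : ∀ s ∈ q, mk (algebraMap S A s) ∈ W := fun s hs => by
    rw [hWmem, hπS, Ideal.algebraMap_residueField_eq_zero.2 hs]
  -- generators
  obtain ⟨G, hG⟩ := q.fg_of_isNoetherianRing
  have hGq : ∀ g ∈ G, g ∈ q := fun g hg => hG ▸ Ideal.subset_span hg
  let v : ↥G → W := fun g => ⟨mk (algebraMap S A g.1), hmemW _ (hGq _ g.2)⟩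
  have hspan : Submodule.span L (Set.range v) = ⊤ := by
    rw [eq_top_iff]
    rintro ⟨e, he⟩ -
    obtain ⟨a, ha, rfl⟩ := hker e he
    rw [← Localization.AtPrime.map_eq_maximalIdeal] at ha
    replace ha : a ∈ Ideal.span (algebraMap S A '' (G : Set S)) := by
      rw [← Ideal.map_span]; exact (congrArg (fun I : Ideal S => Ideal.map (algebraMap S A) I) hG).symm ▸ ha
    suffices mk a ∈ (Submodule.span L (Set.range v)).map W.subtype by
      obtain ⟨w, hw, hwe⟩ := this
      exact (Subtype.ext hwe : w = ⟨mk a, he⟩) ▸ hw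
    clear he
    induction ha using Submodule.span_induction with
    | mem x hx =>
      obtain ⟨g, hg, rfl⟩ := hx
      exact ⟨v ⟨g, hg⟩, Submodule.subset_span ⟨_, rfl⟩, rfl⟩
    | zero => rw [map_zero]; exact zero_mem _
    | add x y _ _ hx hy => rw [map_add]; exact add_mem hx hy
    | smul c x _ hx =>
      rw [smul_eq_mul, map_mul]
      obtain ⟨w, hw, hwe⟩ := hx
      rw [hWmul _ _ (hwe ▸ w.2)]
      exact Submodule.smul_mem _ _ ⟨w, hw, hwe⟩
  obtain ⟨κ, a, ha, hspan', hli⟩ := exists_linearIndependent' L v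
  rw [hspan] at hspan'
  have : Finite κ := Finite.of_injective a ha
  obtain ⟨n, ⟨eκ⟩⟩ := Finite.exists_equiv_fin κ
  let bW : Module.Basis (Fin n) L W := (Module.Basis.mk hli hspan'.ge).reindex eκ
  let f : Fin n → S := fun l => (a (eκ.symm l)).1
  have hfq : ∀ l, f l ∈ q := fun l => hGq _ (a (eκ.symm l)).2
  have hbW : ∀ l, ((bW l : W) : E) = mk (algebraMap S A (f l)) := fun l => by
    simp only [bW, Module.Basis.reindex_apply, Module.Basis.mk_apply, Function.comp_apply]
    rfl
  -- Nakayama
  have hgen : maximalIdeal A = Ideal.span (Set.range fun l => algebraMap S A (f l)) := by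
    refine le_antisymm ?_ (Ideal.span_le.2 ?_)
    · refine Submodule.le_of_le_smul_of_le_jacobson_bot (IsNoetherian.noetherian _)
        (IsLocalRing.jacobson_eq_maximalIdeal (⊥ : Ideal A) bot_ne_top).ge ?_
      intro x hx
      have hxW : mk x ∈ W := (hWmem _).2 ((residue_eq_zero_iff x).2 hx)
      have hsum := bW.sum_repr ⟨mk x, hxW⟩
      choose c hc using fun l => residue_surjective (bW.repr ⟨mk x, hxW⟩ l)
      have hmk : mk x = mk (∑ l, c l * algebraMap S A (f l)) := by
        rw [map_sum]
        conv_lhs => rw [show mk x = ((∑ l, bW.repr ⟨mk x, hxW⟩ l • bW l : W) : E) from congrArg Subtype.val hsum.symm]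
        rw [Submodule.coe_sum]
        refine Finset.sum_congr rfl fun l _ => ?_
        rw [Submodule.coe_smul, hbW, map_mul, hWmul _ _ (hmemW _ (hfq l))]
        congr 1
        exact (hc l).symm
      have hsub := (Ideal.Quotient.mk_eq_mk_iff_sub_mem _ _).1 hmk
      refine Submodule.mem_sup.2 ⟨∑ l, c l * algebraMap S A (f l), Submodule.sum_mem _ fun l _ =>
        Ideal.mul_mem_left _ _ (Ideal.subset_span ⟨l, rfl⟩), _, ?_, add_sub_cancel _ x⟩
      rw [smul_eq_mul, ← pow_two]
      exact hsub
    · rintro _ ⟨l, rfl⟩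
      exact (IsLocalization.AtPrime.to_map_mem_maximal_iff A q _).2 (hfq l)
  -- the derivations
  let d : S → W := fun s => ⟨mk (algebraMap S A s) - σ (algebraMap S L s), by
    rw [hWmem, map_sub, hπS, hσ, sub_self]⟩
  have hdmul : ∀ x y, d (x * y) = algebraMap S L x • d y + algebraMap S L y • d x := fun x y => by
    apply Subtype.ext
    show mk (algebraMap S A (x * y)) - σ (algebraMap S L (x * y)) =
      σ (algebraMap S L x) * (mk (algebraMap S A y) - σ (algebraMap S L y)) +
        σ (algebraMap S L y) * (mk (algebraMap S A x) - σ (algebraMap S L x))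
    have h0 : (mk (algebraMap S A x) - σ (algebraMap S L x)) * (mk (algebraMap S A y) - σ (algebraMap S L y)) = 0 :=
      hsq _ _ (d x).2 (d y).2
    rw [map_mul, map_mul, map_mul, map_mul]
    linear_combination h0
  let dl : S →+ W :=
    { toFun := d
      map_zero' := Subtype.ext (by simp [d])
      map_add' := fun x y => Subtype.ext (by simp [d]; abel) }
  let D : Fin n → Derivation ℤ S L := fun j =>
    Derivation.mk' (AddMonoidHom.toIntLinearMap ((bW.coord j).toAddMonoidHom.comp dl)) fun x y => by
      show bW.coord j (d (x * y)) = x • bW.coord j (d y) + y • bW.coord j (d x)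
      rw [hdmul, map_add, map_smul, map_smul, smul_eq_mul, smul_eq_mul, Algebra.smul_def, Algebra.smul_def]
  have hD : ∀ j s, D j s = bW.coord j (d s) := fun _ _ => rfl
  obtain ⟨Y, hY⟩ := (Algebra.FiniteType.out : (⊤ : Subalgebra R S0).FG)
  obtain ⟨Z, hZ⟩ := (Module.Finite.fg_top : (⊤ : Submodule C R).FG)
  let T : Finset S := Y.image (algebraMap S0 S) ∪ Z.image (algebraMap R S)
  let N : Submodule S0 L := Submodule.span S0 (((Finset.univ ×ˢ T).image fun jt => D jt.1 jt.2 : Finset L) : Set L)
  have hsmul : ∀ (x : S0) (z : L), algebraMap S0 S x • z = x • z := fun x z => algebraMap_smul S x z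
  have hN : ∀ j s, D j (algebraMap S0 S s) ∈ N := by
    intro j s
    have hT : ∀ t ∈ T, D j t ∈ N := fun t ht =>
      Submodule.subset_span (Finset.mem_coe.2 (Finset.mem_image.2 ⟨(j, t), Finset.mem_product.2 ⟨Finset.mem_univ _, ht⟩, rfl⟩))
    have hR : ∀ r : R, D j (algebraMap R S r) ∈ N := by
      intro r
      have hr : r ∈ Submodule.span C (Z : Set R) := hZ.symm ▸ Submodule.mem_top
      induction hr using Submodule.span_induction with
      | mem z hz => exact hT _ (Finset.mem_union_right _ (Finset.mem_image_of_mem _ hz))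
      | zero => simp
      | add x y _ _ hx hy => rw [map_add, map_add]; exact add_mem hx hy
      | smul c x _ hx =>
        rw [Subring.smul_def, smul_eq_mul, map_mul, Derivation.leibniz, IsScalarTower.algebraMap_apply R S0 S (c : R),
          hsmul, ← IsScalarTower.algebraMap_apply]
        refine add_mem (N.smul_mem _ hx) ?_
        have : d (algebraMap R S c) = 0 := Subtype.ext (by
          show mk (algebraMap S A (algebraMap R S c)) - σ (algebraMap S L (algebraMap R S c)) = 0
          rw [← hπS, sub_eq_zero]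
          exact (hσC c c.2).symm)
        rw [hD, this, map_zero, smul_zero]
        exact zero_mem _
    have hs : s ∈ Algebra.adjoin R (Y : Set S0) := hY.symm ▸ Algebra.mem_top
    induction hs using Algebra.adjoin_induction with
    | mem x hx => exact hT _ (Finset.mem_union_left _ (Finset.mem_image_of_mem _ hx))
    | algebraMap r => rw [← IsScalarTower.algebraMap_apply]; exact hR r
    | add x y _ _ hx hy => rw [map_add, map_add]; exact add_mem hx hy
    | mul x y _ _ hx hy =>
      rw [map_mul, Derivation.leibniz, hsmul, hsmul]; exact add_mem (N.smul_mem _ hy) (N.smul_mem _ hx)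
  refine ⟨n, f, D, N, hfq, hgen, fun j l => ?_, Module.Finite.iff_fg.2 ⟨_, rfl⟩, hN⟩
  have : d (f l) = bW l := Subtype.ext (by
    show mk (algebraMap S A (f l)) - σ (algebraMap S L (f l)) = _
    rw [Ideal.algebraMap_residueField_eq_zero.2 (hfq l), map_zero, sub_zero, hbW])
  rw [hD, this, Module.Basis.coord_apply, Module.Basis.repr_self, Finsupp.single_apply]
  simp [eq_comm]

/-- compatibility of base change cancellation with scalars -/
theorem cancelBaseChange_symm_smul_tmul {S S' L T : Type u} [CommRing S] [CommRing S'] [Algebra S S'] [CommRing L]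
    [Algebra S L] [Algebra S' L] [IsScalarTower S S' L] [CommRing T] [Algebra S T] (s : S') (t : T) (m : L) (t' : T) :
    (Algebra.TensorProduct.cancelBaseChange S S' L L T).symm ((s • m) ⊗ₜ (t * t')) =
      ((1 : L) ⊗ₜ[S'] (s ⊗ₜ[S] t)) * (Algebra.TensorProduct.cancelBaseChange S S' L L T).symm (m ⊗ₜ t') := by
  rw [Algebra.TensorProduct.cancelBaseChange_symm_tmul, Algebra.TensorProduct.cancelBaseChange_symm_tmul,
    Algebra.TensorProduct.tmul_mul_tmul, one_mul, Algebra.TensorProduct.tmul_mul_tmul, mul_one,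
    TensorProduct.smul_tmul, TensorProduct.smul_tmul', smul_eq_mul, mul_one]

/-- a derivation towards a module gives one of the trivial extension -/
theorem exists_derivation_trivSqZero {S M : Type u} [CommRing S] [AddCommGroup M] [Module S M] [Module Sᵐᵒᵖ M]
    [IsCentralScalar S M] (D : Derivation ℤ S M) :
    ∃ δ : Derivation ℤ (TrivSqZeroExt S M) (TrivSqZeroExt S M), ∀ z, δ z = TrivSqZeroExt.inr (D z.fst) := by
  refine ⟨Derivation.mk' (AddMonoidHom.toIntLinearMap
    { toFun := fun z => TrivSqZeroExt.inr (D z.fst)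
      map_zero' := by simp
      map_add' := fun a b => by simp }) fun a b => ?_, fun _ => rfl⟩
  refine TrivSqZeroExt.ext ?_ ?_ <;> simp

theorem snd_map_inl_mul {R S M T : Type u} [CommRing R] [CommRing S] [Algebra R S] [AddCommGroup M] [Module S M]
    [Module Sᵐᵒᵖ M] [IsCentralScalar S M] [Module R M] [IsScalarTower R S M] [CommRing T] [Algebra R T]
    (sndl : TrivSqZeroExt S M →ₗ[R] M) (hsnd : ∀ z, sndl z = z.snd) (F : Type u) [CommRing F] [Algebra R F]
    (μ : M ⊗[R] T →ₗ[R] F) (c : S ⊗[R] T →ₐ[R] F)
    (hμ : ∀ (s : S) (t : T) (m : M) (t' : T), μ ((s • m) ⊗ₜ (t * t')) = c (s ⊗ₜ t) * μ (m ⊗ₜ t'))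
    (inl : S ⊗[R] T →ₐ[R] TrivSqZeroExt S M ⊗[R] T) (hinl : ∀ s t, inl (s ⊗ₜ t) = TrivSqZeroExt.inl s ⊗ₜ t)
    (x : S ⊗[R] T) (z : TrivSqZeroExt S M ⊗[R] T) :
    μ (sndl.rTensor T (inl x * z)) = c x * μ (sndl.rTensor T z) := by
  induction x using TensorProduct.induction_on with
  | zero => simp
  | add a b ha hb => rw [map_add, add_mul, map_add, map_add, ha, hb, map_add, add_mul]
  | tmul s t =>
    induction z using TensorProduct.induction_on with
    | zero => simp
    | add a b ha hb => rw [mul_add, map_add, map_add, ha, hb, map_add, map_add, mul_add]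
    | tmul l t' =>
      rw [hinl, Algebra.TensorProduct.tmul_mul_tmul, LinearMap.rTensor_tmul, LinearMap.rTensor_tmul, hsnd, hsnd,
        ← hμ, TrivSqZeroExt.snd_mul, TrivSqZeroExt.fst_inl, TrivSqZeroExt.snd_inl, smul_zero, add_zero]

set_option maxHeartbeats 2000000 in
set_option synthInstance.maxHeartbeats 200000 in
/-- `k' ⊗_S Cpl(S_P)` is regular for finite extensions `k'` of the fraction field of `R` -/
theorem isRegularRing_tensor_cpl_of_finiteType {R S : Type u} [CommRing R] [IsDomain R] [IsNoetherianRing R]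
    [CommRing S] [Algebra R S] [Algebra.FiniteType R S] [IsRegularRing S]
    (hR : ∀ p : ℕ, p.Prime → CharP R p → Nonempty (SepFamily p R))
    (P : Ideal S) [P.IsPrime] (k' : Type u) [Field k'] [Algebra R k'] [Algebra S k'] [IsScalarTower R S k']
    [Algebra (FractionRing R) k'] [IsScalarTower R (FractionRing R) k'] [Module.Finite (FractionRing R) k'] :
    IsRegularRing (k' ⊗[S] EGA4.Cpl (Localization.AtPrime P)) := by
  classical
  let K := FractionRing R
  let T := EGA4.Cpl (Localization.AtPrime P)
  have : IsRegularRing (Localization.AtPrime P) := CAlg5.isRegularRing_of_isLocalization P.primeCompl _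
  have : IsRegularRing T :=
    EGA4Alg4.RegCompletion13.isRegularRing_adicCompletion (A := Localization.AtPrime P) (maximalIdeal _)
  -- a polynomial algebra generating `k'`
  let b := Module.finBasis K k'
  let τ : Type u := ULift.{u} (Fin (Module.finrank K k'))
  let S' := MvPolynomial τ S
  let ψ : S' →ₐ[S] k' := MvPolynomial.aeval fun i => b i.down
  letI : Algebra S' k' := ψ.toRingHom.toAlgebra
  have : IsScalarTower S S' k' := IsScalarTower.of_algebraMap_eq fun s => (ψ.commutes s).symm
  have : IsScalarTower R S' k' := IsScalarTower.of_algebraMap_eq fun r => by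
    rw [IsScalarTower.algebraMap_apply R S S', ← IsScalarTower.algebraMap_apply S S' k', ← IsScalarTower.algebraMap_apply]
  have : IsNoetherianRing S' := inferInstance
  have hRk : Function.Injective (algebraMap R k') := by
    rw [IsScalarTower.algebraMap_eq R K k']
    exact (algebraMap K k').injective.comp (IsFractionRing.injective R K)
  let q : Ideal S' := RingHom.ker (algebraMap S' k')
  have : q.IsPrime := RingHom.ker_isPrime _
  let ρ : q.ResidueField →+* k' := Ideal.ResidueField.lift q (algebraMap S' k') le_rfl fun x hx =>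
    (isUnit_iff_ne_zero.2 fun h => hx h : IsUnit (algebraMap S' k' x))
  have hρ : ∀ x, ρ (algebraMap S' _ x) = algebraMap S' k' x := fun x => Ideal.ResidueField.lift_algebraMap ..
  have hρs : Function.Surjective ρ := by
    intro z
    rw [← b.sum_repr z]
    choose x y hy hxy using fun e : K => IsFractionRing.div_surjective (A := R) e
    refine ⟨∑ l, algebraMap S' _ (algebraMap R S' (x (b.repr z l)) * MvPolynomial.X ⟨l⟩) /
      algebraMap S' _ (algebraMap R S' (y (b.repr z l))), ?_⟩
    rw [map_sum]
    refine Finset.sum_congr rfl fun l _ => ?_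
    rw [map_div₀, hρ, hρ, map_mul, ← IsScalarTower.algebraMap_apply, ← IsScalarTower.algebraMap_apply,
      show algebraMap S' k' (MvPolynomial.X ⟨l⟩) = b l from MvPolynomial.aeval_X _ _, mul_div_right_comm,
      IsScalarTower.algebraMap_apply R K k', IsScalarTower.algebraMap_apply R K k', ← map_div₀, hxy,
      Algebra.smul_def]
  let e : q.ResidueField ≃ₐ[S'] k' :=
    AlgEquiv.ofRingEquiv (f := RingEquiv.ofBijective ρ ⟨ρ.injective, hρs⟩) hρ
  letI : Algebra K q.ResidueField := ((e.symm.toRingEquiv : k' →+* q.ResidueField).comp (algebraMap K k')).toAlgebra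
  have : IsScalarTower R K q.ResidueField := IsScalarTower.of_algebraMap_eq fun r => by
    show algebraMap R q.ResidueField r = e.symm (algebraMap K k' (algebraMap R K r))
    rw [← IsScalarTower.algebraMap_apply, IsScalarTower.algebraMap_apply R S' k', AlgEquiv.commutes,
      ← IsScalarTower.algebraMap_apply]
  let el : k' →ₗ[K] q.ResidueField :=
    { toFun := e.symm
      map_add' := map_add e.symm
      map_smul' := fun c x => by
        rw [Algebra.smul_def, map_mul, RingHom.id_apply, Algebra.smul_def]
        rfl }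
  have : Module.Finite K q.ResidueField := Module.Finite.of_surjective el e.symm.surjective
  have hqR : ∀ r : R, algebraMap R S' r ∈ q → r = 0 := fun r hr => hRk (by
    rw [map_zero, IsScalarTower.algebraMap_apply R S' k']; exact hr)
  obtain ⟨n, f, D, N, hfq, hgen, hDf, hNfin, hN⟩ := exists_dual_derivations (S := S') S hR q hqR
  let L := q.ResidueField
  let X := S' ⊗[S] T
  have : Algebra.Smooth S S' := ⟨inferInstance, inferInstance⟩
  have : IsScalarTower S S' X := TensorProduct.isScalarTower_left
  have : IsRegularRing (T ⊗[S] S') := CAlg5.isRegularRing_of_smooth T (T ⊗[S] S')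
  have : IsRegularRing X := IsRegularRing.of_ringEquiv (Algebra.TensorProduct.comm S T S').toRingEquiv
  -- extend the derivations
  letI : Module S'ᵐᵒᵖ L := Module.compHom L ((RingHom.id S').fromOpposite mul_comm)
  have : IsCentralScalar S' L := ⟨fun _ _ => rfl⟩
  let Lt := TrivSqZeroExt S' L
  let inrl : L →ₗ[S] Lt := (TrivSqZeroExt.inrHom S' L).restrictScalars S
  let sndl : Lt →ₗ[S] L := (TrivSqZeroExt.sndHom S' L).restrictScalars S
  let Λ : L ⊗[S] T ≃ₐ[L] L ⊗[S'] X := (Algebra.TensorProduct.cancelBaseChange S S' L L T).symm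
  let μ : L ⊗[S] T →ₗ[S] L ⊗[S'] X :=
    { toFun := Λ, map_add' := map_add Λ, map_smul' := fun s z => by
        rw [RingHom.id_apply, ← algebraMap_smul L s z, map_smul, algebraMap_smul] }
  let c : X →ₐ[S] L ⊗[S'] X := (Algebra.TensorProduct.includeRight : X →ₐ[S'] L ⊗[S'] X).restrictScalars S
  let inl : X →ₐ[S] Lt ⊗[S] T := Algebra.TensorProduct.map (TrivSqZeroExt.inlAlgHom S S' L) (AlgHom.id S T)
  have hμ : ∀ (s : S') (t : T) (m : L) (t' : T), μ ((s • m) ⊗ₜ (t * t')) = c (s ⊗ₜ t) * μ (m ⊗ₜ t') :=
    fun s t m t' => cancelBaseChange_symm_smul_tmul s t m t'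
  choose δ hδ using fun j : Fin n => exists_derivation_trivSqZero (D j)
  choose Dt hDt hDt1 using fun j : Fin n => exists_derivation_tensor P Lt (δ j)
    (N.map inrl) (fun s => ⟨D j (algebraMap S Lt s).fst, hN j _, (hδ j _).symm⟩)
  have hsm := fun x z => snd_map_inl_mul sndl (fun _ => rfl) (L ⊗[S'] X) μ c hμ inl (fun _ _ => rfl) x z
  let Df : Fin n → X →+ q.Fiber X := fun j =>
    μ.toAddMonoidHom.comp ((sndl.rTensor T).toAddMonoidHom.comp ((Dt j).comp inl.toRingHom.toAddMonoidHom))
  have key : IsRegularRing (q.Fiber X) := by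
    refine isRegularRing_fiber_of_derivations q f hfq hgen Df (fun j x y => ?_) fun j l => ?_
    · show μ (sndl.rTensor T (Dt j (inl (x * y)))) = _
      rw [map_mul, hDt, map_add, map_add, hsm, hsm]
      rfl
    · show μ (sndl.rTensor T (Dt j (inl (f l ⊗ₜ 1)))) = _
      rw [show inl (f l ⊗ₜ 1) = TrivSqZeroExt.inl (f l) ⊗ₜ[S] (1 : T) from rfl, hDt1, LinearMap.rTensor_tmul]
      refine (congrArg (fun z => μ (sndl z ⊗ₜ[S] (1 : T))) (hδ j (TrivSqZeroExt.inl (f l)))).trans ?_
      show Λ (D j (f l) ⊗ₜ (1 : T)) = _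
      rw [hDf]
      split_ifs
      · exact map_one Λ
      · rw [TensorProduct.zero_tmul, map_zero]
  exact IsRegularRing.of_ringEquiv (R := q.Fiber X)
    ((Algebra.TensorProduct.congr e AlgEquiv.refl).toRingEquiv.trans
      (Algebra.TensorProduct.cancelBaseChange S S' S' k' T).toRingEquiv)

end Groth.Agent.EGA4H10
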