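import Mathlib

/-!
# Finite type domains are algebraic over a polynomial subring
-/

set_option autoImplicit false
set_option linter.style.haveILetI false
universe u

open MvPolynomial

namespace Groth.Agent.EGA4H10

theorem exists_mvPolynomial_base (R B : Type u) [CommRing R] [IsDomain R] [CommRing B] [IsDomain B] [Algebra R B]
    [FaithfulSMul R B] [Algebra.FiniteType R B] :
    ∃ (n : ℕ) (f : MvPolynomial (Fin n) R →ₐ[R] B), Function.Injective f ∧
      ∀ (L : Type u) [Field L] [Algebra B L] [IsFractionRing B L] [Algebra (FractionRing (MvPolynomial (Fin n) R)) L],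
        (∀ s, algebraMap (FractionRing (MvPolynomial (Fin n) R)) L (algebraMap _ _ s) = algebraMap B L (f s)) →
        Module.Finite (FractionRing (MvPolynomial (Fin n) R)) L := by
  classical
  obtain ⟨G, hG⟩ := (Algebra.FiniteType.out : (⊤ : Subalgebra R B).FG)
  have halg : Algebra.IsAlgebraic (Algebra.adjoin R (G : Set B)) B :=
    ⟨fun b => isAlgebraic_algebraMap (⟨b, hG ▸ Algebra.mem_top⟩ : Algebra.adjoin R (G : Set B))⟩
  obtain ⟨t, -, htG, ht⟩ := exists_isTranscendenceBasis_between (R := R) (A := B) ∅ (G : Set B) (Set.empty_subset _)
    ((algebraicIndependent_empty_iff R B).mpr (FaithfulSMul.algebraMap_injective R B))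
  have : Fintype t := (G.finite_toSet.subset htG).fintype
  let e := (Fintype.equivFin t).symm
  let x : Fin (Fintype.card t) → B := fun i => (e i : B)
  have hx : IsTranscendenceBasis R x := ht.comp_equiv e
  refine ⟨Fintype.card t, aeval x, hx.1, ?_⟩
  intro L _ _ _ _ hmap
  let K := FractionRing (MvPolynomial (Fin (Fintype.card t)) R)
  have hxalg := hx.isAlgebraic
  have hmem : ∀ b : B, IsAlgebraic K (algebraMap B L b) := by
    intro b
    obtain ⟨P, hP0, hP⟩ := hxalg.1 b
    have hrange : ∀ z ∈ Algebra.adjoin R (Set.range x), ∃ w, aeval x w = z := fun z hz => by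
      rw [Algebra.adjoin_range_eq_range_aeval] at hz; exact hz
    choose w hw using fun z : Algebra.adjoin R (Set.range x) => hrange z z.2
    let φ : Algebra.adjoin R (Set.range x) →+* K :=
      { toFun := fun z => algebraMap _ K (w z)
        map_one' := by
          rw [show w 1 = 1 from hx.1 (by rw [hw]; simp), map_one]
        map_mul' := fun a c => by
          rw [show w (a * c) = w a * w c from hx.1 (by simp [hw]), map_mul]
        map_zero' := by
          rw [show w 0 = 0 from hx.1 (by rw [hw]; simp), map_zero]
        map_add' := fun a c => by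
          rw [show w (a + c) = w a + w c from hx.1 (by simp [hw]), map_add] }
    have hφ : Function.Injective φ := fun a c h => by
      have := IsFractionRing.injective (MvPolynomial (Fin (Fintype.card t)) R) K h
      exact Subtype.ext (by rw [← hw a, ← hw c, this])
    refine ⟨P.map φ, (Polynomial.map_ne_zero_iff hφ).2 hP0, ?_⟩
    have hcomp : (algebraMap K L).comp φ = (algebraMap B L).comp (Algebra.adjoin R (Set.range x)).val.toRingHom :=
      RingHom.ext fun z => by
        show algebraMap K L (algebraMap _ K (w z)) = algebraMap B L z
        rw [hmap, hw]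
    rw [Polynomial.aeval_def, Polynomial.eval₂_map, hcomp, ← Polynomial.hom_eval₂]
    rw [Polynomial.aeval_def] at hP
    exact (congrArg (algebraMap B L) hP).trans (map_zero _)
  let M := IntermediateField.adjoin K ((G.image (algebraMap B L) : Finset L) : Set L)
  have : FiniteDimensional K M := IntermediateField.finiteDimensional_adjoin fun z hz => by
    obtain ⟨b, -, rfl⟩ := Finset.mem_image.1 hz
    exact (hmem b).isIntegral
  have hM : M = ⊤ := by
    rw [eq_top_iff]
    rintro z -
    have hB : ∀ b, algebraMap B L b ∈ M := fun b => by
      have hb : b ∈ Algebra.adjoin R (G : Set B) := hG ▸ Algebra.mem_top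
      induction hb using Algebra.adjoin_induction with
      | mem g hg => exact IntermediateField.subset_adjoin _ _ (Finset.mem_coe.2 (Finset.mem_image_of_mem _ hg))
      | algebraMap r =>
        rw [show algebraMap B L (algebraMap R B r) = algebraMap K L (algebraMap _ K (C r)) by rw [hmap]; simp]
        exact M.algebraMap_mem _
      | add a c _ _ ha hc => rw [map_add]; exact add_mem ha hc
      | mul a c _ _ ha hc => rw [map_mul]; exact mul_mem ha hc
    obtain ⟨a, c, -, rfl⟩ := IsFractionRing.div_surjective (A := B) z
    exact div_mem (hB a) (hB c)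
  exact Module.Finite.equiv ((IntermediateField.equivOfEq hM).trans IntermediateField.topEquiv).toLinearEquiv

end Groth.Agent.EGA4H10
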