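import Mathlib
import Groth.Agent.EGA4H10.SepFamily

/-!
# Families of subrings on polynomial rings
-/

set_option autoImplicit false
set_option linter.style.haveILetI false
universe u

open MvPolynomial

namespace Groth.Agent.EGA4H10

variable {R : Type u} [CommRing R] {n : ℕ}

/-- polynomials in the `p`-th powers of the variables with coefficients in `S` -/
noncomputable def expandSubring (p : ℕ) (S : Subring R) : Subring (MvPolynomial (Fin n) R) :=
  ((expand p).toRingHom.comp (map S.subtype)).range

theorem exists_smul_of_coeff_expand_ne_zero {p : ℕ} (hp : p ≠ 0) {w : MvPolynomial (Fin n) R} {m : Fin n →₀ ℕ}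
    (h : coeff m (expand p w) ≠ 0) : ∃ m', m = p • m' := by
  classical
  have h' := mem_support_iff.2 h
  rw [support_expand _ hp, Finset.mem_image] at h'
  obtain ⟨a, -, rfl⟩ := h'
  exact ⟨a, rfl⟩

theorem mem_expandSubring {p : ℕ} (hp : p ≠ 0) (S : Subring R) (h : MvPolynomial (Fin n) R) :
    h ∈ expandSubring p S ↔ ∀ m, coeff m h ∈ S ∧ (coeff m h ≠ 0 → ∃ m', m = p • m') := by
  classical
  constructor
  · rintro ⟨w, rfl⟩ m
    show coeff m (expand p (map S.subtype w)) ∈ S ∧ (coeff m (expand p (map S.subtype w)) ≠ 0 → _)
    by_cases h : ∃ m', m = p • m'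
    · obtain ⟨m', rfl⟩ := h
      rw [coeff_expand_smul p hp, coeff_map]
      exact ⟨(coeff m' w).2, fun _ => ⟨m', rfl⟩⟩
    · have h0 : coeff m (expand p (map S.subtype w)) = 0 :=
        not_not.1 fun h0 => h (exists_smul_of_coeff_expand_ne_zero hp h0)
      exact ⟨by rw [h0]; exact zero_mem S, fun h1 => absurd h0 h1⟩
  · intro hh
    rw [h.as_sum]
    refine sum_mem fun m hm => ?_
    obtain ⟨m', rfl⟩ := (hh m).2 (mem_support_iff.1 hm)
    refine ⟨monomial m' ⟨_, (hh (p • m')).1⟩, ?_⟩
    show expand p (map S.subtype _) = _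
    rw [map_monomial, expand_monomial]
    rfl

theorem expandSubring_saturated [IsDomain R] {p : ℕ} (hp : p ≠ 0) (S : Subring R)
    (hS : ∀ h v : R, v ∈ S → v ≠ 0 → h * v ∈ S → h ∈ S) (v : MvPolynomial (Fin n) R)
    (hv : v ∈ expandSubring p S) (hv0 : v ≠ 0) :
    ∀ (h : MvPolynomial (Fin n) R), h * v ∈ expandSubring p S → h ∈ expandSubring p S := by
  classical
  intro h
  induction hk : h.support.card using Nat.strong_induction_on generalizing h with
  | _ k ih =>
    intro hhv
    by_cases h0 : h = 0
    · rw [h0]; exact zero_mem _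
    let o : MonomialOrder (Fin n) := MonomialOrder.lex
    have hd : o.degree (h * v) = o.degree h + o.degree v := o.degree_mul h0 hv0
    obtain ⟨av, hav⟩ := ((mem_expandSubring hp S v).1 hv (o.degree v)).2 (o.coeff_degree_ne_zero_iff.2 hv0)
    obtain ⟨hcS, hcd⟩ := (mem_expandSubring hp S (h * v)).1 hhv (o.degree (h * v))
    obtain ⟨b, hb⟩ := hcd (o.coeff_degree_ne_zero_iff.2 (mul_ne_zero h0 hv0))
    have hdh : o.degree h = p • (b - av) := by
      ext j
      have h1 : o.degree h j + p * av j = p * b j := by
        have := congrArg (fun z => z j) (hd.symm.trans hb)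
        simpa [hav] using this
      simp [Nat.mul_sub, ← h1]
    have hlc : coeff (o.degree h) h ∈ S := by
      refine hS _ (coeff (o.degree v) v) ((mem_expandSubring hp S v).1 hv _).1 (o.coeff_degree_ne_zero_iff.2 hv0) ?_
      have := o.leadingCoeff_mul (f := h) (g := v)
      rw [show coeff (o.degree h) h * coeff (o.degree v) v = coeff (o.degree (h * v)) (h * v) from this.symm]
      exact hcS
    let t : MvPolynomial (Fin n) R := monomial (o.degree h) (coeff (o.degree h) h)
    have htmem : t ∈ expandSubring p S := by
      refine (mem_expandSubring hp S t).2 fun m => ?_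
      rw [coeff_monomial]
      split_ifs with hm
      · exact ⟨hlc, fun _ => ⟨b - av, hm.symm.trans hdh⟩⟩
      · exact ⟨zero_mem S, fun h => absurd rfl h⟩
    have hlt : (h - t).support.card < k := by
      rw [← hk]
      refine Finset.card_lt_card ((Finset.ssubset_iff_of_subset fun m hm => ?_).2
        ⟨o.degree h, mem_support_iff.2 (o.coeff_degree_ne_zero_iff.2 h0), ?_⟩)
      · rw [mem_support_iff, coeff_sub, coeff_monomial] at hm
        rw [mem_support_iff]
        split_ifs at hm with hm'
        · subst hm'; simp at hm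
        · simpa using hm
      · simp [t]
    have hsub : h - t ∈ expandSubring p S := ih _ hlt _ rfl (by
      rw [sub_mul]; exact sub_mem hhv (mul_mem htmem hv))
    simpa using add_mem hsub htmem

theorem frobenius_eq_expand (p : ℕ) [Fact p.Prime] [CharP R p] (f : MvPolynomial (Fin n) R) :
    f ^ p = expand p (map (frobenius R p) f) := by
  have : frobenius (MvPolynomial (Fin n) R) p = (expand p).toRingHom.comp (map (frobenius R p)) := by
    refine MvPolynomial.ringHom_ext (fun r => ?_) fun i => ?_
    · simp [frobenius_def]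
    · simp [frobenius_def]
  exact RingHom.congr_fun this f

theorem pow_mem_expandSubring {p : ℕ} [Fact p.Prime] [CharP R p] (S : Subring R) (hS : ∀ r, r ^ p ∈ S)
    (f : MvPolynomial (Fin n) R) : f ^ p ∈ expandSubring p S := by
  have hp := (Fact.out : p.Prime).ne_zero
  rw [frobenius_eq_expand p f, mem_expandSubring hp]
  intro m
  refine ⟨?_, exists_smul_of_coeff_expand_ne_zero hp⟩
  by_cases h0 : coeff m (expand p (map (frobenius R p) f)) = 0
  · rw [h0]; exact zero_mem _
  · obtain ⟨m', rfl⟩ := exists_smul_of_coeff_expand_ne_zero hp h0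
    rw [coeff_expand_smul p hp, coeff_map]
    exact hS _

/-- a family on `R` induces one on the polynomial ring -/
noncomputable def SepFamily.mvPolynomial {p : ℕ} [Fact p.Prime] [IsDomain R] [CharP R p] (F : SepFamily p R) (k : ℕ) :
    SepFamily p (MvPolynomial (Fin k) R) where
  ι := F.ι
  nonempty := F.nonempty
  S i := expandSubring p (F.S i)
  directed a b := by
    obtain ⟨c, hc⟩ := F.directed a b
    have hp := (Fact.out : p.Prime).ne_zero
    refine ⟨c, le_inf ?_ ?_⟩ <;>
    · intro h hh
      rw [mem_expandSubring hp] at hh ⊢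
      exact fun m => ⟨by first | exact (hc.trans inf_le_left) (hh m).1 | exact (hc.trans inf_le_right) (hh m).1, (hh m).2⟩
  pow_mem i f := pow_mem_expandSubring _ (F.pow_mem i) f
  saturated i h v hv hv0 hhv :=
    expandSubring_saturated (Fact.out : p.Prime).ne_zero (F.S i) (F.saturated i) v hv hv0 h hhv
  exists_pow h hh := by
    classical
    have hp := (Fact.out : p.Prime).ne_zero
    have := fun m i => (mem_expandSubring hp (F.S i) h).1 (hh i) m
    choose g hg using fun m => F.exists_pow (coeff m h) fun i => (this m i).1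
    obtain ⟨i₀⟩ := F.nonempty
    choose! r hr using fun m (hm : coeff m h ≠ 0) => (this m i₀).2 hm
    refine ⟨∑ m ∈ h.support, monomial (r m) (g m), ?_⟩
    rw [sum_pow_char]
    conv_rhs => rw [h.as_sum]
    refine Finset.sum_congr rfl fun m hm => ?_
    rw [monomial_pow, hg, ← hr m (mem_support_iff.1 hm)]
  finite i := by
    classical
    have hp : p.Prime := Fact.out
    let T := expandSubring (n := k) p (F.S i)
    have := F.finite i
    obtain ⟨G, hG⟩ := (Module.Finite.fg_top : (⊤ : Submodule (F.S i) R).FG)
    have hint : ∀ f : MvPolynomial (Fin k) R, IsIntegral T f := fun f => by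
      refine ⟨Polynomial.X ^ p - Polynomial.C ⟨f ^ p, pow_mem_expandSubring _ (F.pow_mem i) f⟩, Polynomial.monic_X_pow_sub_C _ hp.ne_zero, ?_⟩
      rw [Polynomial.eval₂_sub, Polynomial.eval₂_X_pow, Polynomial.eval₂_C]
      exact sub_self _
    let G' : Finset (MvPolynomial (Fin k) R) := G.image C ∪ Finset.univ.image X
    have hgen : Algebra.adjoin T (G' : Set (MvPolynomial (Fin k) R)) = ⊤ := by
      rw [eq_top_iff]
      rintro f -
      have hC : ∀ r : R, C r ∈ Algebra.adjoin T (G' : Set (MvPolynomial (Fin k) R)) := fun r => by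
        have hr : r ∈ Submodule.span (F.S i) (G : Set R) := hG.symm ▸ Submodule.mem_top
        induction hr using Submodule.span_induction with
        | mem g hg => exact Algebra.subset_adjoin (Finset.mem_coe.2 (Finset.mem_union_left _ (Finset.mem_image_of_mem _ hg)))
        | zero => rw [map_zero]; exact zero_mem _
        | add x y _ _ hx hy => rw [map_add]; exact add_mem hx hy
        | smul c x _ hx =>
          rw [Subring.smul_def, smul_eq_mul, map_mul]
          refine mul_mem ?_ hx
          exact Subalgebra.algebraMap_mem _ (⟨C c.1, C c, by simp⟩ : T)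
      induction f using MvPolynomial.induction_on with
      | C r => exact hC r
      | add x y hx hy => exact add_mem hx hy
      | mul_X x j hx =>
        exact mul_mem hx (Algebra.subset_adjoin (Finset.mem_coe.2 (Finset.mem_union_right _
          (Finset.mem_image_of_mem _ (Finset.mem_univ j)))))
    refine ⟨?_⟩
    rw [← Algebra.top_toSubmodule, ← hgen]
    exact fg_adjoin_of_finite G'.finite_toSet fun f _ => hint f

end Groth.Agent.EGA4H10
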