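import Groth.Agent.EGA4H10.CompleteGRing
import Groth.Agent.EGA4H10.JacGeneric
import Groth.Agent.EGA4H10.SepFamilyPoly
import Groth.Agent.EGA4H10.PolyBase
import Mathlib

/-!
# Algebras of finite type over complete Noetherian local rings are G-rings
-/

set_option autoImplicit false
set_option linter.style.haveILetI false
universe u

open IsLocalRing TensorProduct

namespace Groth.Agent.EGA4H10

set_option maxHeartbeats 1000000 in
/-- regularity of `k' ⊗ Cpl(A_P)` over finite type algebras over complete local rings -/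
theorem isRegularRing_tensor_formal_ft (A0 A : Type u) [CommRing A0] [IsLocalRing A0] [IsNoetherianRing A0]
    [IsAdicComplete (maximalIdeal A0) A0] [CommRing A] [Algebra A0 A] [Algebra.FiniteType A0 A] [IsNoetherianRing A]
    (P : Ideal A) [P.IsPrime] (q : Ideal A) [q.IsPrime] (hqP : q ≤ P)
    (k' : Type u) [Field k'] [Algebra A k'] [Algebra (A ⧸ q) k'] [IsScalarTower A (A ⧸ q) k']
    [Algebra (FractionRing (A ⧸ q)) k'] [IsScalarTower (A ⧸ q) (FractionRing (A ⧸ q)) k']
    [Module.Finite (FractionRing (A ⧸ q)) k'] :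
    IsRegularRing (k' ⊗[A] EGA4.Cpl (Localization.AtPrime P)) := by
  let A' := A ⧸ q
  let Ap := Localization.AtPrime P
  let Ah := EGA4.Cpl Ap
  have : IsNoetherianRing Ah := Cohen12.isNoetherianRing_completion (A := Ap)
  have : IsAdicComplete (maximalIdeal Ah) Ah := Cohen12.isAdicComplete_completion (A := Ap)
  have : Module.Flat Ap Ah := inferInstanceAs (Module.Flat Ap (AdicCompletion (maximalIdeal Ap) Ap))
  have : Module.Flat A Ah := Module.Flat.trans A Ap Ah
  -- the image of the base
  let a : Ideal A0 := RingHom.ker (algebraMap A0 A')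
  have : a.IsPrime := RingHom.ker_isPrime _
  let A0' := A0 ⧸ a
  have : IsAdicComplete (maximalIdeal A0') A0' := Cohen12.isAdicComplete_quotient a
  letI : Algebra A0' A' := (RingHom.kerLift (algebraMap A0 A')).toAlgebra
  have : IsScalarTower A0 A0' A' := IsScalarTower.of_algebraMap_eq fun _ => rfl
  have : Algebra.FiniteType A0' A' := Algebra.FiniteType.of_restrictScalars_finiteType A0 A0' A'
  obtain ⟨R, _, _, _, _, _, hinj, hfam⟩ := exists_finite_regular A0'
  letI : Algebra R A' := ((algebraMap A0' A').comp (algebraMap R A0')).toAlgebra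
  have : IsScalarTower R A0' A' := IsScalarTower.of_algebraMap_eq fun _ => rfl
  have : Algebra.FiniteType R A' := Algebra.FiniteType.trans (S := A0') inferInstance inferInstance
  have hinjR : Function.Injective (algebraMap R A') := (RingHom.kerLift_injective _).comp hinj
  have : FaithfulSMul R A' := (faithfulSMul_iff_algebraMap_injective R A').2 hinjR
  have : IsRegularRing R := isRegularRing_of_regAway_one (regAway_one R)
  -- the polynomial base
  obtain ⟨n, f, hf, hfin⟩ := exists_mvPolynomial_base R A'
  let R0 := MvPolynomial (Fin n) R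
  letI : Algebra R0 A' := f.toRingHom.toAlgebra
  have : IsScalarTower R R0 A' := IsScalarTower.of_algebraMap_eq fun r => (f.commutes r).symm
  have : Algebra.FiniteType R0 A' := Algebra.FiniteType.of_restrictScalars_finiteType R R0 A'
  have : FaithfulSMul R0 A' := (faithfulSMul_iff_algebraMap_injective R0 A').2 hf
  have : Algebra.Smooth R R0 := ⟨inferInstance, inferInstance⟩
  have : IsRegularRing R0 := CAlg5.isRegularRing_of_smooth R R0
  have hfamR : ∀ c : ℕ, c.Prime → CharP R0 c → Nonempty (SepFamily c R0) := fun c hc h => by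
    have hR : CharP R c := (RingHom.charP_iff (algebraMap R R0) (MvPolynomial.C_injective (Fin n) R) c).2 h
    have : Fact c.Prime := ⟨hc⟩
    obtain ⟨F⟩ := hfam c hc ((RingHom.charP_iff _ hinj c).1 hR)
    exact ⟨F.mvPolynomial n⟩
  obtain ⟨m, g, hg⟩ := Algebra.FiniteType.iff_quotient_mvPolynomial''.1 (inferInstance : Algebra.FiniteType R0 A')
  let S := MvPolynomial (Fin m) R0
  letI : Algebra S A' := g.toRingHom.toAlgebra
  have : IsScalarTower R0 S A' := IsScalarTower.of_algebraMap_eq fun r => (g.commutes r).symm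
  have : Module.Finite S A' := Module.Finite.of_surjective (Algebra.linearMap S A') hg
  have : Algebra.Smooth R0 S := ⟨inferInstance, inferInstance⟩
  have : IsRegularRing S := CAlg5.isRegularRing_of_smooth R0 S
  -- the field extension over `Frac R0`
  let K := FractionRing R0
  let L0 := FractionRing A'
  have hinjL0 : Function.Injective (algebraMap R0 L0) := by
    rw [IsScalarTower.algebraMap_eq R0 A' L0]; exact (IsFractionRing.injective A' L0).comp hf
  have : FaithfulSMul R0 L0 := (faithfulSMul_iff_algebraMap_injective R0 L0).2 hinjL0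
  letI : Algebra K L0 := FractionRing.liftAlgebra R0 L0
  have : IsScalarTower R0 K L0 := FractionRing.isScalarTower_liftAlgebra R0 L0
  have : Module.Finite K L0 := hfin L0 fun s => by
    rw [← IsScalarTower.algebraMap_apply R0 K L0, IsScalarTower.algebraMap_apply R0 A' L0]
    rfl
  letI : Algebra S k' := ((algebraMap A' k').comp (algebraMap S A')).toAlgebra
  have : IsScalarTower S A' k' := IsScalarTower.of_algebraMap_eq fun _ => rfl
  letI : Algebra R0 k' := ((algebraMap A' k').comp (algebraMap R0 A')).toAlgebra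
  have : IsScalarTower R0 S k' := IsScalarTower.of_algebraMap_eq fun r => by
    show algebraMap A' k' (algebraMap R0 A' r) = algebraMap A' k' (algebraMap S A' (algebraMap R0 S r))
    rw [← IsScalarTower.algebraMap_apply R0 S A']
  letI : Algebra K k' := ((algebraMap L0 k').comp (algebraMap K L0)).toAlgebra
  have : IsScalarTower K L0 k' := IsScalarTower.of_algebraMap_eq fun _ => rfl
  have : IsScalarTower R0 K k' := IsScalarTower.of_algebraMap_eq fun r => by
    show _ = algebraMap L0 k' (algebraMap K L0 (algebraMap R0 K r))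
    rw [← IsScalarTower.algebraMap_apply R0 K L0, IsScalarTower.algebraMap_apply R0 A' L0,
      ← IsScalarTower.algebraMap_apply A' L0 k']
    rfl
  have : Module.Finite K k' := Module.Finite.trans L0 k'
  -- the completion of `A'`
  obtain ⟨hloc, hπ⟩ := exists_cplQuot A P q hqP
  let Y := A' ⊗[A] Ah
  let π : Ah →+* Y := (Algebra.TensorProduct.includeRight : Ah →ₐ[A] Y).toRingHom
  have : IsNoetherianRing Y := isNoetherianRing_of_surjective _ _ π hπ
  let _ : Algebra Ah Y := π.toAlgebra
  have : Module.Finite Ah Y := Module.Finite.of_surjective (Algebra.linearMap Ah Y) hπ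
  have : IsAdicComplete (maximalIdeal Y) Y := isAdicComplete_maximalIdeal_of_finite Ah Y
  have : Module.Flat A' Y := inferInstance
  let P' := P.map (Ideal.Quotient.mk q)
  have : P'.IsPrime := Ideal.isPrime_map_quotientMk_of_isPrime hqP
  have hlocπ : IsLocalHom π := IsLocalHom.of_surjective π hπ
  have halg : ∀ a : A, algebraMap A' Y (Ideal.Quotient.mk q a) = π (algebraMap Ap Ah (algebraMap A Ap a)) := fun a => by
    rw [← IsScalarTower.algebraMap_apply A Ap Ah]
    show _ = (Algebra.TensorProduct.includeRight : Ah →ₐ[A] Y) (algebraMap A Ah a)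
    rw [AlgHom.commutes, ← Ideal.Quotient.algebraMap_eq, ← IsScalarTower.algebraMap_apply A A' Y]
  have hP' : (maximalIdeal Y).comap (algebraMap A' Y) = P' := by
    ext x
    obtain ⟨a, rfl⟩ := Ideal.Quotient.mk_surjective x
    have h1 : algebraMap A' Y (Ideal.Quotient.mk q a) ∈ maximalIdeal Y ↔ a ∈ P := by
      rw [halg, mem_maximalIdeal, mem_nonunits_iff]
      constructor
      · intro h
        by_contra ha
        exact h (((IsLocalization.map_units Ap (⟨a, ha⟩ : P.primeCompl)).map (algebraMap Ap Ah)).map π)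
      · intro ha hu
        exact (AdicCompletion.maximalIdeal_eq_map (R := Ap)).ge
          (Ideal.mem_map_of_mem _ ((IsLocalization.AtPrime.to_map_mem_maximal_iff Ap P a).2 ha))
          (isUnit_of_map_unit π _ hu)
    rw [Ideal.mem_comap, h1, ← Ideal.mem_comap, Ideal.comap_map_quotientMk, sup_eq_right.2 hqP]
  obtain ⟨φ, hφs, hφf⟩ := exists_comparison_cpl (R := S) (Y := Y) P' hP' Ap π hπ (π.comp (algebraMap Ap Ah))
    (fun _ => rfl) (fun a => by
      obtain ⟨x, s, rfl⟩ := IsLocalization.exists_mk'_eq P.primeCompl a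
      refine ⟨Ideal.Quotient.mk q x, Ideal.Quotient.mk q s, fun hm => s.2 ?_, ?_⟩
      · rw [← Ideal.mem_comap, Ideal.comap_map_quotientMk, sup_eq_right.2 hqP] at hm; exact hm
      · rw [halg, halg, RingHom.comp_apply, ← map_mul, ← map_mul, IsLocalization.mk'_spec])
  let p := P'.comap (algebraMap S A')
  have : p.IsPrime := Ideal.IsPrime.comap _
  let T := EGA4.Cpl (Localization.AtPrime p)
  letI : Algebra S T := inferInstance
  let Z := A' ⊗[S] EGA4.Cpl (Localization.AtPrime p)
  let X := Z ⊗[A'] k'
  have : IsRegularRing (k' ⊗[S] EGA4.Cpl (Localization.AtPrime p)) :=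
    isRegularRing_tensor_cpl_of_finiteType hfamR p k'
  have : IsRegularRing X := IsRegularRing.of_ringEquiv (R := k' ⊗[S] EGA4.Cpl (Localization.AtPrime p))
    ((Algebra.TensorProduct.cancelBaseChange S A' k' k'
      (EGA4.Cpl (Localization.AtPrime p))).toRingEquiv.symm.trans
      (Algebra.TensorProduct.comm A' k' Z).toRingEquiv)
  exact isRegularRing_of_flat_quotient (A := A) (A' := A') (k' := k') (Ah := Ah) φ hφs hφf

set_option maxHeartbeats 1000000 in
/-- algebras of finite type over complete local rings are G-rings -/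
theorem isGRing_of_finiteType_complete (A0 A : Type u) [CommRing A0] [IsLocalRing A0] [IsNoetherianRing A0]
    [IsAdicComplete (maximalIdeal A0) A0] [CommRing A] [Algebra A0 A] [Algebra.FiniteType A0 A] : CAlg.IsGRing A := by
  have : IsNoetherianRing A := Algebra.FiniteType.isNoetherianRing A0 A
  refine ⟨inferInstance, fun P _ => ?_⟩
  let Ap := Localization.AtPrime P
  let Ah := EGA4.Cpl Ap
  show CAlg.IsRegularHom Ap Ah
  refine ⟨inferInstanceAs (Module.Flat Ap (AdicCompletion (maximalIdeal Ap) Ap)), fun q0 _ => ?_⟩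
  suffices key : ∀ (k' : Type u) [Field k'] [Algebra q0.ResidueField k'] [Module.Finite q0.ResidueField k'],
      IsRegularRing (k' ⊗[q0.ResidueField] q0.Fiber Ah) by
    have h0 := key q0.ResidueField
    have : IsRegularRing (q0.Fiber Ah) := IsRegularRing.of_ringEquiv
      (R := q0.ResidueField ⊗[q0.ResidueField] q0.Fiber Ah)
      (Algebra.TensorProduct.lid q0.ResidueField (q0.Fiber Ah)).toRingEquiv
    exact ⟨inferInstance, fun k' _ _ hk => key k'⟩
  intro k' _ _ _
  let κ := q0.ResidueField
  let q := q0.comap (algebraMap A Ap)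
  have hqP : q ≤ P := fun a ha => (IsLocalization.AtPrime.to_map_mem_maximal_iff Ap P a).1
    (le_maximalIdeal (Ideal.IsPrime.ne_top inferInstance) ha)
  letI : Algebra A k' := ((algebraMap κ k').comp (algebraMap A κ)).toAlgebra
  have : IsScalarTower A κ k' := IsScalarTower.of_algebraMap_eq fun _ => rfl
  letI : Algebra Ap k' := ((algebraMap κ k').comp (algebraMap Ap κ)).toAlgebra
  have : IsScalarTower Ap κ k' := IsScalarTower.of_algebraMap_eq fun _ => rfl
  have : IsScalarTower A Ap k' := IsScalarTower.of_algebraMap_eq fun a => by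
    show algebraMap κ k' (algebraMap A κ a) = algebraMap κ k' (algebraMap Ap κ (algebraMap A Ap a))
    rw [← IsScalarTower.algebraMap_apply A Ap κ]
  let ι0 : A ⧸ q →+* κ := Ideal.Quotient.lift q (algebraMap A κ) fun a ha => by
    rw [IsScalarTower.algebraMap_apply A Ap κ, Ideal.algebraMap_residueField_eq_zero]
    exact ha
  have hι0 : Function.Injective ι0 := by
    rw [injective_iff_map_eq_zero]
    intro x hx
    obtain ⟨a, rfl⟩ := Ideal.Quotient.mk_surjective x
    rw [Ideal.Quotient.lift_mk, IsScalarTower.algebraMap_apply A Ap κ, Ideal.algebraMap_residueField_eq_zero] at hx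
    exact Ideal.Quotient.eq_zero_iff_mem.2 hx
  let ι : FractionRing (A ⧸ q) →+* κ := IsFractionRing.lift hι0
  have hι : Function.Surjective ι := by
    intro z
    obtain ⟨u, v, hv, rfl⟩ := IsFractionRing.div_surjective (A := Ap ⧸ q0) z
    obtain ⟨u, rfl⟩ := Ideal.Quotient.mk_surjective u
    obtain ⟨v, rfl⟩ := Ideal.Quotient.mk_surjective v
    have hl : ∀ w : Ap, ∃ f, ι f = algebraMap Ap κ w := fun w => by
      obtain ⟨a, s, rfl⟩ := IsLocalization.exists_mk'_eq P.primeCompl w
      refine ⟨algebraMap _ _ (Ideal.Quotient.mk q a) / algebraMap _ _ (Ideal.Quotient.mk q (s : A)), ?_⟩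
      have hs : algebraMap A κ s ≠ 0 := by
        rw [IsScalarTower.algebraMap_apply A Ap κ]
        exact ((IsLocalization.map_units Ap s).map (algebraMap Ap κ)).ne_zero
      rw [map_div₀, IsFractionRing.lift_algebraMap, IsFractionRing.lift_algebraMap, Ideal.Quotient.lift_mk,
        Ideal.Quotient.lift_mk, div_eq_iff hs, IsScalarTower.algebraMap_apply A Ap κ,
        IsScalarTower.algebraMap_apply A Ap κ, ← map_mul, IsLocalization.mk'_spec]
    obtain ⟨fu, hfu⟩ := hl u
    obtain ⟨fv, hfv⟩ := hl v
    refine ⟨fu / fv, ?_⟩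
    rw [map_div₀, hfu, hfv]
    rfl
  letI : Algebra (A ⧸ q) k' := ((algebraMap κ k').comp ι0).toAlgebra
  have : IsScalarTower A (A ⧸ q) k' := IsScalarTower.of_algebraMap_eq fun _ => rfl
  letI : Algebra (FractionRing (A ⧸ q)) κ := ι.toAlgebra
  letI : Algebra (FractionRing (A ⧸ q)) k' := ((algebraMap κ k').comp ι).toAlgebra
  have : IsScalarTower (FractionRing (A ⧸ q)) κ k' := IsScalarTower.of_algebraMap_eq fun _ => rfl
  have : IsScalarTower (A ⧸ q) (FractionRing (A ⧸ q)) k' := IsScalarTower.of_algebraMap_eq fun x => by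
    show algebraMap κ k' (ι0 x) = algebraMap κ k' (ι (algebraMap _ _ x))
    rw [IsFractionRing.lift_algebraMap]
  have : Module.Finite (FractionRing (A ⧸ q)) κ :=
    Module.Finite.of_surjective (Algebra.linearMap (FractionRing (A ⧸ q)) κ) hι
  have : Module.Finite (FractionRing (A ⧸ q)) k' := Module.Finite.trans κ k'
  have : IsRegularRing (k' ⊗[A] Ah) := isRegularRing_tensor_formal_ft A0 A P q hqP k'
  have : TensorProduct.CompatibleSMul A Ap k' Ah := IsLocalization.tensorProduct_compatibleSMul P.primeCompl Ap k' Ah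
  exact IsRegularRing.of_ringEquiv (R := k' ⊗[A] Ah)
    ((Algebra.TensorProduct.equivOfCompatibleSMul Ap A A k' Ah).toRingEquiv.trans
      (Algebra.TensorProduct.cancelBaseChange Ap κ k' k' Ah).toRingEquiv.symm)

end Groth.Agent.EGA4H10
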