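import Groth.Agent.EGA4H10.SepFamily
import Groth.Agent.EGA4H10.J2Criterion
import Groth.Agent.CAlg1.Regular
import Mathlib

/-!
# Generic regularity through derivations
-/

set_option autoImplicit false
set_option linter.style.haveILetI false
universe u

open IsLocalRing Polynomial

namespace Groth.Agent.EGA4H10

/-- an element with unit derivative is not in the square of the maximal ideal -/
theorem notMem_sq_of_derivation {R : Type*} {A : Type u} [CommRing R] [CommRing A] [Algebra R A] (P : Ideal A) [P.IsPrime]
    (Δ : Derivation R A A) (F : A) (hF : Δ F ∉ P) (hFP : F ∈ P) :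
    algebraMap A (Localization.AtPrime P) F ∉ maximalIdeal (Localization.AtPrime P) ^ 2 := by
  intro h
  rw [← Localization.AtPrime.map_eq_maximalIdeal, ← Ideal.map_pow,
    IsLocalization.algebraMap_mem_map_algebraMap_iff P.primeCompl] at h
  obtain ⟨u, hu, huF⟩ := h
  have hΔ : ∀ z ∈ P ^ 2, Δ z ∈ P := by
    intro z hz
    rw [pow_two] at hz
    refine Submodule.mul_induction_on hz (fun x hx y hy => ?_) (fun x y hx hy => by rw [map_add]; exact add_mem hx hy)
    rw [Derivation.leibniz, smul_eq_mul, smul_eq_mul]
    exact add_mem (P.mul_mem_right _ hx) (P.mul_mem_right _ hy)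
  have h2 := hΔ _ huF
  rw [Derivation.leibniz, smul_eq_mul, smul_eq_mul] at h2
  exact (Ideal.IsPrime.mem_or_mem ‹P.IsPrime› ((P.add_mem_iff_left (P.mul_mem_right _ hFP)).1 h2)).elim hu hF

theorem regular_quotient_of_derivation {R : Type*} {A B : Type u} [CommRing R] [CommRing A] [Algebra R A] [IsNoetherianRing A]
    [CommRing B] (f : A →+* B)
    (hf : Function.Surjective f) (F : A) (hker : RingHom.ker f = Ideal.span {F}) (Δ : Derivation R A A)
    (Q : Ideal B) [Q.IsPrime] [IsRegularLocalRing (Localization.AtPrime (Q.comap f))]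
    (hF : Δ F ∉ Q.comap f) : IsRegularLocalRing (Localization.AtPrime Q) := by
  let P := Q.comap f
  let AP := Localization.AtPrime P
  have hFP : F ∈ P := by
    have : F ∈ RingHom.ker f := hker ▸ Ideal.mem_span_singleton_self F
    show f F ∈ Q
    rw [RingHom.mem_ker.1 this]
    exact Q.zero_mem
  let φ : AP →+* Localization.AtPrime Q := Localization.localRingHom P Q f rfl
  have hφs : Function.Surjective φ := by
    intro z
    obtain ⟨x, s, rfl⟩ := IsLocalization.exists_mk'_eq Q.primeCompl z
    obtain ⟨x0, rfl⟩ := hf x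
    obtain ⟨s0, hs0⟩ := hf s
    have hs0' : s0 ∉ P := fun hm => s.2 (hs0 ▸ (hm : f s0 ∈ Q))
    refine ⟨IsLocalization.mk' _ x0 (⟨s0, hs0'⟩ : P.primeCompl), ?_⟩
    rw [Localization.localRingHom_mk']
    congr 1
    exact Subtype.ext hs0
  have hφk : RingHom.ker φ = Ideal.span {algebraMap A AP F} := by
    refine le_antisymm (fun z hz => ?_) ?_
    · obtain ⟨x, s, rfl⟩ := IsLocalization.exists_mk'_eq P.primeCompl z
      rw [RingHom.mem_ker, Localization.localRingHom_mk', IsLocalization.mk'_eq_zero_iff] at hz
      obtain ⟨⟨t, ht⟩, htx⟩ := hz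
      obtain ⟨t0, rfl⟩ := hf t
      have hmem : t0 * x ∈ RingHom.ker f := by rw [RingHom.mem_ker, map_mul]; exact htx
      rw [hker, Ideal.mem_span_singleton'] at hmem
      obtain ⟨c, hc⟩ := hmem
      rw [IsLocalization.mk'_eq_mul_mk'_one]
      refine Ideal.mul_mem_right _ _ ((Ideal.unit_mul_mem_iff_mem _
        (IsLocalization.map_units AP (⟨t0, fun hm => ht hm⟩ : P.primeCompl))).1 ?_)
      rw [← map_mul, ← hc, map_mul]
      exact Ideal.mul_mem_left _ _ (Ideal.mem_span_singleton_self _)
    · rw [Ideal.span_le, Set.singleton_subset_iff, SetLike.mem_coe, RingHom.mem_ker, Localization.localRingHom_to_map,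
        RingHom.mem_ker.1 (hker ▸ Ideal.mem_span_singleton_self F : F ∈ RingHom.ker f), map_zero]
  have hm : algebraMap A AP F ∈ maximalIdeal AP := (IsLocalization.AtPrime.to_map_mem_maximal_iff AP P F).2 hFP
  have := (CAlg1.regular_quotient_singleton hm (notMem_sq_of_derivation P Δ F hF hFP)).1
  exact IsRegularLocalRing.of_ringEquiv ((Ideal.quotEquivOfEq hφk.symm).trans
    (RingHom.quotientKerEquivOfSurjective hφs))

theorem regAway_polynomial {R : Type u} [CommRing R] [IsNoetherianRing R] (g : R) (h : RegAway R g) :
    RegAway R[X] (Polynomial.C g) := by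
  have h1 := RegAway.of_equiv (MvPolynomial.uniqueAlgEquiv R PUnit.{u+1}).toRingEquiv (regAway_mvPolynomial g h PUnit.{u+1})
  convert h1 using 1
  simp

/-- adjoining a `p`-th root preserves generic regularity -/
theorem regAway_step {C L : Type u} [CommRing C] [IsDomain C] [IsNoetherianRing C] [Field L] [Algebra C L]
    [FaithfulSMul C L] (p : ℕ) [Fact p.Prime] [CharP C p] (h : C) (h0 : h ≠ 0) (hreg : RegAway C h)
    (hder : ∀ a : C, (∀ y : FractionRing C, y ^ p ≠ algebraMap C (FractionRing C) a) →
      ∃ D : Derivation ℤ C C, D a ≠ 0)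
    (y : L) (a : C) (hy : y ^ p = algebraMap C L a) :
    ∃ g : Algebra.adjoin C {y}, g ≠ 0 ∧ RegAway (Algebra.adjoin C {y}) g := by
  classical
  let K := FractionRing C
  letI : Algebra K L := FractionRing.liftAlgebra C L
  have : IsScalarTower C K L := FractionRing.isScalarTower_liftAlgebra C L
  have hinjL : Function.Injective (algebraMap C L) := FaithfulSMul.algebraMap_injective C L
  have hinjS : ∀ {S : Subalgebra C L}, Function.Injective (algebraMap C S) := fun {S} x z hxz =>
    hinjL (congrArg Subtype.val hxz)
  let S := Algebra.adjoin C {y}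
  by_cases hK : ∃ w : K, w ^ p = algebraMap C K a
  · -- the root lies in the fraction field
    obtain ⟨w, hw⟩ := hK
    have : CharP L p := charP_of_injective_algebraMap hinjL p
    have hwy : algebraMap K L w = y := frobenius_inj L p (by
      show algebraMap K L w ^ p = y ^ p
      rw [hy, ← map_pow, hw, ← IsScalarTower.algebraMap_apply])
    obtain ⟨c, v, hv, hcv⟩ := IsFractionRing.div_surjective (A := C) w
    have hv0 : v ≠ 0 := nonZeroDivisors.ne_zero hv
    have hvy : algebraMap C L v * y = algebraMap C L c := by
      rw [← hwy, ← hcv, map_div₀, ← IsScalarTower.algebraMap_apply, ← IsScalarTower.algebraMap_apply,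
        mul_div_cancel₀ _ ((map_ne_zero_iff _ hinjL).2 hv0)]
    have hS : ∀ z ∈ S, ∃ (m : ℕ) (d : C), algebraMap C L v ^ m * z = algebraMap C L d := by
      intro z hz
      induction hz using Algebra.adjoin_induction with
      | mem x hx => exact ⟨1, c, by rw [pow_one, Set.mem_singleton_iff.1 hx, hvy]⟩
      | algebraMap r => exact ⟨0, r, by rw [pow_zero, one_mul]⟩
      | add x x' _ _ h1 h2 =>
        obtain ⟨m, d, h1⟩ := h1
        obtain ⟨m', d', h2⟩ := h2
        refine ⟨m + m', v ^ m' * d + v ^ m * d', ?_⟩
        simp only [map_add, map_mul, map_pow, pow_add, ← h1, ← h2]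
        ring
      | mul x x' _ _ h1 h2 =>
        obtain ⟨m, d, h1⟩ := h1
        obtain ⟨m', d', h2⟩ := h2
        refine ⟨m + m', d * d', ?_⟩
        simp only [map_mul, pow_add, ← h1, ← h2]
        ring
    have hhv : h * v ≠ 0 := mul_ne_zero h0 hv0
    refine ⟨algebraMap C S (h * v), (map_ne_zero_iff _ hinjS).2 hhv, ?_⟩
    have : IsRegularRing (Localization.Away (h * v)) :=
      isRegularRing_away _ fun P _ hP => hreg P fun hm => hP (P.mul_mem_right _ hm)
    let Sg := Localization.Away (algebraMap C S (h * v))
    have hinjSg : Function.Injective (algebraMap S Sg) :=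
      IsLocalization.injective Sg (powers_le_nonZeroDivisors_of_noZeroDivisors ((map_ne_zero_iff _ hinjS).2 hhv))
    have hloc : IsLocalization (Submonoid.powers (h * v)) Sg := by
      refine ⟨?_, ?_, ?_⟩
      · rintro ⟨_, n, rfl⟩
        show IsUnit (algebraMap C Sg ((h * v) ^ n))
        rw [map_pow, IsScalarTower.algebraMap_apply C S Sg]
        exact (IsLocalization.Away.algebraMap_isUnit (algebraMap C S (h * v))).pow n
      · intro z
        obtain ⟨s, ⟨_, n, rfl⟩, rfl⟩ := IsLocalization.exists_mk'_eq (Submonoid.powers (algebraMap C S (h * v))) z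
        obtain ⟨m, d, hd⟩ := hS s s.2
        have key : algebraMap C S ((h * v) ^ m) * s = algebraMap C S (h ^ m * d) := Subtype.ext (by
          show algebraMap C L ((h * v) ^ m) * (s : L) = algebraMap C L (h ^ m * d)
          simp only [map_pow, map_mul, ← hd]
          ring)
        refine ⟨(h ^ m * d, ⟨(h * v) ^ (n + m), n + m, rfl⟩), ?_⟩
        show IsLocalization.mk' Sg s _ * algebraMap C Sg ((h * v) ^ (n + m)) = algebraMap C Sg (h ^ m * d)
        have hspec := IsLocalization.mk'_spec Sg s
          (⟨algebraMap C S (h * v) ^ n, n, rfl⟩ : Submonoid.powers (algebraMap C S (h * v)))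
        have key' := congrArg (algebraMap S Sg) key
        simp only [map_mul, map_pow, ← IsScalarTower.algebraMap_apply C S Sg, pow_add] at key' hspec ⊢
        rw [← key']
        linear_combination (algebraMap C Sg h * algebraMap C Sg v) ^ m * hspec
      · intro x z hxz
        rw [IsScalarTower.algebraMap_apply C S Sg, IsScalarTower.algebraMap_apply C S Sg] at hxz
        exact ⟨1, by rw [hinjS (hinjSg hxz)]⟩
    have : IsRegularRing Sg := IsRegularRing.of_ringEquiv
      (IsLocalization.algEquiv (Submonoid.powers (h * v)) (Localization.Away (h * v)) Sg).toRingEquiv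
    intro Q _ hQ
    refine regular_atPrime_of_isLocalization (Submonoid.powers (algebraMap C S (h * v))) Sg Q ?_
    rw [Ideal.disjoint_powers_iff_notMem_of_isPrime]
    exact hQ
  · -- a proper extension of degree `p`
    push Not at hK
    obtain ⟨D, hD⟩ := hder a hK
    let f : C[X] →ₐ[C] S := Polynomial.aeval ⟨y, Algebra.subset_adjoin rfl⟩
    have hf : Function.Surjective f := by
      rintro ⟨z, hz⟩
      rw [show S = _ from Algebra.adjoin_singleton_eq_range_aeval C y] at hz
      obtain ⟨q, rfl⟩ := hz
      exact ⟨q, Subtype.ext (Polynomial.aeval_subalgebra_coe q S _)⟩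
    let F : C[X] := X ^ p - Polynomial.C a
    have hFm : F.Monic := monic_X_pow_sub_C _ (Fact.out : p.Prime).ne_zero
    have hFy : f F = 0 := Subtype.ext (by simp [f, F, hy])
    have hker : RingHom.ker f.toRingHom = Ideal.span {F} := by
      refine le_antisymm (fun q hq => ?_) ((Ideal.span_singleton_le_iff_mem _).2 hFy)
      have hq' : Polynomial.aeval y (q %ₘ F) = 0 := by
        have h1 : f q = 0 := hq
        rw [← Polynomial.modByMonic_add_div q F, map_add, map_mul, hFy, zero_mul, add_zero] at h1
        have h2 := congrArg Subtype.val h1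
        rwa [Polynomial.aeval_subalgebra_coe] at h2
      have hirr : Irreducible (X ^ p - Polynomial.C (algebraMap C K a)) :=
        X_pow_sub_C_irreducible_of_prime Fact.out fun b => hK b
      have hmin := (minpoly.eq_of_irreducible_of_monic hirr (x := y) (by simp [hy, ← IsScalarTower.algebraMap_apply])
        (monic_X_pow_sub_C _ (Fact.out : p.Prime).ne_zero)).symm
      have hr : (q %ₘ F).map (algebraMap C K) = 0 := by
        refine eq_zero_of_dvd_of_degree_lt (minpoly.dvd K y (by rw [aeval_map_algebraMap]; exact hq')) ?_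
        rw [hmin, degree_X_pow_sub_C (Fact.out : p.Prime).pos]
        refine lt_of_le_of_lt degree_map_le ((degree_modByMonic_lt q hFm).trans_le ?_)
        rw [degree_X_pow_sub_C (Fact.out : p.Prime).pos]
      rw [Polynomial.map_eq_zero_iff (IsFractionRing.injective C K)] at hr
      rw [Ideal.mem_span_singleton]
      exact (Polynomial.modByMonic_eq_zero_iff_dvd hFm).1 hr
    refine ⟨algebraMap C S (h * D a), (map_ne_zero_iff _ hinjS).2 (mul_ne_zero h0 hD), fun Q _ hQ => ?_⟩
    let P := Q.comap f.toRingHom
    have hCP : ∀ c, Polynomial.C c ∈ P ↔ algebraMap C S c ∈ Q := fun c => by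
      show f (Polynomial.C c) ∈ Q ↔ _
      rw [show f (Polynomial.C c) = algebraMap C S c from Polynomial.aeval_C _ _]
    have := regAway_polynomial h hreg P fun hm => hQ (by rw [map_mul]; exact Q.mul_mem_right _ ((hCP h).1 hm))
    letI : Differential C := ⟨D⟩
    refine regular_quotient_of_derivation f.toRingHom hf F hker Differential.mapCoeffs Q ?_
    have hΔ : Differential.mapCoeffs F = -Polynomial.C (D a) := by
      rw [show F = X ^ p - Polynomial.C a from rfl, map_sub, Derivation.leibniz_pow, Differential.mapCoeffs_X, smul_zero, smul_zero, zero_sub,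
        Differential.mapCoeffs_C]
      rfl
    rw [hΔ, neg_mem_iff]
    exact fun hm => hQ (by rw [map_mul]; exact Q.mul_mem_left _ ((hCP _).1 hm))

/-- finite domains over a domain with enough derivations are generically regular -/
theorem regAway_of_derivations (p : ℕ) [Fact p.Prime] {R : Type u} [CommRing R] [IsDomain R] [IsNoetherianRing R]
    [CharP R p] (r : R) (r0 : r ≠ 0) (hr : RegAway R r)
    (hder : ∀ (C : Type u) [CommRing C] [IsDomain C] [Algebra R C] [Module.Finite R C] [FaithfulSMul R C]
      (a : C), (∀ y : FractionRing C, y ^ p ≠ algebraMap C (FractionRing C) a) → ∃ D : Derivation ℤ C C, D a ≠ 0)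
    (B : Type u) [CommRing B] [IsDomain B] [Algebra R B] [Module.Finite R B] [FaithfulSMul R B] :
    ∃ b : B, b ≠ 0 ∧ RegAway B b := by
  classical
  let L := FractionRing B
  have hinjL : Function.Injective (algebraMap R L) := by
    rw [IsScalarTower.algebraMap_eq R B L]
    exact (IsFractionRing.injective B L).comp (FaithfulSMul.algebraMap_injective R B)
  have : FaithfulSMul R L := (faithfulSMul_iff_algebraMap_injective R L).2 hinjL
  let K := FractionRing R
  letI : Algebra K L := FractionRing.liftAlgebra R L
  have : IsScalarTower R K L := FractionRing.isScalarTower_liftAlgebra R L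
  have : Module.Finite K L := OmegaHat14.finite_fractionRing R B
  have : CharP L p := charP_of_injective_algebraMap hinjL p
  have : CharP K p := charP_of_injective_algebraMap (IsFractionRing.injective R K) p
  have : ExpChar K p := .prime Fact.out
  obtain ⟨X0, hX0⟩ := (Module.Finite.fg_top : (⊤ : Submodule R B).FG)
  let X : Finset L := X0.image (algebraMap B L)
  have hXint : ∀ x ∈ X, IsIntegral R x := fun x hx => by
    obtain ⟨b, -, rfl⟩ := Finset.mem_image.1 hx
    exact (Algebra.IsIntegral.isIntegral b).algebraMap
  have hm : ∀ x : L, ∃ m : ℕ, IsSeparable K (x ^ p ^ m) := fun x => by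
    obtain ⟨m, z, hz⟩ := IsPurelyInseparable.pow_mem (F := separableClosure K L) p x
    exact ⟨m, hz ▸ mem_separableClosure_iff.1 z.2⟩
  choose m hm using hm
  let N := X.sum m
  have hN : ∀ x ∈ X, IsSeparable K (x ^ p ^ N) := fun x hx => by
    obtain ⟨j, hj⟩ := Nat.exists_eq_add_of_le (Finset.single_le_sum (fun i _ => Nat.zero_le (m i)) hx : m x ≤ N)
    rw [show N = m x + j from hj, pow_add, pow_mul]
    exact mem_separableClosure_iff.1 (pow_mem (mem_separableClosure_iff.2 (hm x)) _)
  let G : Finset L → Prop := fun T => (∀ t ∈ T, IsIntegral R t) ∧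
    ∃ g : Algebra.adjoin R (T : Set L), g ≠ 0 ∧ RegAway (Algebra.adjoin R (T : Set L)) g
  have hstep : ∀ (T : Finset L) (y : L), G T → y ^ p ∈ Algebra.adjoin R (T : Set L) → IsIntegral R y → G (insert y T) := by
    rintro T y ⟨hT, g, hg0, hg⟩ hy hyint
    refine ⟨fun t ht => (Finset.mem_insert.1 ht).elim (fun h => h ▸ hyint) (hT t), ?_⟩
    let C := Algebra.adjoin R (T : Set L)
    have : Module.Finite R C := Module.Finite.iff_fg.2 (fg_adjoin_of_finite T.finite_toSet hT)
    have : IsNoetherianRing C := isNoetherian_of_tower R inferInstance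
    have : FaithfulSMul R C := (faithfulSMul_iff_algebraMap_injective R C).2 fun a b hab =>
      hinjL (congrArg Subtype.val hab)
    have : CharP C p := charP_of_injective_algebraMap (FaithfulSMul.algebraMap_injective R C) p
    have : FaithfulSMul C L := (faithfulSMul_iff_algebraMap_injective C L).2 Subtype.val_injective
    obtain ⟨g', hg'0, hg'⟩ := regAway_step p g hg0 hg (hder C) y ⟨y ^ p, hy⟩ rfl
    have heq : Algebra.adjoin R ((insert y T : Finset L) : Set L) = (Algebra.adjoin C {y}).restrictScalars R := by
      rw [Finset.coe_insert, Set.insert_eq, Set.union_comm, Algebra.adjoin_union_eq_adjoin_adjoin]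
    let e : Algebra.adjoin C {y} ≃+* Algebra.adjoin R ((insert y T : Finset L) : Set L) :=
      (Subalgebra.equivOfEq _ _ heq.symm).toRingEquiv
    exact ⟨e g', (map_ne_zero_iff _ e.injective).2 hg'0, hg'.of_equiv e⟩
  -- the separable bottom
  have hbase : G (X.image (· ^ p ^ N)) := by
    refine ⟨fun t ht => ?_, exists_regAway_adjoin r r0 hr _ fun t ht => ?_⟩
    · obtain ⟨x, hx, rfl⟩ := Finset.mem_image.1 ht
      exact (hXint x hx).pow _
    · obtain ⟨x, hx, rfl⟩ := Finset.mem_image.1 ht
      exact hN x hx
  have hdown : ∀ j : ℕ, ∀ T, G T → (∀ x ∈ X, x ^ p ^ j ∈ Algebra.adjoin R (T : Set L)) →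
      ∃ T', G T' ∧ ∀ x ∈ X, x ∈ Algebra.adjoin R (T' : Set L) := by
    intro j
    induction j with
    | zero => exact fun T hT h => ⟨T, hT, fun x hx => by simpa using h x hx⟩
    | succ j ih =>
      intro T hT h
      suffices key : ∀ U : Finset L, U ⊆ X → ∃ T', G T' ∧ T ⊆ T' ∧ ∀ x ∈ U, x ^ p ^ j ∈ Algebra.adjoin R (T' : Set L) by
        obtain ⟨T', hT', -, h'⟩ := key X le_rfl
        exact ih T' hT' h'
      intro U
      induction U using Finset.induction_on with
      | empty => exact fun _ => ⟨T, hT, le_rfl, by simp⟩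
      | @insert x U hxU ihU =>
        intro hsub
        obtain ⟨T', hT', hTT', h'⟩ := ihU ((Finset.subset_insert _ _).trans hsub)
        have hxX := hsub (Finset.mem_insert_self _ _)
        refine ⟨insert (x ^ p ^ j) T', hstep T' _ hT' ?_ ((hXint x hxX).pow _),
          hTT'.trans (Finset.subset_insert _ _), fun z hz => ?_⟩
        · rw [← pow_mul, ← pow_succ]
          exact Algebra.adjoin_mono (Finset.coe_subset.2 hTT') (h x hxX)
        · rcases Finset.mem_insert.1 hz with rfl | hz
          · exact Algebra.subset_adjoin (Finset.mem_coe.2 (Finset.mem_insert_self _ _))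
          · exact Algebra.adjoin_mono (Finset.coe_subset.2 (Finset.subset_insert _ _)) (h' z hz)
  obtain ⟨T, ⟨hTint, g, hg0, hg⟩, hT⟩ := hdown N _ hbase fun x hx =>
    Algebra.subset_adjoin (Finset.mem_coe.2 (Finset.mem_image_of_mem _ hx))
  let C := Algebra.adjoin R (T : Set L)
  have : Module.Finite R C := Module.Finite.iff_fg.2 (fg_adjoin_of_finite T.finite_toSet hTint)
  have hBC : ∀ b : B, algebraMap B L b ∈ C := fun b => by
    have hb : b ∈ Submodule.span R (X0 : Set B) := hX0 ▸ Submodule.mem_top
    induction hb using Submodule.span_induction with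
    | mem z hz => exact hT _ (Finset.mem_image_of_mem _ hz)
    | zero => rw [map_zero]; exact zero_mem _
    | add u v _ _ hu hv => rw [map_add]; exact add_mem hu hv
    | smul c u _ hu =>
      rw [Algebra.smul_def, map_mul, ← IsScalarTower.algebraMap_apply]
      exact mul_mem (Subalgebra.algebraMap_mem _ c) hu
  letI : Algebra B C := ((algebraMap B L).codRestrict C hBC).toAlgebra
  have : IsScalarTower R B C := IsScalarTower.of_algebraMap_eq fun c => Subtype.ext
    (IsScalarTower.algebraMap_apply R B L c)
  have : Module.Finite B C := Module.Finite.of_restrictScalars_finite R B C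
  have : IsNoetherianRing B := isNoetherian_of_tower R inferInstance
  have : FaithfulSMul B C := (faithfulSMul_iff_algebraMap_injective B C).2 fun a b hab =>
    IsFractionRing.injective B L (congrArg Subtype.val hab)
  exact regAway_of_finite g hg0 hg

end Groth.Agent.EGA4H10
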