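import Groth.Agent.E4O.DvrDom
import Groth.Agent.FBase64.TensorField
import Mathlib

/-!
# Integral closure commutes with flat base change with geometrically reduced fibres
-/

set_option autoImplicit false
universe u

open scoped TensorProduct
open Polynomial

namespace Groth.Agent.EGA4H10.IntClosBC

variable {R : Type u} [CommRing R] {R' : Type u} [CommRing R'] [Algebra R R'] [Module.Flat R R']

/-- integrality descends to a discrete valuation ring -/
theorem mem_range_dvr (hgeo : ∀ (p : Ideal R) [p.IsPrime], Algebra.IsGeometricallyReduced p.ResidueField (p.Fiber R'))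
    (V L : Type u) [CommRing V] [IsDomain V] [IsDiscreteValuationRing V] [Field L] [Algebra R L] [Algebra V L]
    [Algebra R V] [IsScalarTower R V L] [IsFractionRing V L]
    (x : R' ⊗[R] L) (hx : IsIntegral R' x) :
    x ∈ (Algebra.TensorProduct.map (AlgHom.id R R') (IsScalarTower.toAlgHom R V L)).range := by
  classical
  let j := Algebra.TensorProduct.map (AlgHom.id R' R') (IsScalarTower.toAlgHom R V L)
  have hj : Function.Injective j :=
    Module.Flat.lTensor_preserves_injective_linearMap (M := R') (IsScalarTower.toAlgHom R V L).toLinearMap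
      (IsFractionRing.injective V L)
  obtain ⟨π, hπ⟩ := IsDiscreteValuationRing.exists_irreducible V
  let P : R' ⊗[R] V := 1 ⊗ₜ π
  let κ := V ⧸ Ideal.span {π}
  let mk : V →ₐ[R] κ := Ideal.Quotient.mkₐ R _
  let red := Algebra.TensorProduct.map (AlgHom.id R R') mk
  have hker : ∀ y, red y = 0 → ∃ z, y = P * z := by
    intro y hy
    have hy' : y ∈ RingHom.ker red := hy
    rw [Algebra.TensorProduct.lTensor_ker mk Ideal.Quotient.mk_surjective,
      show RingHom.ker mk = Ideal.span {π} from Ideal.mk_ker, Ideal.map_span, Set.image_singleton,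
      Ideal.mem_span_singleton] at hy'
    exact hy'
  have : IsReduced (R' ⊗[R] κ) := by
    have : (Ideal.span {π}).IsMaximal := (IsDiscreteValuationRing.irreducible_iff_uniformizer π).1 hπ ▸
      IsLocalRing.maximalIdeal.isMaximal V
    let := Ideal.Quotient.field (Ideal.span {π})
    let q := RingHom.ker (algebraMap R κ)
    have : q.IsPrime := RingHom.ker_isPrime _
    let : Algebra q.ResidueField κ := (Ideal.ResidueField.lift q (algebraMap R κ) le_rfl
      fun s hs => isUnit_iff_ne_zero.2 hs).toAlgebra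
    have : IsScalarTower R q.ResidueField κ := .of_algebraMap_eq fun r =>
      (Ideal.ResidueField.lift_algebraMap _ _ _ _ r).symm
    have := hgeo q
    have : IsReduced (κ ⊗[q.ResidueField] q.Fiber R') :=
      FBase64.isReduced_tensor_of_geomReduced q.ResidueField (q.Fiber R') κ
    have : IsReduced (κ ⊗[R] R') := isReduced_of_injective
      (Algebra.TensorProduct.cancelBaseChange R q.ResidueField q.ResidueField κ R').symm (AlgEquiv.injective _)
    exact isReduced_of_injective (Algebra.TensorProduct.comm R R' κ) (AlgEquiv.injective _)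
  have hex : ∀ y : R' ⊗[R] L, ∃ n, j (P ^ n) * y ∈ Set.range j := by
    intro y
    induction y with
    | zero => exact ⟨0, 0, by simp⟩
    | tmul r l =>
      obtain ⟨a, b, hb, rfl⟩ := IsFractionRing.div_surjective (A := V) l
      obtain ⟨v, n, rfl⟩ := IsDiscreteValuationRing.eq_unit_mul_pow_irreducible (nonZeroDivisors.ne_zero hb) hπ
      refine ⟨v, r ⊗ₜ (a * (n⁻¹ : Vˣ)), ?_⟩
      simp only [j, P, Algebra.TensorProduct.tmul_pow, one_pow, Algebra.TensorProduct.map_tmul,
        AlgHom.coe_id, id_eq, Algebra.TensorProduct.tmul_mul_tmul, one_mul]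
      congr 1
      show algebraMap V L (a * (n⁻¹ : Vˣ)) = algebraMap V L (π ^ v) * (algebraMap V L a / algebraMap V L (n * π ^ v))
      have hπ0 : algebraMap V L (π ^ v) ≠ 0 := by
        rw [ne_eq, IsFractionRing.to_map_eq_zero_iff]; exact pow_ne_zero _ hπ.ne_zero
      have hn0 : algebraMap V L n ≠ 0 := (n.isUnit.map (algebraMap V L)).ne_zero
      have hinv : algebraMap V L (n⁻¹ : Vˣ) * algebraMap V L n = 1 := by
        rw [← map_mul, Units.inv_mul, map_one]
      rw [map_mul, map_mul, ← mul_div_assoc, mul_comm (algebraMap V L n), mul_div_mul_left _ _ hπ0, eq_div_iff hn0,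
        mul_assoc, hinv, mul_one]
    | add y z hy hz =>
      obtain ⟨n, a, ha⟩ := hy
      obtain ⟨m, b, hb⟩ := hz
      refine ⟨n + m, P ^ m * a + P ^ n * b, ?_⟩
      rw [map_add, map_mul j _ a, map_mul j _ b, ha, hb, pow_add, map_mul]
      ring
  obtain ⟨p, hp, hpx⟩ := hx
  suffices ∀ n, j (P ^ n) * x ∈ Set.range j → x ∈ Set.range j by
    obtain ⟨n, hn⟩ := hex x
    exact this n hn
  intro n
  induction n with
  | zero => intro h; simpa using h
  | succ n ih =>
    rintro ⟨y, hy⟩
    let c := P ^ (n + 1)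
    let pT := p.map (algebraMap R' (R' ⊗[R] V))
    have h1 : eval₂ j.toRingHom x pT = 0 := by
      rw [eval₂_map, show j.toRingHom.comp (algebraMap R' (R' ⊗[R] V)) = algebraMap R' (R' ⊗[R] L) from
        j.comp_algebraMap, hpx]
    have h2 := scaleRoots_eval₂_eq_zero j.toRingHom (s := c) h1
    rw [show j.toRingHom c * x = j.toRingHom y from hy.symm] at h2
    have h3 : eval₂ (RingHom.id _) y (scaleRoots pT c) = 0 := hj <| by
      rw [map_zero]
      exact (Polynomial.hom_eval₂ _ _ j.toRingHom y).trans h2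
    have hc : red c = 0 := by
      show red (P ^ (n + 1)) = 0
      rw [map_pow, show red P = 0 from by
        simp only [red, P, Algebra.TensorProduct.map_tmul]
        rw [show mk π = 0 from Ideal.Quotient.eq_zero_iff_mem.2 (Ideal.mem_span_singleton_self π), TensorProduct.tmul_zero],
        zero_pow (Nat.succ_ne_zero n)]
    have hmon : pT.Monic := hp.map _
    have h4 : red y ^ pT.natDegree = 0 := by
      have h := congrArg red h3
      rw [map_zero, eval₂_eq_sum_range, natDegree_scaleRoots, Finset.sum_range_succ, map_add, map_sum,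
        Finset.sum_eq_zero (fun i hi => ?_), zero_add, coeff_scaleRoots, hmon.coeff_natDegree, one_mul,
        Nat.sub_self, pow_zero, map_one, one_mul, map_pow] at h
      · exact h
      · rw [RingHom.id_apply, coeff_scaleRoots, map_mul, map_mul, map_pow, hc,
          zero_pow (Nat.sub_ne_zero_of_lt (Finset.mem_range.1 hi)), mul_zero, zero_mul]
    obtain ⟨z, rfl⟩ := hker y (eq_zero_of_pow_eq_zero h4)
    refine ih ⟨z, ?_⟩
    have hu : IsUnit (j P) := by
      have : IsUnit (algebraMap V L π) := isUnit_iff_ne_zero.2 (by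
        rw [ne_eq, IsFractionRing.to_map_eq_zero_iff]; exact hπ.ne_zero)
      exact this.map (Algebra.TensorProduct.includeRight : L →ₐ[R] R' ⊗[R] L)
    refine hu.mul_left_cancel ?_
    rw [← map_mul, hy, ← mul_assoc, ← map_mul, ← pow_succ']

variable [IsNoetherianRing R] {L : Type u} [Field L] [Algebra R L]

set_option synthInstance.maxHeartbeats 100000 in
omit [CommRing R'] in
/-- a discrete valuation ring detecting a non-integral element, with prescribed units -/
theorem exists_dvr (hgen : ∃ G : Finset L, ∀ K' : Subfield L, (∀ a, algebraMap R L a ∈ K') → (∀ g ∈ G, g ∈ K') → K' = ⊤)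
    (p : Ideal R) [p.IsPrime] (m : L) (hm : ∀ s ∉ p, ¬ IsIntegral R (s • m)) :
    ∃ V : ValuationSubring L, IsDiscreteValuationRing V ∧ (∀ a, algebraMap R L a ∈ V) ∧
      (∀ s ∉ p, (algebraMap R L s)⁻¹ ∈ V) ∧ m ∉ V := by
  classical
  have hm0 : m ≠ 0 := fun h => hm 1 p.one_notMem (by rw [h, smul_zero]; exact isIntegral_zero)
  let B := Algebra.adjoin R {m⁻¹}
  have : Algebra.FiniteType R B := Algebra.FiniteType.adjoin_of_finite (Set.finite_singleton _)
  have : IsNoetherianRing B := Algebra.FiniteType.isNoetherianRing R B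
  let u : B := ⟨m⁻¹, Algebra.self_mem_adjoin_singleton R _⟩
  have hI : (Ideal.span {u}).comap (algebraMap R B) ≤ p := by
    intro s hs
    by_contra hsp
    obtain ⟨b, hb⟩ := Ideal.mem_span_singleton'.1 hs
    obtain ⟨f, hf⟩ := (Algebra.adjoin_singleton_eq_range_aeval R m⁻¹).le b.2
    let h := C s - f * X
    have h0 : aeval m⁻¹ h = 0 := by
      have h1 : (b : L) * m⁻¹ = algebraMap R L s := congrArg Subtype.val hb
      rw [map_sub, map_mul, aeval_C, aeval_X, show aeval m⁻¹ f = (b : L) from hf, h1, sub_self]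
    have hc : h.coeff 0 = s := by simp [h]
    have hs0 : s ≠ 0 := fun e => hsp (e ▸ zero_mem p)
    have htr : h.reverse.leadingCoeff = s := by
      rw [reverse_leadingCoeff, trailingCoeff, natTrailingDegree_eq_zero.2 (Or.inr (hc.trans_ne hs0)), hc]
    let : Invertible m⁻¹ := invertibleOfNonzero (inv_ne_zero hm0)
    have h2 : aeval m h.reverse = 0 := by
      have h3 := (eval₂_reverse_eq_zero_iff (algebraMap R L) m⁻¹ h).2 h0
      rw [invOf_eq_inv, inv_inv] at h3
      exact h3
    exact hm s hsp (htr ▸ isIntegral_leadingCoeff_smul h.reverse m h2)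
  obtain ⟨Q, hIQ, hQ, hQp⟩ := Ideal.exists_ideal_comap_le_prime p (Ideal.span {u}) hI
  have hu : u ∈ Q := hIQ (Ideal.mem_span_singleton_self u)
  let T := Localization.AtPrime Q
  let K := FractionRing B
  have : IsFractionRing T K := IsFractionRing.isFractionRing_of_isDomain_of_isLocalization Q.primeCompl T K
  let : Algebra K L := FractionRing.liftAlgebra B L
  let : Algebra T L := ((algebraMap K L).comp (algebraMap T K)).toAlgebra
  have : IsScalarTower T K L := .of_algebraMap_eq' rfl
  have hBL : ∀ b : B, algebraMap T L (algebraMap B T b) = (b : L) := fun b => by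
    rw [IsScalarTower.algebraMap_apply T K L, ← IsScalarTower.algebraMap_apply B T K,
      ← IsScalarTower.algebraMap_apply B K L]
    rfl
  have hu0 : algebraMap B T u ≠ 0 := fun e => inv_ne_zero hm0
    (show (u : L) = 0 by rw [← hBL u, e, map_zero])
  have hT : ¬ IsField T := fun hf => by
    obtain ⟨v, hv⟩ := hf.mul_inv_cancel hu0
    exact (IsLocalization.AtPrime.isUnit_to_map_iff T Q u).1 (IsUnit.of_mul_eq_one v hv) hu
  have hfg : (⊤ : IntermediateField K L).FG := by
    obtain ⟨G, hG⟩ := hgen
    refine ⟨G, eq_top_iff.2 fun w _ => ?_⟩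
    have h := hG (IntermediateField.adjoin K (G : Set L)).toSubfield (fun a => ?_)
      fun g hg => IntermediateField.subset_adjoin _ _ hg
    · exact (h ▸ Subfield.mem_top w : w ∈ (IntermediateField.adjoin K (G : Set L)).toSubfield)
    · have := IntermediateField.algebraMap_mem (IntermediateField.adjoin K (G : Set L))
        (algebraMap B K (algebraMap R B a))
      rwa [← IsScalarTower.algebraMap_apply B K L] at this
  obtain ⟨V, hV, hTV, hmax⟩ := E4O.exists_dvr_dominating hT K L hfg
  refine ⟨V, hV, fun a => by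
      have h1 := hTV (algebraMap B T (algebraMap R B a)); rw [hBL] at h1; exact h1, fun s hs => ?_, fun hmV => ?_⟩
  · obtain ⟨v, hv⟩ := (IsLocalization.map_units T (⟨algebraMap R B s, fun h => hs (hQp h)⟩ : Q.primeCompl)).exists_right_inv
    have : algebraMap R L s * algebraMap T L v = 1 := by
      rw [show algebraMap R L s = algebraMap T L (algebraMap B T (algebraMap R B s)) from by rw [hBL]; rfl,
        ← map_mul, hv, map_one]
    rw [inv_eq_of_mul_eq_one_right this]
    exact hTV v
  · have h1 := hmax _ ((IsLocalization.AtPrime.to_map_mem_maximal_iff T Q u).2 hu)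
    rw [hBL u, show (u : L) = m⁻¹ from rfl, map_inv₀] at h1
    have h2 := (V.valuation_le_one_iff m).2 hmV
    exact absurd h1 (not_lt.2 ((one_le_inv₀ (zero_lt_iff.2 ((V.valuation).ne_zero_iff.2 hm0))).2 h2))

omit [IsNoetherianRing R] in
theorem mem_range_ker_pi {U : Type u} [AddCommGroup U] [Module R U] {ι : Type u} [Fintype ι] [DecidableEq ι]
    {W : ι → Type u} [∀ i, AddCommGroup (W i)] [∀ i, Module R (W i)] (f : ∀ i, U →ₗ[R] W i) (w : R' ⊗[R] U)
    (h : ∀ i, LinearMap.lTensor R' (f i) w = 0) :
    w ∈ LinearMap.range (LinearMap.lTensor R' (LinearMap.ker (LinearMap.pi f)).subtype) := by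
  refine (Module.Flat.lTensor_exact R' (LinearMap.exact_subtype_ker_map (LinearMap.pi f)) w).1 ?_
  refine (TensorProduct.piRight R R R' W).injective ?_
  rw [map_zero]
  funext i
  rw [Pi.zero_apply, ← h i]
  clear h
  induction w with
  | zero => simp
  | tmul a b => simp
  | add a b ha hb => simp only [map_add, Pi.add_apply, ha, hb]

variable [IsNoetherianRing R']

set_option maxHeartbeats 1000000 in
set_option synthInstance.maxHeartbeats 100000 in
theorem mem_range_field_fg (hgeo : ∀ (p : Ideal R) [p.IsPrime], Algebra.IsGeometricallyReduced p.ResidueField (p.Fiber R'))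
    (hgen : ∃ G : Finset L, ∀ K' : Subfield L, (∀ a, algebraMap R L a ∈ K') → (∀ g ∈ G, g ∈ K') → K' = ⊤)
    (x : R' ⊗[R] L) (hx : IsIntegral R' x) :
    x ∈ LinearMap.range (LinearMap.lTensor R' (Subalgebra.toSubmodule (integralClosure R L)).subtype) := by
  classical
  let N := Subalgebra.toSubmodule (integralClosure R L)
  let M := L ⧸ N
  have hexN : Function.Exact N.subtype N.mkQ := LinearMap.exact_subtype_mkQ N
  suffices hz : LinearMap.lTensor R' N.mkQ x = 0 from (Module.Flat.lTensor_exact R' hexN x).1 hz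
  by_contra hz
  let F := TensorProduct.AlgebraTensorModule.lTensor R' R' N.mkQ
  let S := Submodule.span R' {F x}
  have : Nontrivial S := ⟨⟨⟨F x, Submodule.mem_span_singleton_self _⟩, 0, fun e => hz (congrArg Subtype.val e)⟩⟩
  obtain ⟨P, hP⟩ := associatedPrimes.nonempty R' S
  obtain ⟨hPp, ⟨_, hwS⟩, hPw⟩ := isAssociatedPrime_iff.1 hP
  obtain ⟨r, rfl⟩ := Submodule.mem_span_singleton.1 hwS
  let x' := r • x
  have hx' : IsIntegral R' x' := hx.smul r
  let w := LinearMap.lTensor R' N.mkQ x'
  have hwP : ∀ c : R', c • w = 0 ↔ c ∈ P := fun c => by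
    rw [hPw, Submodule.mem_colon_singleton, Submodule.mem_bot, ← Subtype.val_inj]
    show c • w = 0 ↔ c • (r • F x) = 0
    rw [← map_smul F r x]
    exact Iff.rfl
  let p := P.comap (algebraMap R R')
  have : p.IsPrime := hPp.comap _
  have hwp : ∀ a : R, a ∈ p → a • w = 0 := fun a ha => by
    rw [← algebraMap_smul R' a w]; exact (hwP _).2 ha
  have hws : ∀ s : R, s ∉ p → s • w ≠ 0 := fun s hs h => hs ((hwP _).1 (by rwa [algebraMap_smul]))
  -- `w` comes from the `p`-torsion
  obtain ⟨G, hG⟩ : p.FG := IsNoetherian.noetherian p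
  let Φ : M →ₗ[R] (G → M) := LinearMap.pi fun g => (g.1 : R) • LinearMap.id
  let Mp := LinearMap.ker Φ
  have hMp : ∀ y ∈ Mp, ∀ a ∈ p, a • y = 0 := by
    intro y hy a ha
    have h1 : p ≤ LinearMap.ker (LinearMap.toSpanSingleton R M y) := by
      rw [← hG, Ideal.span, Submodule.span_le]
      exact fun g hg => congrFun hy ⟨g, hg⟩
    exact h1 ha
  obtain ⟨w₁, hw₁⟩ : w ∈ LinearMap.range (LinearMap.lTensor R' Mp.subtype) := by
    refine (Module.Flat.lTensor_exact R' (LinearMap.exact_subtype_ker_map Φ) w).1 ?_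
    refine (TensorProduct.piRight R R R' fun _ : G => M).injective ?_
    rw [map_zero]
    funext g
    have hg : (g.1 : R) ∈ p := hG ▸ Ideal.subset_span g.2
    have key : ∀ y : R' ⊗[R] M, TensorProduct.piRight R R R' (fun _ : G => M) (LinearMap.lTensor R' Φ y) g =
        (g.1 : R) • y := by
      intro y
      induction y with
      | zero => simp
      | tmul a b => simp [Φ, TensorProduct.tmul_smul]
      | add a b ha hb => simp only [map_add, Pi.add_apply, ha, hb, smul_add]
    rw [key, hwp _ hg]
    rfl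
  -- valuation rings
  let vm : ValuationSubring L → Submodule R L := fun V => Submodule.span R (V : Set L)
  let Good : ValuationSubring L → Prop := fun V => IsDiscreteValuationRing V ∧ (∀ a, algebraMap R L a ∈ V) ∧
    ∀ s ∉ p, (algebraMap R L s)⁻¹ ∈ V
  have hvm : ∀ V, Good V → ∀ y, y ∈ vm V ↔ y ∈ V := fun V hV y => ⟨fun h => by
    induction h using Submodule.span_induction with
    | mem _ h => exact h
    | zero => exact zero_mem V
    | add _ _ _ _ ha hb => exact add_mem ha hb
    | smul c _ _ hc => rw [Algebra.smul_def]; exact mul_mem (hV.2.1 c) hc, fun h => Submodule.subset_span h⟩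
  have hNV : ∀ V, Good V → N ≤ vm V := by
    intro V hV y hy
    let : Algebra R V := ((algebraMap R L).codRestrict V hV.2.1).toAlgebra
    have : IsScalarTower R V L := .of_algebraMap_eq fun _ => rfl
    obtain ⟨v, rfl⟩ := IsIntegrallyClosed.isIntegral_iff.1 (IsIntegral.tower_top (A := V) (show IsIntegral R y from hy))
    exact (hvm V hV _).2 v.2
  have huni : ∀ V, Good V → ∀ s ∉ p, ∀ y : L, s • y ∈ vm V → y ∈ vm V := by
    intro V hV s hs y hy
    by_cases hs0 : algebraMap R L s = 0
    · rw [hvm V hV]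
      by_contra hyV
      exact hws s hs (by
        have : ∀ z : M, s • z = 0 := fun z => by
          obtain ⟨l, rfl⟩ := Submodule.Quotient.mk_surjective _ z
          rw [← Submodule.Quotient.mk_smul, Algebra.smul_def, hs0, zero_mul, Submodule.Quotient.mk_zero]
        have : ∀ z : R' ⊗[R] M, s • z = 0 := fun z => by
          induction z with
          | zero => simp
          | tmul a b => rw [← TensorProduct.tmul_smul, this, TensorProduct.tmul_zero]
          | add a b ha hb => rw [smul_add, ha, hb, add_zero]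
        exact this w)
    rw [hvm V hV, Algebra.smul_def] at hy
    rw [hvm V hV, show y = (algebraMap R L s)⁻¹ * (algebraMap R L s * y) by
      rw [← mul_assoc, inv_mul_cancel₀ hs0, one_mul]]
    exact mul_mem (hV.2.2 s hs) hy
  -- finitely many detect everything
  have hfin : ∀ S : Finset L, (∀ l ∈ S, N.mkQ l ∈ Mp) → ∃ J : Finset (ValuationSubring L), (∀ V ∈ J, Good V) ∧
      ∀ y ∈ Submodule.span R (S : Set L), (∀ V ∈ J, y ∈ vm V) → ∃ s ∉ p, s • y ∈ N := by
    intro S
    induction S using Finset.induction_on with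
    | empty =>
      exact fun _ => ⟨∅, by simp, fun y hy _ => ⟨1, p.one_notMem, by
        rw [Finset.coe_empty, Submodule.span_empty, Submodule.mem_bot] at hy
        rw [hy, smul_zero]; exact zero_mem N⟩⟩
    | insert l S hl ih =>
      intro hS
      obtain ⟨J, hJ, hJS⟩ := ih fun a ha => hS a (Finset.mem_insert_of_mem ha)
      by_cases hall : ∀ y ∈ Submodule.span R (insert l S : Finset L), (∀ V ∈ J, y ∈ vm V) → ∃ s ∉ p, s • y ∈ N
      · exact ⟨J, hJ, hall⟩
      push Not at hall
      obtain ⟨m, hm, hmJ, hmN⟩ := hall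
      obtain ⟨V, hV, hVR, hVs, hmV⟩ := exists_dvr hgen p m hmN
      have hG : Good V := ⟨hV, hVR, hVs⟩
      refine ⟨insert V J, fun W hW => (Finset.mem_insert.1 hW).elim (fun e => e ▸ hG) (hJ W), fun y hy hyJ => ?_⟩
      rw [Finset.coe_insert] at hy hm
      obtain ⟨a, y', hy', rfl⟩ := Submodule.mem_span_insert.1 hy
      obtain ⟨b, m', hm', rfl⟩ := Submodule.mem_span_insert.1 hm
      let d := b • (a • l + y') - a • (b • l + m')
      have hd : d ∈ Submodule.span R (S : Set L) := by
        have : d = b • y' - a • m' := by simp only [d, smul_add, smul_smul, mul_comm b a]; abel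
        rw [this]; exact sub_mem (Submodule.smul_mem _ _ hy') (Submodule.smul_mem _ _ hm')
      obtain ⟨s, hs, hsd⟩ := hJS d hd fun W hW => sub_mem
        (Submodule.smul_mem _ _ (hyJ W (Finset.mem_insert_of_mem hW))) (Submodule.smul_mem _ _ (hmJ W hW))
      have hap : a ∈ p := by
        by_contra hap
        have h1 : (s * a) • (b • l + m') ∈ vm V := by
          have : (s * a) • (b • l + m') = s • (b • (a • l + y')) - s • d := by
            simp only [d, smul_sub, mul_smul]; abel
          rw [this]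
          exact sub_mem (Submodule.smul_mem _ _ (Submodule.smul_mem _ _ (hyJ V (Finset.mem_insert_self _ _))))
            (hNV V hG hsd)
        exact hmV ((hvm V hG _).1 (huni V hG (s * a)
          (fun h => ((Ideal.IsPrime.mem_or_mem inferInstance h).elim hs hap)) _ h1))
      have hal : a • l ∈ N := by
        have := hMp _ (hS l (Finset.mem_insert_self _ _)) a hap
        rw [← map_smul, Submodule.mkQ_apply, Submodule.Quotient.mk_eq_zero] at this
        exact this
      obtain ⟨s', hs', hsy⟩ := hJS y' hy' fun W hW => by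
        have := sub_mem (hyJ W (Finset.mem_insert_of_mem hW)) (hNV W (hJ W hW) hal)
        rwa [add_sub_cancel_left] at this
      exact ⟨s', hs', by rw [smul_add]; exact add_mem (Submodule.smul_mem _ _ hal) hsy⟩
  -- conclude
  obtain ⟨t, ht⟩ := TensorProduct.exists_finset w₁
  choose lft hlft using fun y : Mp => N.mkQ_surjective y.1
  let S₀ : Finset L := t.image fun i => lft i.2
  obtain ⟨J, hJ, hJS⟩ := hfin S₀ fun l hl => by
    obtain ⟨i, -, rfl⟩ := Finset.mem_image.1 hl
    rw [hlft]; exact i.2.2
  let U := Submodule.span R (S₀ : Set L)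
  let ι : U →ₗ[R] M := N.mkQ.comp U.subtype
  let w₂ : R' ⊗[R] U := ∑ i ∈ t.attach, i.1.1 ⊗ₜ ⟨lft i.1.2,
    Submodule.subset_span (Finset.mem_coe.2 (Finset.mem_image_of_mem _ i.2))⟩
  have hw₂ : LinearMap.lTensor R' ι w₂ = w := by
    rw [← hw₁, ht, map_sum, map_sum, ← Finset.sum_attach t (fun i => LinearMap.lTensor R' Mp.subtype (i.1 ⊗ₜ i.2))]
    refine Finset.sum_congr rfl fun i _ => ?_
    rw [LinearMap.lTensor_tmul, LinearMap.lTensor_tmul]
    exact congrArg _ (hlft i.1.2)
  let Ψ : U →ₗ[R] ((V : J) → L ⧸ vm V.1) := LinearMap.pi fun V => (vm V.1).mkQ.comp U.subtype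
  obtain ⟨w₃, hw₃⟩ : w₂ ∈ LinearMap.range (LinearMap.lTensor R' (LinearMap.ker Ψ).subtype) := by
    refine mem_range_ker_pi (fun V : J => (vm V.1).mkQ.comp U.subtype) w₂ fun V => ?_
    have hG := hJ V.1 V.2
    have hle := hNV V.1 hG
    let φ : M →ₗ[R] L ⧸ vm V.1 := Submodule.mapQ N (vm V.1) LinearMap.id hle
    rw [show (vm V.1).mkQ.comp U.subtype = φ.comp ι from LinearMap.ext fun y => rfl,
      LinearMap.lTensor_comp_apply, hw₂, ← LinearMap.lTensor_comp_apply]
    let : Algebra R V.1 := ((algebraMap R L).codRestrict V.1 hG.2.1).toAlgebra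
    have : IsScalarTower R V.1 L := .of_algebraMap_eq fun _ => rfl
    have := hG.1
    obtain ⟨y, hy⟩ := mem_range_dvr hgeo V.1 L x' hx'
    rw [← hy]
    clear hy
    show LinearMap.lTensor R' (φ.comp N.mkQ) _ = 0
    induction y with
    | zero => simp
    | tmul a b =>
      show a ⊗ₜ φ (N.mkQ (b : L)) = _
      rw [show φ (N.mkQ (b : L)) = 0 from (Submodule.Quotient.mk_eq_zero _).2 ((hvm V.1 hG _).2 b.2),
        TensorProduct.tmul_zero]
    | add a b ha hb => rw [map_add, map_add, ha, hb, add_zero]
  obtain ⟨Gk, hGk⟩ : (LinearMap.ker Ψ).FG := by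
    have : Module.Finite R U := Module.Finite.iff_fg.2 (Submodule.fg_span (Finset.finite_toSet S₀))
    exact IsNoetherian.noetherian _
  have hkill : ∀ y ∈ LinearMap.ker Ψ, ∃ s ∉ p, s • ι y = 0 := fun y hy => by
    obtain ⟨s, hs, hsy⟩ := hJS y.1 y.2 fun V hV =>
      (Submodule.Quotient.mk_eq_zero _).1 (congrFun hy ⟨V, hV⟩)
    exact ⟨s, hs, by rw [← map_smul]; exact (Submodule.Quotient.mk_eq_zero _).2 hsy⟩
  choose! sf hsf hsfy using hkill
  let s := ∏ g ∈ Gk, sf g
  have hs : s ∉ p := fun h => by
    obtain ⟨g, hg, hgp⟩ := (‹p.IsPrime›.prod_mem_iff).1 h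
    exact hsf g (hGk ▸ Submodule.subset_span hg) hgp
  refine hws s hs ?_
  rw [← hw₂, ← hw₃, ← LinearMap.lTensor_comp_apply, ← LinearMap.map_smul, ]
  have hall : ∀ y ∈ Submodule.span R (Gk : Set U), s • ι y = 0 := fun y hy => by
    induction hy using Submodule.span_induction with
    | mem g hg =>
      obtain ⟨k, hk⟩ : sf g ∣ s := Finset.dvd_prod_of_mem sf hg
      rw [hk, mul_comm, mul_smul, hsfy g (hGk ▸ Submodule.subset_span hg), smul_zero]
    | zero => rw [map_zero, smul_zero]
    | add a b _ _ ha hb => rw [map_add, smul_add, ha, hb, add_zero]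
    | smul c a _ ha => rw [map_smul, smul_comm, ha, smul_zero]
  have hz : (ι.comp (LinearMap.ker Ψ).subtype).comp (s • LinearMap.id) = 0 := by
    refine LinearMap.ext fun y => ?_
    show ι (s • y.1) = 0
    rw [map_smul]
    obtain ⟨y, hy⟩ := y
    exact hall y (hGk.ge hy)
  have := congrArg (fun f => LinearMap.lTensor R' f w₃) hz
  simp only [LinearMap.lTensor_comp_apply, LinearMap.lTensor_zero, LinearMap.zero_apply,
    LinearMap.lTensor_smul, LinearMap.lTensor_id, LinearMap.smul_apply, LinearMap.id_apply] at this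
  simpa only [LinearMap.lTensor_comp_apply, map_smul] using this

omit [IsNoetherianRing R] [IsNoetherianRing R'] [Module.Flat R R'] in
theorem isIntegral_of_injective {L' : Type u} [CommRing L'] [Algebra R L'] (f : L' →ₐ[R] L)
    (x : R' ⊗[R] L') (hf : Function.Injective (Algebra.TensorProduct.map (AlgHom.id R' R') f))
    (hx : IsIntegral R' (Algebra.TensorProduct.map (AlgHom.id R' R') f x)) : IsIntegral R' x :=
  (isIntegral_algHom_iff _ hf).1 hx

/-- the field case -/
theorem mem_range_field (hgeo : ∀ (p : Ideal R) [p.IsPrime], Algebra.IsGeometricallyReduced p.ResidueField (p.Fiber R'))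
    (x : R' ⊗[R] L) (hx : IsIntegral R' x) :
    x ∈ LinearMap.range (LinearMap.lTensor R' (Subalgebra.toSubmodule (integralClosure R L)).subtype) := by
  classical
  obtain ⟨t, ht⟩ := TensorProduct.exists_finset x
  let G : Finset L := t.image Prod.snd
  let L₀ : Subfield L := Subfield.closure (Set.range (algebraMap R L) ∪ G)
  have hRL₀ : ∀ a, algebraMap R L a ∈ L₀ := fun a => Subfield.subset_closure (Or.inl ⟨a, rfl⟩)
  let : Algebra R L₀ := ((algebraMap R L).codRestrict L₀ hRL₀).toAlgebra
  let val : L₀ →ₐ[R] L := { L₀.subtype with commutes' := fun _ => rfl }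
  have hinj := Module.Flat.lTensor_preserves_injective_linearMap (M := R') val.toLinearMap Subtype.val_injective
  let g : {i // i ∈ t} → L₀ := fun i => ⟨i.1.2, Subfield.subset_closure (Or.inr (Finset.mem_image_of_mem _ i.2))⟩
  let x₀ : R' ⊗[R] L₀ := ∑ i : {i // i ∈ t}, i.1.1 ⊗ₜ g i
  have hx₀ : Algebra.TensorProduct.map (AlgHom.id R' R') val x₀ = x := by
    rw [ht, map_sum, ← Finset.sum_coe_sort t]
    rfl
  have hgen : ∃ G₀ : Finset L₀, ∀ K' : Subfield L₀, (∀ a, algebraMap R L₀ a ∈ K') → (∀ g ∈ G₀, g ∈ K') → K' = ⊤ := by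
    refine ⟨Finset.univ.image g, fun K' h1 h2 => eq_top_iff.2 fun w _ => ?_⟩
    have : L₀ ≤ K'.map L₀.subtype := Subfield.closure_le.2 (Set.union_subset
      (by rintro _ ⟨a, rfl⟩; exact ⟨_, h1 a, rfl⟩) fun y hy => by
        obtain ⟨i, hi, rfl⟩ := Finset.mem_image.1 (Finset.mem_coe.1 hy)
        exact ⟨_, h2 _ (Finset.mem_image_of_mem g (Finset.mem_univ (⟨i, hi⟩ : {i // i ∈ t}))), rfl⟩)
    obtain ⟨v, hv, hvw⟩ := this w.2
    exact (Subtype.ext hvw : v = w) ▸ hv
  obtain ⟨y, hy⟩ := mem_range_field_fg (L := L₀) hgeo hgen x₀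
    (isIntegral_of_injective val x₀ hinj (hx₀.symm ▸ hx))
  let inc : Subalgebra.toSubmodule (integralClosure R L₀) →ₗ[R] Subalgebra.toSubmodule (integralClosure R L) :=
    (val.toLinearMap.comp (Submodule.subtype _)).codRestrict _ fun z => z.2.map val
  refine ⟨LinearMap.lTensor R' inc y, ?_⟩
  rw [← hx₀, ← hy]
  clear hy hx₀
  induction y with
  | zero => simp
  | tmul a b => rfl
  | add a b ha hb => simp only [map_add, ha, hb]

/-- integral closure commutes with the base change, Noetherian case -/
theorem mem_range_noetherian (hgeo : ∀ (p : Ideal R) [p.IsPrime], Algebra.IsGeometricallyReduced p.ResidueField (p.Fiber R'))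
    (C : Type u) [CommRing C] [IsNoetherianRing C] [Algebra R C] (x : R' ⊗[R] C) (hx : IsIntegral R' x) :
    x ∈ LinearMap.range (LinearMap.lTensor R' (Subalgebra.toSubmodule (integralClosure R C)).subtype) := by
  classical
  let I := {q : Ideal C // q ∈ minimalPrimes C}
  have : Finite I := (minimalPrimes.finite_of_isNoetherianRing C).to_subtype
  have : Fintype I := Fintype.ofFinite I
  have hq : ∀ i : I, i.1.IsPrime := fun i => i.2.1.1
  let NK : ∀ i : I, Submodule R i.1.ResidueField := fun i => Subalgebra.toSubmodule (integralClosure R i.1.ResidueField)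
  let ev : ∀ i : I, C →ₐ[R] i.1.ResidueField := fun i => IsScalarTower.toAlgHom R C i.1.ResidueField
  let Ψ : C →ₗ[R] ((i : I) → i.1.ResidueField ⧸ NK i) := LinearMap.pi fun i => (NK i).mkQ.comp (ev i).toLinearMap
  have hker : LinearMap.ker Ψ = Subalgebra.toSubmodule (integralClosure R C) := by
    ext c
    refine ⟨fun hc => ?_, fun hc => funext fun i => (Submodule.Quotient.mk_eq_zero _).2 (IsIntegral.map (ev i) hc)⟩
    have h : ∀ i : I, IsIntegral R (ev i c) := fun i => (Submodule.Quotient.mk_eq_zero _).1 (congrFun hc i)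
    choose f hf hfc using h
    let F := ∏ i : I, f i
    have hnil : IsNilpotent (aeval c F) := by
      refine nilpotent_iff_mem_prime.2 fun J hJ => ?_
      obtain ⟨q, hqm, hqJ⟩ := Ideal.exists_minimalPrimes_le (I := (⊥ : Ideal C)) (J := J) bot_le
      refine hqJ (Ideal.algebraMap_residueField_eq_zero.1 ?_ : aeval c F ∈ (⟨q, hqm⟩ : I).1)
      show ev ⟨q, hqm⟩ (aeval c F) = 0
      rw [← aeval_algHom_apply, map_prod]
      exact Finset.prod_eq_zero (Finset.mem_univ (⟨q, hqm⟩ : I)) (hfc ⟨q, hqm⟩)
    obtain ⟨k, hk⟩ := hnil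
    exact ⟨F ^ k, (monic_prod_of_monic _ _ fun i _ => hf i).pow k, by rw [← aeval_def, map_pow, hk]⟩
  rw [← hker]
  refine (Module.Flat.lTensor_exact R' (LinearMap.exact_subtype_ker_map Ψ) x).1 ?_
  refine (TensorProduct.piRight R R R' fun i : I => i.1.ResidueField ⧸ NK i).injective ?_
  rw [map_zero]
  funext i
  have key : ∀ y : R' ⊗[R] C, TensorProduct.piRight R R R' (fun i : I => i.1.ResidueField ⧸ NK i)
      (LinearMap.lTensor R' Ψ y) i =
      LinearMap.lTensor R' (NK i).mkQ (Algebra.TensorProduct.map (AlgHom.id R' R') (ev i) y) := by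
    intro y
    induction y with
    | zero => simp
    | tmul a b => simp [Ψ]
    | add a b ha hb => simp only [map_add, Pi.add_apply, ha, hb]
  rw [key]
  exact (Module.Flat.lTensor_exact R' (LinearMap.exact_subtype_mkQ (NK i)) _).2
    (mem_range_field hgeo _ (hx.map (Algebra.TensorProduct.map (AlgHom.id R' R') (ev i))))

end Groth.Agent.EGA4H10.IntClosBC
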