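import Groth.Agent.EGA4H10.GrPieces
import Groth.Agent.EGA4Alg4.Depth
import Groth.Agent.EGA4Alg4.CMMod
import Mathlib

/-!
# Regular sequences, depth and normal flatness
-/

set_option autoImplicit false
universe u
open IsLocalRing RingTheory.Sequence Module
open scoped Pointwise

namespace Groth.Agent.EGA4H10

variable {A : Type u} [CommRing A]

/-- weakly regular sequences in extensions -/
theorem isWeaklyRegular_of_exact : ∀ (ys : List A) {N M P : Type u} [AddCommGroup N] [Module A N]
    [AddCommGroup M] [Module A M] [AddCommGroup P] [Module A P] (f : N →ₗ[A] M) (g : M →ₗ[A] P),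
    Function.Injective f → Function.Exact f g → Function.Surjective g →
    IsWeaklyRegular N ys → IsWeaklyRegular P ys →
    IsWeaklyRegular M ys ∧
      ∀ x : N, f x ∈ Ideal.ofList ys • (⊤ : Submodule A M) → x ∈ Ideal.ofList ys • (⊤ : Submodule A N)
  | [], N, M, P, _, _, _, _, _, _, f, g, hf, _, _, _, _ =>
      ⟨IsWeaklyRegular.nil A M, fun x hx => by
        rw [Ideal.ofList_nil, Submodule.bot_smul, Submodule.mem_bot] at hx ⊢
        exact hf (hx.trans (map_zero f).symm)⟩
  | y :: ys, N, M, P, _, _, _, _, _, _, f, g, hf, hfg, hg, hN, hP => by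
    rw [isWeaklyRegular_cons_iff] at hN hP
    have hM : IsSMulRegular M y := by
      refine IsSMulRegular.of_right_eq_zero_of_smul fun m hm => ?_
      have : g m = 0 := hP.1.right_eq_zero_of_smul (by rw [← map_smul, hm, map_zero])
      obtain ⟨n, rfl⟩ := (hfg m).mp this
      rw [← map_smul] at hm
      rw [hN.1.right_eq_zero_of_smul (hf (hm.trans (map_zero f).symm)), map_zero]
    have hinj : Function.Injective (QuotSMulTop.map y f) := by
      rw [injective_iff_map_eq_zero]
      intro z hz
      obtain ⟨n, rfl⟩ := Submodule.Quotient.mk_surjective _ z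
      rw [QuotSMulTop.map_apply_mk, Submodule.Quotient.mk_eq_zero,
        Submodule.mem_smul_pointwise_iff_exists] at hz
      obtain ⟨m, -, hm⟩ := hz
      have : g m = 0 := hP.1.right_eq_zero_of_smul (by rw [← map_smul, hm, (hfg _).mpr ⟨n, rfl⟩])
      obtain ⟨n', rfl⟩ := (hfg m).mp this
      rw [← map_smul] at hm
      rw [Submodule.Quotient.mk_eq_zero, Submodule.mem_smul_pointwise_iff_exists]
      exact ⟨n', trivial, hf hm⟩
    obtain ⟨h1, h2⟩ := isWeaklyRegular_of_exact ys (QuotSMulTop.map y f) (QuotSMulTop.map y g) hinj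
      (QuotSMulTop.map_exact y hfg hg) (QuotSMulTop.map_surjective y hg) hN.2 hP.2
    refine ⟨h1.cons hM, fun x hx => ?_⟩
    have h3 : QuotSMulTop.map y f (Submodule.Quotient.mk x) ∈
        Ideal.ofList ys • (⊤ : Submodule A (QuotSMulTop y M)) := by
      rw [QuotSMulTop.map_apply_mk]
      rw [Ideal.ofList_cons_smul] at hx
      obtain ⟨a, ha, b, hb, hab⟩ := Submodule.mem_sup.mp hx
      rw [← hab, Submodule.Quotient.mk_add, (Submodule.Quotient.mk_eq_zero _).mpr ha, zero_add]
      exact Submodule.smul_top_le_comap_smul_top _ (y • ⊤ : Submodule A M).mkQ hb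
    have h4 := h2 _ h3
    rw [show (⊤ : Submodule A (QuotSMulTop y N)) = Submodule.map (y • ⊤ : Submodule A N).mkQ ⊤ by
      rw [Submodule.map_top, Submodule.range_mkQ], ← Submodule.map_smul''] at h4
    obtain ⟨x', hx', hxx⟩ := h4
    rw [Ideal.ofList_cons_smul]
    rw [Submodule.mkQ_apply, Submodule.Quotient.eq] at hxx
    have : x = x' - (x' - x) := (sub_sub_cancel _ _).symm
    rw [this]
    exact sub_mem (Submodule.mem_sup_right hx') (Submodule.mem_sup_left hxx)

/-- a flat module over a quotient has the regular sequences of the quotient -/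
theorem isWeaklyRegular_of_flat_quotient {I : Ideal A} (P : Type u) [AddCommGroup P] [Module A P]
    [Module (A ⧸ I) P] [IsScalarTower A (A ⧸ I) P] [Module.Flat (A ⧸ I) P] {ys : List A}
    (h : IsWeaklyRegular (A ⧸ I) ys) : IsWeaklyRegular P ys := by
  rw [← isWeaklyRegular_map_algebraMap_iff (A ⧸ I) P ys]
  rw [← isWeaklyRegular_map_algebraMap_iff (A ⧸ I) (A ⧸ I) ys] at h
  exact ((TensorProduct.rid (A ⧸ I) P).isWeaklyRegular_congr _).mp h.isWeaklyRegular_lTensor

variable (I : Ideal A) (M : Type u) [AddCommGroup M] [Module A M]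

/-- the canonical map from a piece to `M/Iⁿ⁺¹M` -/
noncomputable def pieceIncl (n : ℕ) :
    Piece I M n →ₗ[A] M ⧸ (I ^ (n + 1) • (⊤ : Submodule A M)) :=
  Submodule.mapQ _ _ (I ^ n • (⊤ : Submodule A M)).subtype fun x hx => by
    rw [Submodule.mem_comap, Submodule.subtype_apply, pow_succ', Submodule.mul_smul,
      ← Submodule.mem_smul_top_iff]
    exact hx

theorem pieceIncl_mk (n : ℕ) (x : ↥(I ^ n • (⊤ : Submodule A M))) :
    pieceIncl I M n (Submodule.Quotient.mk x) = Submodule.Quotient.mk (x : M) := rfl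

theorem pieceIncl_injective (n : ℕ) : Function.Injective (pieceIncl I M n) := by
  rw [injective_iff_map_eq_zero]
  intro z hz
  obtain ⟨x, rfl⟩ := Submodule.Quotient.mk_surjective _ z
  rw [pieceIncl_mk, Submodule.Quotient.mk_eq_zero] at hz
  exact (piece_mk_eq_zero_iff x).mpr hz

theorem pieceIncl_exact (n : ℕ) : Function.Exact (pieceIncl I M n)
    (Submodule.factor (Submodule.pow_smul_top_le I M n.le_succ)) := fun z => by
  obtain ⟨x, rfl⟩ := Submodule.Quotient.mk_surjective _ z
  change Submodule.Quotient.mk x = 0 ↔ _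
  rw [Submodule.Quotient.mk_eq_zero]
  constructor
  · exact fun hx => ⟨Submodule.Quotient.mk ⟨x, hx⟩, rfl⟩
  · rintro ⟨w, hw⟩
    obtain ⟨w, rfl⟩ := Submodule.Quotient.mk_surjective _ w
    rw [pieceIncl_mk, Submodule.Quotient.eq] at hw
    have := sub_mem w.2 (Submodule.pow_smul_top_le I M n.le_succ hw)
    simpa using this

variable {I M}

/-- sequences regular on `A/I` are regular on the truncations of a normally flat module, and the
pieces are pure in them -/
theorem isWeaklyRegular_truncation (hM : EGA4.IsNormallyFlat I M) {ys : List A}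
    (h : IsWeaklyRegular (A ⧸ I) ys) : ∀ n : ℕ,
    IsWeaklyRegular (M ⧸ (I ^ n • (⊤ : Submodule A M))) ys
  | 0 => by
    have : Subsingleton (M ⧸ (I ^ 0 • (⊤ : Submodule A M))) := by
      rw [pow_zero, Ideal.one_eq_top, Submodule.top_smul]
      infer_instance
    exact (isWeaklyRegular_iff_Fin _ _).mpr fun i => Function.injective_of_subsingleton _
  | n + 1 => by
    have : Module.Flat (A ⧸ I) (Piece I M n) := hM n
    exact (isWeaklyRegular_of_exact ys _ _ (pieceIncl_injective I M n) (pieceIncl_exact I M n)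
      (Submodule.factor_surjective _) (isWeaklyRegular_of_flat_quotient _ h)
      (isWeaklyRegular_truncation hM h n)).1

variable [IsNoetherianRing A]

/-- Krull intersection: regularity on all truncations gives regularity -/
theorem isWeaklyRegular_of_truncation [IsLocalRing A] (hI : I ≠ ⊤) :
    ∀ (ys : List A) (M : Type u) [AddCommGroup M] [Module A M] [Module.Finite A M],
      (∀ n : ℕ, IsWeaklyRegular (M ⧸ (I ^ n • (⊤ : Submodule A M))) ys) → IsWeaklyRegular M ys
  | [], M, _, _, _, _ => IsWeaklyRegular.nil A M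
  | y :: ys, M, _, _, _, h => by
    have hreg : IsSMulRegular M y := by
      refine IsSMulRegular.of_right_eq_zero_of_smul fun m hm => ?_
      have hm' : m ∈ (⨅ n : ℕ, I ^ n • (⊤ : Submodule A M)) := by
        rw [Submodule.mem_iInf]
        intro n
        rw [← Submodule.Quotient.mk_eq_zero]
        exact ((isWeaklyRegular_cons_iff _ _ _).mp (h n)).1.right_eq_zero_of_smul
          (by rw [← Submodule.Quotient.mk_smul, hm, Submodule.Quotient.mk_zero])
      rwa [Ideal.iInf_pow_smul_eq_bot_of_isLocalRing _ hI, Submodule.mem_bot] at hm'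
    refine IsWeaklyRegular.cons hreg (isWeaklyRegular_of_truncation hI ys _ fun n => ?_)
    have h2 := ((isWeaklyRegular_cons_iff _ _ _).mp (h n)).2
    let W : Submodule A M := I ^ n • ⊤
    let e : QuotSMulTop y (M ⧸ W) ≃ₗ[A]
        QuotSMulTop y M ⧸ (I ^ n • (⊤ : Submodule A (QuotSMulTop y M))) :=
      Submodule.quotEquivOfEq _ _ (by
          rw [show (⊤ : Submodule A (M ⧸ W)) = Submodule.map W.mkQ ⊤ by
            rw [Submodule.map_top, Submodule.range_mkQ], Submodule.map_pointwise_smul]) ≪≫ₗ
        Submodule.quotientQuotientEquivQuotientSup W (y • ⊤) ≪≫ₗ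
        Submodule.quotEquivOfEq _ _ (sup_comm _ _) ≪≫ₗ
        (Submodule.quotientQuotientEquivQuotientSup (y • ⊤ : Submodule A M) W).symm ≪≫ₗ
        Submodule.quotEquivOfEq _ _ (by
          simp only [W]
          rw [Submodule.map_smul'', Submodule.map_top, Submodule.range_mkQ])
    exact (e.isWeaklyRegular_congr ys).mp h2

theorem isWeaklyRegular_of_isNormallyFlat [IsLocalRing A] [Module.Finite A M] (hI : I ≠ ⊤)
    (hM : EGA4.IsNormallyFlat I M) {ys : List A} (h : IsWeaklyRegular (A ⧸ I) ys) :
    IsWeaklyRegular M ys :=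
  isWeaklyRegular_of_truncation hI ys M (isWeaklyRegular_truncation hM h)

/-- depth from a submodule pure in a maximal regular sequence -/
theorem depth_eq_length_of_pure [IsLocalRing A] [Module.Finite A M] [Nontrivial M] {P : Type u} [AddCommGroup P]
    [Module A P] [Module.Finite A P] {ys : List A} (hys : ∀ y ∈ ys, y ∈ maximalIdeal A)
    (hM : IsWeaklyRegular M ys) (f : P →ₗ[A] M)
    (hf : ∀ x : P, f x ∈ Ideal.ofList ys • (⊤ : Submodule A M) → x ∈ Ideal.ofList ys • (⊤ : Submodule A P))
    (hP : LocCoh.depth A (P ⧸ (Ideal.ofList ys • (⊤ : Submodule A P))) = 0) :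
    LocCoh.depth A M = ys.length := by
  rw [← EGA4Alg4.depth_quotient_add_length hM hys]
  have h0 : LocCoh.depth A (M ⧸ (Ideal.ofList ys • (⊤ : Submodule A M))) = 0 := by
    rw [EGA4Alg4.depth_eq_zero_iff] at hP ⊢
    refine IsAssociatedPrime.map_of_injective
      (Submodule.mapQ _ _ f (Submodule.smul_top_le_comap_smul_top _ f)) hP ?_
    rw [injective_iff_map_eq_zero]
    intro z hz
    obtain ⟨x, rfl⟩ := Submodule.Quotient.mk_surjective _ z
    rw [Submodule.mapQ_apply, Submodule.Quotient.mk_eq_zero] at hz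
    exact (Submodule.Quotient.mk_eq_zero _).mpr (hf x hz)
  rw [h0, zero_add]

end Groth.Agent.EGA4H10
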